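import Cfsg.Agent.Lib.Lie.Sz.Group
import Cfsg.Agent.Lib.Recog.SuzukiFixed

/-! The two descriptions of the Suzuki group agree. -/

set_option autoImplicit false

namespace Cfsg.Agent.Suz

open Matrix

variable {F : Type*} [Field F] {m : ℕ} [Fintype F] (hS : SzField F m)
include hS

/-- Plücker coordinates of two vectors on the four distinguished pairs. -/
def plu (v u : Fin 4 → F) (p : Fin 4) : F :=
  v (Cfsg.Lie.pairOf p).1 * u (Cfsg.Lie.pairOf p).2 - v (Cfsg.Lie.pairOf p).2 * u (Cfsg.Lie.pairOf p).1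

omit hS [Fintype F] in
theorem pairOf_vals : Cfsg.Lie.pairOf 0 = ((0 : Fin 4), (1 : Fin 4)) ∧
    Cfsg.Lie.pairOf 1 = ((0 : Fin 4), (2 : Fin 4)) ∧ Cfsg.Lie.pairOf 2 = ((1 : Fin 4), (3 : Fin 4)) ∧
    Cfsg.Lie.pairOf 3 = ((2 : Fin 4), (3 : Fin 4)) := ⟨rfl, rfl, rfl, rfl⟩

/-- The property characterising the vectors spanning points of the ovoid. -/
def Polar (m : ℕ) (v : Fin 4 → F) : Prop :=
  ∃ (u : Fin 4 → F) (c : F), c ≠ 0 ∧ Cfsg.Lie.altForm4 v u = 0 ∧ ∀ p, plu v u p = c * th m (v p)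

theorem polar_inf : Polar m (![1, 0, 0, 0] : Fin 4 → F) := by
  refine ⟨![0, 1, 0, 0], 1, one_ne_zero, by simp [Cfsg.Lie.altForm4], fun p => ?_⟩
  obtain ⟨h0, h1, h2, h3⟩ := pairOf_vals
  fin_cases p <;> simp [plu, h0, h1, h2, h3, th_one, th_zero]

theorem polar_vv (x y : F) : Polar m (vv m x y) := by
  refine ⟨![y + th m x * x, th m x, 1, 0], 1, one_ne_zero, ?_, fun p => ?_⟩
  · simp [vv, Cfsg.Lie.altForm4]
    linear_combination (th m x * x + y) * two hS
  · obtain ⟨h0, h1, h2, h3⟩ := pairOf_vals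
    have htwo : (2 : F) = 0 := two hS
    fin_cases p <;> simp [plu, h0, h1, h2, h3, vv, th_one, th_zero, fo, th_add hS, th_mul, th_pow, th_th hS] <;>
      grind

theorem mem_ovoid_of_polar {v : Fin 4 → F} (hv : v ≠ 0) (h : Polar m v) :
    Projectivization.mk F v hv ∈ suzukiOvoid F m := by
  obtain ⟨u, c, hc, hB, hp⟩ := h
  obtain ⟨h0, h1, h2, h3⟩ := pairOf_vals
  have e0 := hp 0; have e1 := hp 1; have e2 := hp 2; have e3 := hp 3
  simp only [plu, h0, h1, h2, h3] at e0 e1 e2 e3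
  simp only [Cfsg.Lie.altForm4] at hB
  by_cases hv3 : v 3 = 0
  · have hv2 : v 2 = 0 := by
      by_contra hne
      rw [hv3, th_zero, mul_zero] at e3
      have hu3 : u 3 = 0 := by
        rcases mul_eq_zero.1 (show v 2 * u 3 = 0 by linear_combination e3) with e | e
        · exact absurd e hne
        · exact e
      rw [hu3, hv3] at e2
      exact mul_ne_zero hc (th_ne_zero hne) (by linear_combination -e2)
    have hv1 : v 1 = 0 := by
      by_contra hne
      rw [hv2, th_zero, mul_zero, hv3] at e2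
      have hu3 : u 3 = 0 := by
        rcases mul_eq_zero.1 (show v 1 * u 3 = 0 by linear_combination e2) with e | e
        · exact absurd e hne
        · exact e
      rw [hu3, hv2, hv3] at hB
      have hu2 : u 2 = 0 := by
        rcases mul_eq_zero.1 (show v 1 * u 2 = 0 by linear_combination hB) with e | e
        · exact absurd e hne
        · exact e
      rw [hu2, hv2] at e1
      exact mul_ne_zero hc (th_ne_zero hne) (by linear_combination -e1)
    have hv0 : v 0 ≠ 0 := fun e => hv (funext fun i => by fin_cases i <;> assumption)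
    refine mem_ovoid_iff.2 ⟨none, ((Projectivization.mk_eq_mk_iff' F _ _ _ _).2 ⟨(v 0)⁻¹, ?_⟩)⟩
    ext i; fin_cases i <;> simp [hv1, hv2, hv3, hv0]
  · set x := v 2 / v 3 with hxdef
    set y := v 1 / v 3 with hydef
    have hx : v 2 = x * v 3 := by rw [hxdef]; field_simp
    have hy : v 1 = y * v 3 := by rw [hydef]; field_simp
    rw [hx] at e3 e1 hB
    rw [hy] at e2 hB e0
    rw [hx, th_mul] at e2
    rw [hy, th_mul] at e1
    have key : v 0 = fo m x y * v 3 := by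
      have h3' := th_ne_zero (m := m) hv3
      refine mul_left_cancel₀ (mul_ne_zero hc h3') ?_
      simp only [fo]
      linear_combination (norm := (ring_nf; simp [two hS, show (4 : F) = 0 by linear_combination (2 : F) * two hS])) (v 3) * e1 + (v 3 * x) * hB + (v 0 + x * y * v 3) * e3 + (x ^ 2 * v 3) * e2
    refine mem_ovoid_iff.2 ⟨some (x, y), ((Projectivization.mk_eq_mk_iff' F _ _ _ _).2 ⟨(v 3)⁻¹, ?_⟩)⟩
    ext i; fin_cases i <;> simp [vv, hx, hy, key] <;> field_simp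

theorem plu_transfer {g : GL (Fin 4) F} (hg : g ∈ Cfsg.Lie.Sp4 F) (v u : Fin 4 → F)
    (hB : Cfsg.Lie.altForm4 v u = 0) (p : Fin 4) :
    plu ((g : Matrix (Fin 4) (Fin 4) F) *ᵥ v) ((g : Matrix (Fin 4) (Fin 4) F) *ᵥ u) p =
      (Cfsg.Lie.star4 (g : Matrix (Fin 4) (Fin 4) F) *ᵥ plu v u) p := by
  have htwo : (2 : F) = 0 := two hS
  have hJ : ∀ r : Fin 4, (SzFix.J : Matrix (Fin 4) (Fin 4) F) (Cfsg.Lie.pairOf r).1 (Cfsg.Lie.pairOf r).2 = 0 := by
    intro r; fin_cases r <;> simp [SzFix.J, Cfsg.Lie.pairOf]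
  have hp := congrFun (congrFun (SzFix.mul_J_transpose hg) (Cfsg.Lie.pairOf p).1) (Cfsg.Lie.pairOf p).2
  rw [hJ] at hp
  simp only [Matrix.mul_apply, Fin.sum_univ_four, Matrix.transpose_apply, SzFix.J, Matrix.of_apply,
    Matrix.cons_val', Matrix.cons_val_zero, Matrix.cons_val_one, Matrix.cons_val,
    Matrix.cons_val_fin_one] at hp
  obtain ⟨h0, h1, h2, h3⟩ := pairOf_vals
  simp only [Cfsg.Lie.altForm4] at hB
  simp only [plu, Matrix.mulVec, dotProduct, Fin.sum_univ_four, Cfsg.Lie.star4, Matrix.of_apply,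
    h0, h1, h2, h3]
  generalize Cfsg.Lie.pairOf p = a at *
  obtain ⟨k, l⟩ := a
  simp only at hp ⊢
  generalize (g : Matrix (Fin 4) (Fin 4) F) k 0 = a0 at *
  generalize (g : Matrix (Fin 4) (Fin 4) F) k 1 = a1 at *
  generalize (g : Matrix (Fin 4) (Fin 4) F) k 2 = a2 at *
  generalize (g : Matrix (Fin 4) (Fin 4) F) k 3 = a3 at *
  generalize (g : Matrix (Fin 4) (Fin 4) F) l 0 = b0 at *
  generalize (g : Matrix (Fin 4) (Fin 4) F) l 1 = b1 at *
  generalize (g : Matrix (Fin 4) (Fin 4) F) l 2 = b2 at *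
  generalize (g : Matrix (Fin 4) (Fin 4) F) l 3 = b3 at *
  grind

theorem th_sum (s : Fin 4 → F) : th m (∑ r, s r) = ∑ r, th m (s r) := by
  simp only [Fin.sum_univ_four, th_add hS]

theorem polar_smul {g : GL (Fin 4) F} (hg : g ∈ Cfsg.Lie.Sp4 F)
    (hs : Cfsg.Lie.star4 (g : Matrix (Fin 4) (Fin 4) F) =
      (g : Matrix (Fin 4) (Fin 4) F).map (fun x => x ^ (2 ^ (m + 1))))
    {v : Fin 4 → F} (h : Polar m v) : Polar m ((g : Matrix (Fin 4) (Fin 4) F) *ᵥ v) := by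
  obtain ⟨u, c, hc, hB, hp⟩ := h
  refine ⟨(g : Matrix (Fin 4) (Fin 4) F) *ᵥ u, c, hc, (hg v u).trans hB, fun p => ?_⟩
  rw [plu_transfer hS hg v u hB p, hs]
  simp only [Matrix.mulVec, dotProduct, th_sum hS, Finset.mul_sum, Matrix.map_apply, hp]
  refine Finset.sum_congr rfl fun r _ => ?_
  rw [th_mul]
  show (g : Matrix (Fin 4) (Fin 4) F) p r ^ (2 ^ (m + 1)) * (c * th m (v r)) = _
  rw [show (g : Matrix (Fin 4) (Fin 4) F) p r ^ (2 ^ (m + 1)) =
    th m ((g : Matrix (Fin 4) (Fin 4) F) p r) from rfl]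
  ring

theorem exists_preimage {g : GL (Fin 4) F} (hg : g ∈ Cfsg.Lie.Sz F (2 ^ (m + 1))) :
    ∃ k : ↥(Cfsg.Sz F m), Matrix.SpecialLinearGroup.toGL k.1 = g := by
  suffices h : Cfsg.Lie.Sz F (2 ^ (m + 1)) ≤
      (Matrix.SpecialLinearGroup.toGL.comp (Cfsg.Sz F m).subtype).range from h hg
  refine (Subgroup.closure_le _).2 ?_
  rintro g ⟨hsp, hs⟩
  have hdet : (g : Matrix (Fin 4) (Fin 4) F).det = 1 := by
    have h := congrArg Matrix.det (SzFix.transpose_mul_J hsp)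
    rw [Matrix.det_mul, Matrix.det_mul, Matrix.det_transpose,
      show (SzFix.J : Matrix (Fin 4) (Fin 4) F).det = 1 by
        simp [SzFix.J, Matrix.det_succ_row_zero, Fin.sum_univ_succ, Fin.succAbove]
        norm_num, mul_one] at h
    exact sq_inj hS (by linear_combination h)
  let k : Matrix.SpecialLinearGroup (Fin 4) F := ⟨g, hdet⟩
  have hk : k ∈ Cfsg.Sz F m := mem_Sz_of_perm hS fun o => by
    rcases o with _ | ⟨x, y⟩
    · have hne : (g : Matrix (Fin 4) (Fin 4) F) *ᵥ ![1, 0, 0, 0] ≠ 0 :=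
        (smul_ne_zero_iff_ne k).2 (show (![1, 0, 0, 0] : Fin 4 → F) ≠ 0 by simp)
      obtain ⟨o', ho'⟩ := mem_ovoid_iff.1
        (mem_ovoid_of_polar hS hne (polar_smul hS hsp hs (polar_inf hS)))
      exact ⟨o', (smul_mk k _ hne (c := 1) (one_smul _ _).symm).trans ho'.symm⟩
    · have hne : (g : Matrix (Fin 4) (Fin 4) F) *ᵥ vv m x y ≠ 0 :=
        (smul_ne_zero_iff_ne k).2 (vv_ne_zero x y)
      obtain ⟨o', ho'⟩ := mem_ovoid_iff.1
        (mem_ovoid_of_polar hS hne (polar_smul hS hsp hs (polar_vv hS x y)))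
      exact ⟨o', (smul_mk k _ hne (c := 1) (one_smul _ _).symm).trans ho'.symm⟩
  exact ⟨⟨k, hk⟩, Units.ext rfl⟩

theorem gen_uS (a b : F) :
    Matrix.SpecialLinearGroup.toGL (tEl m a b) ∈ Cfsg.Lie.Sz F (2 ^ (m + 1)) := by
  have htwo : (2 : F) = 0 := two hS
  refine Subgroup.subset_closure ⟨fun u v => ?_, ?_⟩
  · show Cfsg.Lie.altForm4 (tMat m a b *ᵥ u) (tMat m a b *ᵥ v) = Cfsg.Lie.altForm4 u v
    simp [tMat, Cfsg.Lie.altForm4, Matrix.mulVec, dotProduct, Fin.sum_univ_four]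
    grind
  · show Cfsg.Lie.star4 (tMat m a b) = (tMat m a b).map (th m)
    obtain ⟨h0, h1, h2, h3⟩ := pairOf_vals
    ext p r
    fin_cases p <;> fin_cases r <;>
      simp [tMat, Cfsg.Lie.star4, h0, h1, h2, h3, th_one, th_zero, th_add hS, th_mul, th_pow,
        th_th hS, fo] <;> grind

theorem gen_dEl (z : Fˣ) :
    Matrix.SpecialLinearGroup.toGL (dEl m z) ∈ Cfsg.Lie.Sz F (2 ^ (m + 1)) := by
  have hz := z.ne_zero
  have hz' := th_ne_zero (m := m) z.ne_zero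
  refine Subgroup.subset_closure ⟨fun u v => ?_, ?_⟩
  · show Cfsg.Lie.altForm4 (dMat m (z : F) *ᵥ u) (dMat m (z : F) *ᵥ v) = Cfsg.Lie.altForm4 u v
    simp [dMat, Cfsg.Lie.altForm4, Matrix.mulVec_diagonal]
    field_simp
  · show Cfsg.Lie.star4 (dMat m (z : F)) = (dMat m (z : F)).map (th m)
    obtain ⟨h0, h1, h2, h3⟩ := pairOf_vals
    ext p r
    fin_cases p <;> fin_cases r <;>
      simp [dMat, Cfsg.Lie.star4, h0, h1, h2, h3, th_zero, th_inv, th_div, th_th hS] <;> field_simp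

theorem gen_wEl : Matrix.SpecialLinearGroup.toGL (wEl : Matrix.SpecialLinearGroup (Fin 4) F) ∈
    Cfsg.Lie.Sz F (2 ^ (m + 1)) := by
  have htwo : (2 : F) = 0 := two hS
  refine Subgroup.subset_closure ⟨fun u v => ?_, ?_⟩
  · show Cfsg.Lie.altForm4 (wMat *ᵥ u) (wMat *ᵥ v) = Cfsg.Lie.altForm4 u v
    simp [wMat, suzukiForm, Cfsg.Lie.altForm4, Matrix.mulVec, dotProduct, Fin.sum_univ_four]
    ring
  · show Cfsg.Lie.star4 (wMat : Matrix (Fin 4) (Fin 4) F) = (wMat : Matrix (Fin 4) (Fin 4) F).map (th m)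
    obtain ⟨h0, h1, h2, h3⟩ := pairOf_vals
    ext p r
    fin_cases p <;> fin_cases r <;>
      simp [wMat, suzukiForm, Cfsg.Lie.star4, h0, h1, h2, h3, th_zero, th_one] <;> grind

theorem toGL_mem (k : ↥(Cfsg.Sz F m)) :
    Matrix.SpecialLinearGroup.toGL k.1 ∈ Cfsg.Lie.Sz F (2 ^ (m + 1)) := by
  have hB : ∀ g ∈ borel m F,
      Matrix.SpecialLinearGroup.toGL (g : ↥(Cfsg.Sz F m)).1 ∈ Cfsg.Lie.Sz F (2 ^ (m + 1)) := by
    intro g hg
    obtain ⟨a, b, z, rfl⟩ := borel_eq hS hg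
    rw [Subgroup.coe_mul, map_mul]
    exact mul_mem (gen_uS hS a b) (gen_dEl hS z)
  by_cases hk : k ∈ borel m F
  · exact hB k hk
  · obtain ⟨a, b, k', hk', rfl⟩ := big_cell hS hk
    rw [Subgroup.coe_mul, Subgroup.coe_mul, map_mul, map_mul]
    exact mul_mem (mul_mem (gen_uS hS a b) (gen_wEl hS)) (hB k' hk')

/-- The two Suzuki groups are isomorphic. -/
noncomputable def szEquiv : ↥(Cfsg.Sz F m) ≃* ↥(Cfsg.Lie.Sz F (2 ^ (m + 1))) :=
  MulEquiv.ofBijective
    ((Matrix.SpecialLinearGroup.toGL.comp (Cfsg.Sz F m).subtype).codRestrict _ (toGL_mem hS))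
    ⟨fun _ _ h => Subtype.ext (Matrix.SpecialLinearGroup.toGL_injective (congrArg Subtype.val h)),
      fun g => by
        obtain ⟨k, hk⟩ := exists_preimage hS g.2
        exact ⟨k, Subtype.ext hk⟩⟩

end Cfsg.Agent.Suz
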