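import Cfsg.Agent.Lib.Lie.Sz.Sylow
import Cfsg.Agent.Lib.Lie.Sz.LieEquiv

/-! Sylow 2-structure transported to arbitrary Sylow subgroups and to the symplectic description. -/

set_option autoImplicit false

namespace Cfsg.Agent.Suz

open Matrix

variable {F : Type*} [Field F] {m : ℕ} [Fintype F] (hS : SzField F m)
include hS

theorem sylow_props (P : Sylow 2 ↥(Cfsg.Sz F m)) :
    Nat.card P = (2 ^ (2 * m + 1)) ^ 2 ∧ Monoid.exponent P = 4 ∧
      Subgroup.center P = commutator P ∧ Nat.card (Subgroup.center P) = 2 ^ (2 * m + 1) := by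
  haveI : Fact (Nat.Prime 2) := ⟨Nat.prime_two⟩
  obtain ⟨g, hg⟩ := exists_conj_unip hS P
  let ψ : unip hS ≃* (P : Subgroup ↥(Cfsg.Sz F m)) :=
    ((unip hS).equivMapOfInjective _ (MulAut.conj g).injective).trans (MulEquiv.subgroupCongr hg.symm)
  have hc : (Subgroup.center (unip hS)).map ψ.toMonoidHom = Subgroup.center P := by
    ext x
    rw [Subgroup.mem_map_equiv, Subgroup.mem_center_iff, Subgroup.mem_center_iff]
    constructor
    · intro h y
      have := congrArg ψ (h (ψ.symm y))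
      simpa using this
    · intro h y
      exact ψ.injective (by simpa using h (ψ y))
  have hd : (commutator (unip hS)).map ψ.toMonoidHom = commutator P := by
    rw [commutator_def, commutator_def, Subgroup.map_commutator,
      Subgroup.map_top_of_surjective _ ψ.surjective]
  refine ⟨?_, ?_, ?_, ?_⟩
  · exact (Nat.card_congr ψ.toEquiv).symm.trans (card_unip hS)
  · exact (Monoid.exponent_eq_of_mulEquiv ψ).symm.trans (exponent_unip hS)
  · rw [← hc, ← hd, center_unip_eq_commutator hS]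
  · rw [← hc, Subgroup.card_map_of_injective ψ.injective, card_center_unip hS]

theorem sylow_maximal (P : Sylow 2 ↥(Cfsg.Sz F m)) :
    IsCoatom (Subgroup.normalizer ((P : Subgroup ↥(Cfsg.Sz F m)) : Set ↥(Cfsg.Sz F m))) ∧
    ∀ M : Subgroup ↥(Cfsg.Sz F m), IsCoatom M → (P : Subgroup ↥(Cfsg.Sz F m)) ≤ M →
      M = Subgroup.normalizer ((P : Subgroup ↥(Cfsg.Sz F m)) : Set ↥(Cfsg.Sz F m)) := by
  haveI : Fact (Nat.Prime 2) := ⟨Nat.prime_two⟩
  obtain ⟨g, hg⟩ := exists_conj_unip hS P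
  have hn : Subgroup.normalizer ((P : Subgroup ↥(Cfsg.Sz F m)) : Set ↥(Cfsg.Sz F m)) =
      (MulAut.conj g).mapSubgroup (borel m F) := by
    rw [hg, ← normalizer_unip hS, MulEquiv.mapSubgroup_apply]
    exact (Subgroup.map_equiv_normalizer_eq _ _).symm
  refine ⟨hn ▸ ((MulAut.conj g).mapSubgroup.isCoatom_iff _).2 (isCoatom_borel hS), fun M hM hle => ?_⟩
  obtain ⟨M', rfl⟩ := (MulAut.conj g).mapSubgroup.surjective M
  rw [hn, only_maximal hS (((MulAut.conj g).mapSubgroup.isCoatom_iff _).1 hM) ?_]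
  exact (MulAut.conj g).mapSubgroup.le_iff_le.1 (by rw [hg] at hle; exact hle)

theorem sylow_real (P : Sylow 2 ↥(Cfsg.Sz F m)) {x : ↥(Cfsg.Sz F m)}
    (hx : x ∈ (P : Subgroup ↥(Cfsg.Sz F m))) (h1 : x ≠ 1) : IsConj x x⁻¹ ↔ orderOf x = 2 := by
  haveI : Fact (Nat.Prime 2) := ⟨Nat.prime_two⟩
  obtain ⟨g, hg⟩ := exists_conj_unip hS P
  rw [hg] at hx
  obtain ⟨u, hu, rfl⟩ := hx
  have hu1 : u ≠ 1 := fun e => h1 (by rw [e, map_one])
  rw [MulEquiv.toMonoidHom_eq_coe, MonoidHom.coe_coe, ← map_inv, MulEquiv.orderOf_eq,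
    ← real_iff hS hu hu1]
  have hc : ∀ y : ↥(Cfsg.Sz F m), IsConj y (MulAut.conj g y) := fun y => isConj_iff.2 ⟨g, rfl⟩
  exact ⟨fun h => ((hc u).trans h).trans (hc u⁻¹).symm, fun h => ((hc u).symm.trans h).trans (hc _)⟩

theorem form_eq {g : Matrix.SpecialLinearGroup (Fin 4) F} (hg : g ∈ Cfsg.Sz F m) :
    (g : Matrix (Fin 4) (Fin 4) F).transpose * Cfsg.suzukiForm F * (g : Matrix (Fin 4) (Fin 4) F) =
      Cfsg.suzukiForm F := by
  haveI := charP hS
  exact SzFix.transpose_mul_J (SzFix.mem_Sz_spec (toGL_mem hS ⟨g, hg⟩)).1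

theorem lie_isSimple : IsSimpleGroup ↥(Cfsg.Lie.Sz F (2 ^ (m + 1))) :=
  haveI := isSimple hS
  haveI : Nontrivial ↥(Cfsg.Lie.Sz F (2 ^ (m + 1))) := (szEquiv hS).injective.nontrivial
  IsSimpleGroup.isSimpleGroup_of_surjective (szEquiv hS).toMonoidHom (szEquiv hS).surjective

theorem lie_structure :
    Nat.card ↥(Cfsg.Lie.Sz F (2 ^ (m + 1))) = (2 ^ (2 * m + 1)) ^ 2 * (2 ^ (2 * m + 1) - 1) * ((2 ^ (2 * m + 1)) ^ 2 + 1) ∧
    ∃ S : Sylow 2 ↥(Cfsg.Lie.Sz F (2 ^ (m + 1))),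
      Nat.card (Subgroup.normalizer ((S : Subgroup ↥(Cfsg.Lie.Sz F (2 ^ (m + 1)))) : Set ↥(Cfsg.Lie.Sz F (2 ^ (m + 1))))) = (2 ^ (2 * m + 1)) ^ 2 * (2 ^ (2 * m + 1) - 1) ∧
      (Subgroup.normalizer ((S : Subgroup ↥(Cfsg.Lie.Sz F (2 ^ (m + 1)))) : Set ↥(Cfsg.Lie.Sz F (2 ^ (m + 1))))).index = (2 ^ (2 * m + 1)) ^ 2 + 1 ∧
      MulAction.IsMultiplyPretransitive ↥(Cfsg.Lie.Sz F (2 ^ (m + 1))) (↥(Cfsg.Lie.Sz F (2 ^ (m + 1))) ⧸ Subgroup.normalizer ((S : Subgroup ↥(Cfsg.Lie.Sz F (2 ^ (m + 1)))) : Set ↥(Cfsg.Lie.Sz F (2 ^ (m + 1))))) 2 ∧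
      ∀ x y : ↥(Cfsg.Lie.Sz F (2 ^ (m + 1))) ⧸ Subgroup.normalizer ((S : Subgroup ↥(Cfsg.Lie.Sz F (2 ^ (m + 1)))) : Set ↥(Cfsg.Lie.Sz F (2 ^ (m + 1)))),
        x ≠ (QuotientGroup.mk 1) → y ≠ (QuotientGroup.mk 1) → ∃! s : ↥(S : Subgroup ↥(Cfsg.Lie.Sz F (2 ^ (m + 1)))), (s : ↥(Cfsg.Lie.Sz F (2 ^ (m + 1)))) • x = y := by
  set e := szEquiv hS with he
  set G' := ↥(Cfsg.Lie.Sz F (2 ^ (m + 1)))
  haveI : Fact (Nat.Prime 2) := ⟨Nat.prime_two⟩
  have hcard : Nat.card G' = Nat.card ↥(Cfsg.Sz F m) := Nat.card_congr e.toEquiv.symm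
  refine ⟨by rw [hcard, card_Sz hS]; ring, ?_⟩
  set U' := (unip hS).map e.toMonoidHom with hU'
  have hidx : U'.index = (unip hS).index := Subgroup.index_map_equiv _ e
  let S : Sylow 2 G' := ((isPGroup_unip hS).map e.toMonoidHom).toSylow
    (by rw [hidx]; exact not_two_dvd_index_unip hS)
  refine ⟨S, ?_⟩
  have hN : Subgroup.normalizer ((S : Subgroup G') : Set G') = (borel m F).map e.toMonoidHom := by
    rw [show (S : Subgroup G') = U' from rfl, ← normalizer_unip hS]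
    exact (Subgroup.map_equiv_normalizer_eq _ _).symm
  have hmk : ∀ g k : ↥(Cfsg.Sz F m),
      ((e g : G') : G' ⧸ Subgroup.normalizer ((S : Subgroup G') : Set G')) = (e k : G') ↔
        g • pt m (none : Option (F × F)) = k • pt m none := by
    intro g k
    rw [QuotientGroup.eq, hN, Subgroup.mem_map_equiv, map_mul, map_inv, MulEquiv.symm_apply_apply,
      MulEquiv.symm_apply_apply]
    show (g⁻¹ * k) • pt m (none : Option (F × F)) = pt m none ↔ _
    rw [mul_smul, inv_smul_eq_iff, eq_comm]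
  have hrep : ∀ x : G' ⧸ Subgroup.normalizer ((S : Subgroup G') : Set G'), x ≠ QuotientGroup.mk 1 →
      ∃ a b : F, x = (e (uS hS a b * wS hS) : G') := by
    intro x hx
    induction x using QuotientGroup.induction_on with
    | _ g =>
      obtain ⟨g, rfl⟩ := e.surjective g
      have hg : g ∉ borel m F := fun hg => hx (by
        rw [← map_one e, hmk, one_smul]; exact hg)
      obtain ⟨a, b, k, hk, rfl⟩ := big_cell hS hg
      refine ⟨a, b, (hmk _ _).2 ?_⟩
      rw [mul_smul, show k • pt m (none : Option (F × F)) = pt m none from hk]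
  have hpoint : ∀ a b : F, (uS hS a b * wS hS) • pt m none = pt m (some (a, b)) := fun a b => by
    rw [mul_smul, show pt m none = suzukiPointInfinity F from rfl, wS_inf, uS_pt_zero]
  have hreg : ∀ x y : G' ⧸ Subgroup.normalizer ((S : Subgroup G') : Set G'),
      x ≠ QuotientGroup.mk 1 → y ≠ QuotientGroup.mk 1 →
      ∃! s : ↥(S : Subgroup G'), (s : G') • x = y := by
    intro x y hx hy
    obtain ⟨a, b, rfl⟩ := hrep x hx
    obtain ⟨c, d, rfl⟩ := hrep y hy
    have hact : ∀ u : ↥(Cfsg.Sz F m),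
        (e u : G') • ((e (uS hS a b * wS hS) : G') : G' ⧸ Subgroup.normalizer ((S : Subgroup G') : Set G'))
          = ((e (uS hS c d * wS hS) : G') : G' ⧸ Subgroup.normalizer ((S : Subgroup G') : Set G')) ↔
        u • pt m (some (a, b)) = pt m (some (c, d)) := by
      intro u
      rw [show (e u : G') • ((e (uS hS a b * wS hS) : G') : G' ⧸ Subgroup.normalizer ((S : Subgroup G') : Set G'))
        = ((e (u * (uS hS a b * wS hS)) : G') : G' ⧸ Subgroup.normalizer ((S : Subgroup G') : Set G')) by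
          rw [map_mul e u]; rfl, hmk, mul_smul, hpoint, hpoint]
    refine ⟨⟨e (uS hS c d * (uS hS a b)⁻¹), ⟨_, mul_mem ((mem_unip hS).2 ⟨c, d, rfl⟩)
      (inv_mem ((mem_unip hS).2 ⟨a, b, rfl⟩)), rfl⟩⟩, ?_, ?_⟩
    · refine (hact _).2 ?_
      rw [mul_smul, show (uS hS a b)⁻¹ • pt m (some (a, b)) = pt m (some ((0 : F), 0)) by
        rw [inv_smul_eq_iff, uS_pt_zero], uS_pt_zero]
    · rintro ⟨_, u, hu, rfl⟩ h
      obtain ⟨p, r, rfl⟩ := (mem_unip hS).1 hu
      have h' := (hact _).1 h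
      have h2 : (uS hS p r * uS hS a b) • pt m (some ((0 : F), 0)) = pt m (some (c, d)) := by
        rw [mul_smul, uS_pt_zero, h']
      rw [uS_mul, uS_pt_zero] at h2
      obtain ⟨e1, e2⟩ := Prod.mk.inj (Option.some.inj (pt_injective h2))
      refine Subtype.ext (show (e (uS hS p r) : G') = e (uS hS c d * (uS hS a b)⁻¹) from
        congrArg e ?_)
      rw [eq_mul_inv_iff_mul_eq, uS_mul, e1, e2]
  refine ⟨?_, ?_, ?_, hreg⟩
  · rw [hN, Subgroup.card_map_of_injective (f := e.toMonoidHom) e.injective, card_borel hS]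
  · rw [hN]; exact (Subgroup.index_map_equiv _ e).trans (index_borel hS)
  · rw [MulAction.is_two_pretransitive_iff]
    intro a b c d hab hcd
    induction a using QuotientGroup.induction_on with
    | _ g =>
    induction c using QuotientGroup.induction_on with
    | _ k =>
    have hb : g⁻¹ • b ≠ QuotientGroup.mk 1 := fun h => hab (by
      rw [inv_smul_eq_iff] at h; rw [h, MulAction.Quotient.smul_mk, smul_eq_mul, mul_one])
    have hd : k⁻¹ • d ≠ QuotientGroup.mk 1 := fun h => hcd (by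
      rw [inv_smul_eq_iff] at h; rw [h, MulAction.Quotient.smul_mk, smul_eq_mul, mul_one])
    obtain ⟨s, hs, -⟩ := hreg _ _ hb hd
    refine ⟨k * s * g⁻¹, ?_, ?_⟩
    · rw [MulAction.Quotient.smul_mk, smul_eq_mul, inv_mul_cancel_right, QuotientGroup.eq,
        _root_.mul_inv_rev, mul_assoc, inv_mul_cancel, mul_one]
      exact inv_mem (Subgroup.le_normalizer s.2)
    · rw [mul_smul, mul_smul, hs, smul_inv_smul]

end Cfsg.Agent.Suz
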