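import Cfsg.Agent.Lib.Lie.Sz.Group

/-! The Suzuki group as a Zassenhaus group. -/

set_option autoImplicit false

namespace Cfsg.Agent.Suz

open Matrix

variable {F : Type*} [Field F] {m : ℕ} [Fintype F] (hS : SzField F m)
include hS

theorem isZassenhaus : Cfsg.IsZassenhausGroup (Cfsg.Sz F m) (Cfsg.suzukiOvoid F m) := by
  have hfix : ∀ g : ↥(Cfsg.Sz F m), (∀ a : suzukiOvoid F m, g • a = a) → g = 1 := fun g h =>
    eq_one_of_forall_fix hS fun o => congrArg Subtype.val (h ⟨pt m o, mem_ovoid_iff.2 ⟨o, rfl⟩⟩)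
  have h2 := pretransitive2 hS
  have h2' : ∀ {a b c d : suzukiOvoid F m}, a ≠ b → c ≠ d →
      ∃ g : ↥(Cfsg.Sz F m), g • a = c ∧ g • b = d := MulAction.is_two_pretransitive_iff.1 h2
  have hne01 : pt m (none : Option (F × F)) ≠ pt m (some ((0 : F), 0)) := pt_ne hS (by simp)
  refine ⟨⟨fun {g k} h => ?_⟩, h2, ?_, ?_, ?_⟩
  · exact (inv_mul_eq_one.1 (hfix (g⁻¹ * k) fun a => by
      rw [mul_smul, inv_smul_eq_iff]; exact (h a).symm))
  · intro g a b c hab hbc hac ha hb hc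
    obtain ⟨k, hk0, hk1⟩ := h2'
      (a := (⟨pt m none, mem_ovoid_iff.2 ⟨_, rfl⟩⟩ : suzukiOvoid F m))
      (b := (⟨pt m (some (0, 0)), mem_ovoid_iff.2 ⟨_, rfl⟩⟩ : suzukiOvoid F m))
      (c := a) (d := b) (fun e => hne01 (congrArg Subtype.val e)) hab
    obtain ⟨o, ho⟩ := exists_pt_smul hS k⁻¹
      (Classical.choose (mem_ovoid_iff.1 c.2))
    rw [Classical.choose_spec (mem_ovoid_iff.1 c.2)] at ho
    have ho1 : k⁻¹ • c = (⟨pt m o, mem_ovoid_iff.2 ⟨_, rfl⟩⟩ : suzukiOvoid F m) := Subtype.ext ho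
    have key : ∀ p q : suzukiOvoid F m, k • p = q → g • q = q → (k⁻¹ * g * k) • p = p := by
      intro p q hpq hq
      rw [mul_smul, mul_smul, hpq, hq, inv_smul_eq_iff, hpq]
    have e0 := congrArg Subtype.val (key _ _ hk0 ha)
    have e1 := congrArg Subtype.val (key _ _ hk1 hb)
    have e2 := congrArg Subtype.val (key _ c (inv_smul_eq_iff.1 ho1).symm hc)
    rcases o with _ | ⟨x, y⟩
    · exact absurd ((inv_smul_eq_iff.1 ho1).trans hk0) (Ne.symm hac)
    have hxy : ¬ (x = 0 ∧ y = 0) := by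
      rintro ⟨rfl, rfl⟩
      exact absurd ((inv_smul_eq_iff.1 ho1).trans hk1) (Ne.symm hbc)
    have h1 := eq_one_of_fix_three hS hxy e0 e1 e2
    exact conj_eq_one_iff.1 (show k⁻¹ * g * (k⁻¹)⁻¹ = 1 by rw [inv_inv]; exact h1)
  · obtain ⟨y, hy0, hy1⟩ := exists_ne_zero_one hS
    refine ⟨hTor hS (Units.mk0 y hy0), fun e => hy1 ?_,
      ⟨pt m none, mem_ovoid_iff.2 ⟨_, rfl⟩⟩, ⟨pt m (some (0, 0)), mem_ovoid_iff.2 ⟨_, rfl⟩⟩,
      fun e => hne01 (congrArg Subtype.val e), Subtype.ext (hTor_inf hS _),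
      Subtype.ext ?_⟩
    · exact congrArg Units.val (hTor_injective hS (e.trans (hTor_one hS).symm))
    · show hTor hS _ • pt m (some ((0 : F), 0)) = pt m (some (0, 0))
      rw [hTor_pt, mul_zero, mul_zero]
  · intro N hN hT
    haveI := hN
    have hne : N ≠ ⊥ := by
      rintro rfl
      obtain ⟨⟨g, hg⟩, hgab⟩ := hT.exists_smul_eq
        (⟨pt m none, mem_ovoid_iff.2 ⟨_, rfl⟩⟩ : suzukiOvoid F m)
        (⟨pt m (some (0, 0)), mem_ovoid_iff.2 ⟨_, rfl⟩⟩ : suzukiOvoid F m)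
      rw [Subgroup.mem_bot] at hg
      subst hg
      have : pt m (none : Option (F × F)) = pt m (some (0, 0)) := by
        simpa using congrArg Subtype.val hgab
      exact hne01 this
    obtain rfl := ((isSimple hS).eq_bot_or_eq_top_of_normal N hN).resolve_left hne
    refine ⟨⟨pt m none, mem_ovoid_iff.2 ⟨_, rfl⟩⟩, fun hbot => ?_⟩
    have hmem : (⟨uS hS 1 0, Subgroup.mem_top _⟩ : (⊤ : Subgroup ↥(Cfsg.Sz F m))) ∈
        MulAction.stabilizer (⊤ : Subgroup ↥(Cfsg.Sz F m))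
          (⟨pt m none, mem_ovoid_iff.2 ⟨_, rfl⟩⟩ : suzukiOvoid F m) :=
      Subtype.ext (uS_inf hS 1 0)
    rw [hbot, Subgroup.mem_bot] at hmem
    have h10 : uS hS 1 0 = uS hS 0 0 := (congrArg Subtype.val hmem).trans (uS_zero hS).symm
    exact one_ne_zero (uS_injective hS h10).1

theorem twoPointStab :
    Nonempty (↥(MulAction.stabilizer (Cfsg.Sz F m) (suzukiPointInfinity F) ⊓
        MulAction.stabilizer (Cfsg.Sz F m) (suzukiPointZero F)) ≃* Fˣ) := by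
  let φ : Fˣ →* ↥(MulAction.stabilizer (Cfsg.Sz F m) (suzukiPointInfinity F) ⊓
      MulAction.stabilizer (Cfsg.Sz F m) (suzukiPointZero F)) :=
    (torHom hS).codRestrict _ fun z => ⟨hTor_inf hS z, by
      show hTor hS z • suzukiPointZero F = suzukiPointZero F
      rw [← pt_zero hS, hTor_pt, mul_zero, mul_zero]⟩
  refine ⟨(MulEquiv.ofBijective φ ⟨fun a b h => hTor_injective hS (congrArg Subtype.val h),
    fun g => ?_⟩).symm⟩
  have h0 : (g : ↥(Cfsg.Sz F m)) • suzukiPointInfinity F = suzukiPointInfinity F := g.2.1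
  have h1 : (g : ↥(Cfsg.Sz F m)) • pt m (some ((0 : F), 0)) = pt m (some (0, 0)) := by
    rw [pt_zero hS]; exact g.2.2
  obtain ⟨z, hz⟩ := fix_two hS h0 h1
  exact ⟨z, Subtype.ext hz.symm⟩

end Cfsg.Agent.Suz
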