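import Cfsg.Agent.Lib.Lie.Sz.Basic

/-! The stabilisers in the Suzuki group and its order. -/

set_option autoImplicit false

namespace Cfsg.Agent.Suz

open Matrix

variable {F : Type*} [Field F] {m : ℕ} [Fintype F] (hS : SzField F m)
include hS

theorem indep {A B C : F} (h : ∀ y : F, A * y ^ 2 + B * (th m y * y ^ 2) + C * th m y = 0) :
    A = 0 ∧ B = 0 ∧ C = 0 := by
  classical
  have h1 : A + B + C = 0 := by
    have := h 1
    simpa [th_one] using this
  have hC : C = A + B := by linear_combination h1 - (A + B) * two hS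
  obtain ⟨y, hy0, hy1⟩ : ∃ y : F, y ≠ 0 ∧ y ≠ 1 := by
    by_contra hc
    push Not at hc
    have hle : Fintype.card F ≤ ({0, 1} : Finset F).card := Finset.card_le_card fun y _ => by
      rw [Finset.mem_insert, Finset.mem_singleton]
      exact or_iff_not_imp_left.2 (hc y)
    have := eight_le hS
    have := Finset.card_le_two (a := (0 : F)) (b := 1)
    omega
  have e1 := h y
  have e2 := h y⁻¹
  have hy0' := th_ne_zero (m := m) hy0
  rw [th_inv] at e2
  field_simp at e2
  subst hC
  have hB : B * ((1 + y ^ 2) * (th m y + 1)) = 0 := by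
    linear_combination e1 + e2 - (A * (th m y + y ^ 2)) * two hS
  have hB0 : B = 0 := by
    rcases mul_eq_zero.1 hB with e | e
    · exact e
    exfalso
    rcases mul_eq_zero.1 e with e | e
    · exact hy1 (sq_inj hS (by linear_combination e - two hS))
    · exact hy1 (th_inj hS (m := m) (by rw [th_one]; linear_combination e - two hS))
  subst hB0
  have hA : A * (y ^ 2 + th m y) = 0 := by linear_combination e1
  have hA0 : A = 0 := by
    rcases mul_eq_zero.1 hA with e | e
    · exact e
    exfalso
    have e' : th m y = y ^ 2 := by linear_combination e - y ^ 2 * two hS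
    have e'' := th_th hS y
    rw [e', th_pow, e'] at e''
    have : (y ^ 2) * (y ^ 2 - 1) = 0 := by linear_combination e''
    rcases mul_eq_zero.1 this with e | e
    · exact hy0 ((pow_eq_zero_iff two_ne_zero).1 e)
    · exact hy1 (sq_inj hS (by linear_combination e))
  exact ⟨hA0, rfl, by rw [hA0, add_zero]⟩

theorem th_sq_inj {k l : F} (hl : l ≠ 0) (h : th m k * k ^ 2 = th m l * l ^ 2) : k = l := by
  have hl' := th_ne_zero (m := m) hl
  have hu : th m (k / l) * (k / l) ^ 2 = 1 := by
    rw [th_div, div_pow, div_mul_div_comm, h, div_self (mul_ne_zero hl' (pow_ne_zero _ hl))]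
  refine (div_eq_one_iff_eq hl).1 (th_inj hS (m := m) ?_)
  set u := k / l
  have hu0 : th m u * u ^ 2 ≠ 0 := by rw [hu]; exact one_ne_zero
  have h2 := congrArg (th m) hu
  rw [th_mul, th_pow, th_th hS, th_one] at h2
  rw [th_one]
  refine mul_left_cancel₀ hu0 ?_
  linear_combination h2 - hu

theorem linear_fix {p q r s a : F}
    (h : ∀ x y, fo m (p * x + q * y) (r * x + s * y) = a * fo m x y) :
    q = 0 ∧ r = 0 ∧ s = th m p * p ∧ a = th m p * p ^ 2 := by
  have hy := indep hS (m := m) (A := q * s) (B := th m q * q ^ 2) (C := th m s - a) fun y => by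
    have := h 0 y
    simp only [fo, th_zero, th_mul, mul_zero, zero_add, zero_mul] at this
    linear_combination this
  have hx := indep hS (m := m) (A := p * r) (B := th m p * p ^ 2 - a) (C := th m r) fun x => by
    have := h x 0
    simp only [fo, th_zero, th_mul, mul_zero, add_zero, zero_mul] at this
    linear_combination this
  obtain ⟨-, hq, hs⟩ := hy
  obtain ⟨-, ha, hr⟩ := hx
  have hq0 : q = 0 := by
    rcases mul_eq_zero.1 hq with e | e
    · exact th_eq_zero.1 e
    · exact (pow_eq_zero_iff two_ne_zero).1 e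
  refine ⟨hq0, th_eq_zero.1 hr, th_inj hS (m := m) ?_, (sub_eq_zero.1 ha).symm⟩
  rw [th_mul, th_th hS, sub_eq_zero.1 hs, ← sub_eq_zero.1 ha]
  ring

theorem tMat_mul (a b c d : F) :
    tMat m a b * tMat m c d = tMat m (a + c) (b + d + th m a * c) := by
  have e1 : fo m (a + c) (b + d + th m a * c) =
      fo m c d + (b + th m a * a) * c + a * d + fo m a b := by
    rw [← fo_add hS a b c d]; congr 1 <;> ring
  ext i j
  fin_cases i <;> fin_cases j <;>
    simp [tMat, Matrix.mul_apply, Fin.sum_univ_four, e1, th_add hS] <;> ring_nf <;>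
    linear_combination (-(c * th m a)) * two hS

theorem dMat_tMat (z : Fˣ) (a b : F) :
    dMat m (z : F) * tMat m a b =
      tMat m (par m (z : F) * a) (th m (z : F) * b) * dMat m (z : F) := by
  have hz := z.ne_zero
  have hz' := th_ne_zero (m := m) z.ne_zero
  ext i j
  fin_cases i <;> fin_cases j <;>
    simp [tMat, dMat, Matrix.mul_apply, Fin.sum_univ_four, fo, par, th_mul, th_div, th_pow,
      th_th hS] <;> field_simp

omit hS in
theorem wMat_dMat (z : Fˣ) :
    wMat * dMat m (z : F) = dMat m ((z⁻¹ : Fˣ) : F) * (wMat : Matrix (Fin 4) (Fin 4) F) := by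
  have hz := z.ne_zero
  have hz' := th_ne_zero (m := m) z.ne_zero
  ext i j
  fin_cases i <;> fin_cases j <;>
    simp [wMat, suzukiForm, dMat, Matrix.mul_apply, Fin.sum_univ_four, th_inv] <;> field_simp

omit hS in
theorem dMat_mul (z z' : Fˣ) :
    dMat m (z : F) * dMat m (z' : F) = dMat m ((z * z' : Fˣ) : F) := by
  have := th_ne_zero (m := m) z.ne_zero
  have := th_ne_zero (m := m) z'.ne_zero
  rw [dMat, dMat, dMat, Matrix.diagonal_mul_diagonal]
  congr 1
  ext i
  fin_cases i <;> simp [th_mul] <;> field_simp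

/-- An element of the Suzuki group fixing both base points is in the torus. -/
theorem eq_dEl_of_fix {g : Matrix.SpecialLinearGroup (Fin 4) F} (hg : g ∈ Cfsg.Sz F m)
    (h0 : g • suzukiPointInfinity F = suzukiPointInfinity F)
    (h1 : g • suzukiPointZero F = suzukiPointZero F) : ∃ z : Fˣ, g = dEl m z := by
  have key : ∀ k : Matrix.SpecialLinearGroup (Fin 4) F, k ∈ Cfsg.Sz F m →
      k • suzukiPointInfinity F = suzukiPointInfinity F →
      k • suzukiPointZero F = suzukiPointZero F →
      (k.1 1 0 = 0 ∧ k.1 2 0 = 0 ∧ k.1 3 0 = 0) ∧ (k.1 0 3 = 0 ∧ k.1 1 3 = 0 ∧ k.1 2 3 = 0) ∧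
        k.1 3 1 = 0 ∧ k.1 3 2 = 0 ∧ k.1 3 3 ≠ 0 ∧
        ∀ x y : F, ∃ x' y', k.1 *ᵥ vv m x y = k.1 3 3 • vv m x' y' := by
    intro k hk h0 h1
    have hi := h0
    have hz := h1
    rw [suzukiPointInfinity, Projectivization.smul_mk, Projectivization.mk_eq_mk_iff'] at hi
    rw [suzukiPointZero, Projectivization.smul_mk, Projectivization.mk_eq_mk_iff'] at hz
    obtain ⟨α, hα⟩ := hi
    obtain ⟨δ, hδ⟩ := hz
    have hc0 : k.1 1 0 = 0 ∧ k.1 2 0 = 0 ∧ k.1 3 0 = 0 := by
      refine ⟨?_, ?_, ?_⟩
      · have := congrFun hα 1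
        simpa [Matrix.SpecialLinearGroup.smul_def, Matrix.mulVec, dotProduct, Fin.sum_univ_four] using this.symm
      · have := congrFun hα 2
        simpa [Matrix.SpecialLinearGroup.smul_def, Matrix.mulVec, dotProduct, Fin.sum_univ_four] using this.symm
      · have := congrFun hα 3
        simpa [Matrix.SpecialLinearGroup.smul_def, Matrix.mulVec, dotProduct, Fin.sum_univ_four] using this.symm
    have hc3 : k.1 0 3 = 0 ∧ k.1 1 3 = 0 ∧ k.1 2 3 = 0 := by
      refine ⟨?_, ?_, ?_⟩
      · have := congrFun hδ 0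
        simpa [Matrix.SpecialLinearGroup.smul_def, Matrix.mulVec, dotProduct, Fin.sum_univ_four] using this.symm
      · have := congrFun hδ 1
        simpa [Matrix.SpecialLinearGroup.smul_def, Matrix.mulVec, dotProduct, Fin.sum_univ_four] using this.symm
      · have := congrFun hδ 2
        simpa [Matrix.SpecialLinearGroup.smul_def, Matrix.mulVec, dotProduct, Fin.sum_univ_four] using this.symm
    have hfn : ∀ x y : F, ∃ x' y' c : F, c ≠ 0 ∧ k.1 *ᵥ vv m x y = c • vv m x' y' := by
      intro x y
      have hmem : k • pt m (some (x, y)) ∈ suzukiOvoid F m := by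
        have := (MulAction.mem_stabilizer_set' (Set.toFinite _)).1 hk
          (mem_ovoid_iff.2 ⟨some (x, y), rfl⟩)
        exact this
      obtain ⟨o, ho⟩ := mem_ovoid_iff.1 hmem
      rcases o with _ | ⟨x', y'⟩
      · exfalso
        have he : k • pt m (some (x, y)) = k • suzukiPointInfinity F := ho.symm.trans h0.symm
        exact Option.some_ne_none (x, y) (pt_injective (m := m) (MulAction.injective k he))
      · have ho' := ho
        simp only [pt] at ho'
        rw [Projectivization.smul_mk, eq_comm, Projectivization.mk_eq_mk_iff'] at ho'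
        obtain ⟨c, hc⟩ := ho'
        refine ⟨x', y', c, fun e => ?_, hc.symm⟩
        rw [e, zero_smul] at hc
        exact (smul_ne_zero_iff_ne k).2 (vv_ne_zero (m := m) x y) hc.symm
    have hlin : ∀ x y, k.1 3 1 * y + k.1 3 2 * x + k.1 3 3 ≠ 0 := by
      intro x y
      obtain ⟨x', y', c, hc, he⟩ := hfn x y
      have := congrFun he 3
      simp [vv, Matrix.mulVec, dotProduct, Fin.sum_univ_four, hc0.2.2] at this
      rw [this]; exact hc
    have h31 : k.1 3 1 = 0 := by
      by_contra e
      exact hlin 0 (-k.1 3 3 / k.1 3 1) (by field_simp; ring)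
    have h32 : k.1 3 2 = 0 := by
      by_contra e
      exact hlin (-k.1 3 3 / k.1 3 2) 0 (by field_simp; ring)
    have h33 : k.1 3 3 ≠ 0 := by simpa using hlin 0 0
    refine ⟨hc0, hc3, h31, h32, h33, fun x y => ?_⟩
    obtain ⟨x', y', c, hc, he⟩ := hfn x y
    refine ⟨x', y', ?_⟩
    have := congrFun he 3
    simp [vv, Matrix.mulVec, dotProduct, Fin.sum_univ_four, hc0.2.2, h31, h32] at this
    rw [he, this]
  obtain ⟨⟨g10, g20, g30⟩, ⟨g03, g13, g23⟩, g31, g32, g33, hfun⟩ := key g hg h0 h1
  obtain ⟨-, -, gw31, gw32, -, -⟩ := key (wEl * g * wEl)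
    (mul_mem (mul_mem (wEl_mem hS) hg) (wEl_mem hS))
    (by rw [mul_smul, mul_smul, wEl_inf, h1, wEl_zero])
    (by rw [mul_smul, mul_smul, wEl_zero, h0, wEl_inf])
  have g02 : g.1 0 2 = 0 := by
    rw [Matrix.SpecialLinearGroup.coe_mul, Matrix.SpecialLinearGroup.coe_mul] at gw31
    simpa [wEl, wMat, suzukiForm, Matrix.mul_apply, Fin.sum_univ_four, Matrix.vecMul, dotProduct] using gw31
  have g01 : g.1 0 1 = 0 := by
    rw [Matrix.SpecialLinearGroup.coe_mul, Matrix.SpecialLinearGroup.coe_mul] at gw32
    simpa [wEl, wMat, suzukiForm, Matrix.mul_apply, Fin.sum_univ_four, Matrix.vecMul, dotProduct] using gw32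
  set d := g.1 3 3
  obtain ⟨hq, hr, hs, ha⟩ := linear_fix hS (m := m) (p := g.1 2 2 / d) (q := g.1 2 1 / d)
    (r := g.1 1 2 / d) (s := g.1 1 1 / d) (a := g.1 0 0 / d) fun x y => by
      obtain ⟨x', y', he⟩ := hfun x y
      have e0 := congrFun he 0
      have e1 := congrFun he 1
      have e2 := congrFun he 2
      simp [vv, Matrix.mulVec, dotProduct, Fin.sum_univ_four, g01, g02, g03] at e0
      simp [vv, Matrix.mulVec, dotProduct, Fin.sum_univ_four, g10, g13] at e1
      simp [vv, Matrix.mulVec, dotProduct, Fin.sum_univ_four, g20, g23] at e2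
      have hx : g.1 2 2 / d * x + g.1 2 1 / d * y = x' := by
        field_simp; linear_combination e2
      have hy : g.1 1 2 / d * x + g.1 1 1 / d * y = y' := by
        field_simp; linear_combination e1
      rw [hx, hy]
      field_simp
      linear_combination (-1 : F) * e0
  have g21 : g.1 2 1 = 0 := by simpa [g33] using hq
  have g12 : g.1 1 2 = 0 := by simpa [g33] using hr
  set p := g.1 2 2 / d with hp
  have h22 : g.1 2 2 = d * p := by rw [hp]; field_simp
  have h11 : g.1 1 1 = d * (th m p * p) := by rw [← hs]; field_simp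
  have h00 : g.1 0 0 = d * (th m p * p ^ 2) := by rw [← ha]; field_simp
  have hdet := g.2
  rw [Matrix.det_of_upperTriangular (by
    intro i j h
    fin_cases i <;> fin_cases j <;> simp at h ⊢ <;> assumption)] at hdet
  simp [Fin.prod_univ_four, h00, h11, h22] at hdet
  have hd2 : d ^ 2 * (th m p * p ^ 2) = 1 := sq_inj hS (by linear_combination hdet)
  have hp0 : p ≠ 0 := fun e => by simp [e] at hd2
  refine ⟨Units.mk0 d⁻¹ (inv_ne_zero g33), ?_⟩
  set z := Units.mk0 d⁻¹ (inv_ne_zero g33) with hz
  have hzval : (z : F) = d⁻¹ := rfl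
  have hth := th_ne_zero (m := m) z.ne_zero
  have hpz : p = par m (z : F) := by
    refine th_sq_inj hS (div_ne_zero (pow_ne_zero _ z.ne_zero) hth) ?_
    have hz2 : th m (par m (z : F)) * par m (z : F) ^ 2 = th m (z : F) * par m (z : F) := by
      rw [sq, ← mul_assoc, th_par hS]
    show th m p * p ^ 2 = th m (par m (z : F)) * par m (z : F) ^ 2
    rw [hz2, par]
    field_simp
    rw [hzval]
    field_simp
    linear_combination hd2
  refine Subtype.ext (Matrix.ext fun i j => ?_)
  have e00 : g.1 0 0 = (z : F) := by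
    rw [h00, hzval]; field_simp; linear_combination hd2
  have e22 : g.1 2 2 = (z : F) / th m (z : F) := by
    rw [h22, hpz, par, hzval]; field_simp
  have e11 : g.1 1 1 = th m (z : F) / (z : F) := by
    rw [h11, hpz, th_par hS, hzval]; field_simp
  have e33 : g.1 3 3 = ((z : F))⁻¹ := by rw [hzval, inv_inv]
  fin_cases i <;> fin_cases j <;> simp [dEl, dMat] <;>
    first | assumption

end Cfsg.Agent.Suz
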