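import Cfsg.Agent.Lib.Lie.Sz.Group

/-! The Sylow 2-subgroups of the Suzuki group and their normalisers. -/

set_option autoImplicit false

namespace Cfsg.Agent.Suz

open Matrix
open scoped Pointwise

variable {F : Type*} [Field F] {m : ℕ} [Fintype F] (hS : SzField F m)
include hS

theorem not_two_dvd_index_unip : ¬ 2 ∣ (unip hS).index := by
  intro h
  have hc := (unip hS).card_mul_index
  rw [card_unip hS, card_Sz hS, mul_assoc] at hc
  have := Nat.eq_of_mul_eq_mul_left (by positivity) hc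
  rw [this] at h
  have h2 : 2 ∣ 2 ^ (2 * m + 1) := dvd_pow_self 2 (by omega)
  rcases (Nat.Prime.dvd_mul Nat.prime_two).1 h with h' | h'
  · have h3 : 2 ∣ (2 ^ (2 * m + 1)) ^ 2 := dvd_pow h2 two_ne_zero
    omega
  · have : 0 < 2 ^ (2 * m + 1) := by positivity
    omega

theorem isPGroup_unip : IsPGroup 2 (unip hS) :=
  IsPGroup.of_card (n := (2 * m + 1) * 2) (by rw [card_unip hS, ← pow_mul])

/-- The standard Sylow 2-subgroup. -/
noncomputable def sylowU : Sylow 2 ↥(Cfsg.Sz F m) :=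
  (isPGroup_unip hS).toSylow (not_two_dvd_index_unip hS)

theorem coe_sylowU : (sylowU hS : Subgroup ↥(Cfsg.Sz F m)) = unip hS := rfl

theorem exists_conj_unip [Fact (Nat.Prime 2)] (P : Sylow 2 ↥(Cfsg.Sz F m)) :
    ∃ g, (P : Subgroup ↥(Cfsg.Sz F m)) = (unip hS).map (MulAut.conj g).toMonoidHom := by
  obtain ⟨g, hg⟩ := MulAction.exists_smul_eq ↥(Cfsg.Sz F m) (sylowU hS) P
  exact ⟨g, by rw [← hg]; rfl⟩

theorem eq_none_of_fix {g : ↥(Cfsg.Sz F m)} (hg : g ∈ unip hS) (hg1 : g ≠ 1) {o : Option (F × F)}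
    (h : g • pt m o = pt m o) : o = none := by
  obtain ⟨a, b, rfl⟩ := (mem_unip hS).1 hg
  rcases o with _ | ⟨x, y⟩
  · rfl
  rw [uS_pt] at h
  have h' := Option.some.inj (pt_injective h)
  simp only [Prod.mk.injEq] at h'
  have ha : a = 0 := by linear_combination h'.1
  subst ha
  have hb : b = 0 := by
    have := h'.2
    rw [th_zero, zero_mul] at this
    linear_combination this
  subst hb
  exact absurd (uS_zero hS) hg1

theorem uS_ne_one {a b : F} (h : ¬ (a = 0 ∧ b = 0)) : uS hS a b ≠ 1 := fun e => by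
  rw [← uS_zero hS] at e
  exact h (uS_injective hS e)

/-- Conjugating a non-trivial unipotent element into the radical forces the stabiliser. -/
theorem mem_borel_of_conj_mem {g u : ↥(Cfsg.Sz F m)} (hu : u ∈ unip hS) (hu1 : u ≠ 1)
    (h : g * u * g⁻¹ ∈ unip hS) : g ∈ borel m F := by
  obtain ⟨o, ho⟩ := exists_pt_smul hS g none
  have hne : g * u * g⁻¹ ≠ 1 := fun e => hu1 (conj_eq_one_iff.1 e)
  have : (g * u * g⁻¹) • pt m o = pt m o := by
    rw [← ho, ← mul_smul, inv_mul_cancel_right, mul_smul,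
      show u • pt m none = pt m none from unip_le_borel hS hu]
  obtain rfl := eq_none_of_fix hS h hne this
  exact ho

theorem normalizer_unip :
    Subgroup.normalizer (unip hS : Set ↥(Cfsg.Sz F m)) = borel m F := by
  refine le_antisymm (fun g hg => ?_) (borel_le_normalizer hS)
  have h1 : uS hS 1 0 ≠ 1 := uS_ne_one hS (by simp)
  exact mem_borel_of_conj_mem hS ((mem_unip hS).2 ⟨1, 0, rfl⟩) h1
    ((Subgroup.mem_normalizer_iff.1 hg _).1 ((mem_unip hS).2 ⟨1, 0, rfl⟩))

theorem exists_th_add_ne : ∃ a : F, th m a + a ≠ 0 := by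
  obtain ⟨y, hy0, hy1⟩ := exists_ne_zero_one hS
  refine ⟨y, fun h => ?_⟩
  rcases th_fixed hS (m := m) (show th m y = y by linear_combination h - y * two hS) with e | e
  · exact hy0 e
  · exact hy1 e

theorem comm_uS (a c : F) (b d : F) :
    uS hS a b * uS hS c d * (uS hS a b)⁻¹ * (uS hS c d)⁻¹ = uS hS 0 (th m a * c + th m c * a) := by
  rw [uS_inv, uS_inv, uS_mul, uS_mul, uS_mul]
  congr 1
  · linear_combination (a + c) * two hS
  · simp only [th_add hS, th_mul, th_th hS, th_zero, add_zero, mul_zero, zero_mul]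
    linear_combination (norm := (ring_nf; simp [two hS, neg_eq hS, show (4 : F) = 0 by linear_combination (2 : F) * two hS])) (0 : F) * two hS

/-- The centre of the radical. -/
theorem center_unip_iff (g : unip hS) :
    g ∈ Subgroup.center (unip hS) ↔ ∃ b, (g : ↥(Cfsg.Sz F m)) = uS hS 0 b := by
  obtain ⟨a, b, hab⟩ := (mem_unip hS).1 g.2
  rw [Subgroup.mem_center_iff]
  constructor
  · intro h
    refine ⟨b, ?_⟩
    have key : ∀ c, th m a * c + th m c * a = 0 := by
      intro c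
      have h' := congrArg Subtype.val (h ⟨uS hS c 0, (mem_unip hS).2 ⟨c, 0, rfl⟩⟩)
      simp only [Subgroup.coe_mul, hab] at h'
      have e := comm_uS hS a c b 0
      rw [← h', mul_inv_cancel_right, mul_inv_cancel] at e
      exact (uS_injective hS (e.symm.trans (uS_zero hS).symm)).2
    have ha : a = 0 := by
      have h1 := key 1
      rw [th_one, mul_one, one_mul] at h1
      rcases th_fixed hS (m := m) (show th m a = a by linear_combination h1 - a * two hS) with e | e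
      · exact e
      · exfalso
        obtain ⟨y, hy⟩ := exists_th_add_ne hS (m := m)
        exact hy (by have := key y; rw [e, th_one, one_mul, mul_one] at this; linear_combination this)
    rw [hab, ha]
  · rintro ⟨d, hd⟩ x
    obtain ⟨c, e, hce⟩ := (mem_unip hS).1 x.2
    refine Subtype.ext ?_
    rw [Subgroup.coe_mul, Subgroup.coe_mul, hd, hce, uS_mul, uS_mul]
    congr 1
    · ring
    · rw [th_zero]; ring

theorem center_unip_eq_commutator : Subgroup.center (unip hS) = commutator (unip hS) := by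
  refine le_antisymm (fun g hg => ?_) ?_
  · obtain ⟨b, hb⟩ := (center_unip_iff hS g).1 hg
    obtain ⟨a₀, ha₀⟩ := exists_th_add_ne hS (m := m)
    obtain ⟨k, hk⟩ := exists_th_mul_self hS (b / (th m a₀ + a₀))
    have hmem := Subgroup.commutator_mem_commutator
      (g₁ := (⟨uS hS (k * a₀) 0, (mem_unip hS).2 ⟨_, _, rfl⟩⟩ : unip hS))
      (g₂ := (⟨uS hS k 0, (mem_unip hS).2 ⟨_, _, rfl⟩⟩ : unip hS))
      (H₁ := ⊤) (H₂ := ⊤) (Subgroup.mem_top _) (Subgroup.mem_top _)
    rw [commutator_def]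
    convert hmem using 1
    refine Subtype.ext ?_
    show (g : ↥(Cfsg.Sz F m)) = uS hS (k * a₀) 0 * uS hS k 0 * (uS hS (k * a₀) 0)⁻¹ * (uS hS k 0)⁻¹
    rw [hb, comm_uS]
    congr 1
    rw [th_mul, show th m k * th m a₀ * k + th m k * (k * a₀) = th m k * k * (th m a₀ + a₀) by ring,
      hk, div_mul_cancel₀ _ ha₀]
  · rw [commutator_def, Subgroup.commutator_le]
    rintro x - y -
    rw [center_unip_iff]
    obtain ⟨a, b, hab⟩ := (mem_unip hS).1 x.2
    obtain ⟨c, d, hcd⟩ := (mem_unip hS).1 y.2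
    refine ⟨th m a * c + th m c * a, ?_⟩
    show (x : ↥(Cfsg.Sz F m)) * y * (x : ↥(Cfsg.Sz F m))⁻¹ * (y : ↥(Cfsg.Sz F m))⁻¹ = _
    rw [hab, hcd, comm_uS]

theorem card_center_unip : Nat.card (Subgroup.center (unip hS)) = 2 ^ (2 * m + 1) := by
  let e : F → Subgroup.center (unip hS) := fun b =>
    ⟨⟨uS hS 0 b, (mem_unip hS).2 ⟨0, b, rfl⟩⟩, (center_unip_iff hS _).2 ⟨b, rfl⟩⟩
  have he : Function.Bijective e := by
    refine ⟨fun b b' h => (uS_injective hS (congrArg (fun z => z.1.1) h)).2, fun z => ?_⟩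
    obtain ⟨b, hb⟩ := (center_unip_iff hS z.1).1 z.2
    exact ⟨b, Subtype.ext (Subtype.ext hb.symm)⟩
  rw [← Nat.card_eq_of_bijective e he, Nat.card_eq_fintype_card, hS.card]

theorem pow_four_unip {g : ↥(Cfsg.Sz F m)} (hg : g ∈ unip hS) : g ^ 4 = 1 := by
  obtain ⟨a, b, rfl⟩ := (mem_unip hS).1 hg
  rw [show uS hS a b ^ 4 = (uS hS a b ^ 2) ^ 2 from pow_mul _ 2 2, uS_sq, uS_sq, th_zero, zero_mul, uS_zero]

theorem exponent_unip : Monoid.exponent (unip hS) = 4 := by
  refine Nat.dvd_antisymm (Monoid.exponent_dvd_of_forall_pow_eq_one fun g =>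
    Subtype.ext (by rw [SubmonoidClass.coe_pow, pow_four_unip hS g.2]; rfl)) ?_
  have h : orderOf (⟨uS hS 1 0, (mem_unip hS).2 ⟨1, 0, rfl⟩⟩ : unip hS) = 4 := by
    rw [← Subgroup.orderOf_coe]
    haveI : Fact (Nat.Prime 2) := ⟨Nat.prime_two⟩
    refine orderOf_eq_prime_pow (p := 2) (n := 1) ?_ (pow_four_unip hS ((mem_unip hS).2 ⟨1, 0, rfl⟩))
    rw [pow_one, uS_sq]
    exact uS_ne_one hS (by simp [th_one])
  exact h.symm.dvd.trans (Monoid.order_dvd_exponent _)

theorem map_conj_le_of_le {M : Subgroup ↥(Cfsg.Sz F m)} (hM : unip hS ≤ M)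
    (hne : ¬ M ≤ borel m F) : M = ⊤ := by
  obtain ⟨k, hk, hkB⟩ := SetLike.not_le_iff_exists.1 hne
  obtain ⟨o, ho⟩ := exists_pt_smul hS k none
  have htr : ∀ o' : Option (F × F), ∃ l ∈ M, l • pt m none = pt m o' := by
    rcases o with _ | ⟨a, b⟩
    · exact absurd ho hkB
    intro o'
    rcases o' with _ | ⟨x, y⟩
    · exact ⟨1, one_mem _, one_smul _ _⟩
    refine ⟨uS hS x y * (uS hS a b)⁻¹ * k,
      mul_mem (mul_mem (hM ((mem_unip hS).2 ⟨x, y, rfl⟩))
        (inv_mem (hM ((mem_unip hS).2 ⟨a, b, rfl⟩)))) hk, ?_⟩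
    rw [mul_smul, ho, mul_smul]
    rw [show (uS hS a b)⁻¹ • pt m (some (a, b)) = pt m (some ((0 : F), 0)) by
      rw [inv_smul_eq_iff, uS_pt_zero], uS_pt_zero]
  have hconj : ∀ g, (unip hS).map (MulAut.conj g).toMonoidHom ≤ M := by
    intro g
    obtain ⟨o', ho'⟩ := exists_pt_smul hS g none
    obtain ⟨l, hl, hl'⟩ := htr o'
    have hb : l⁻¹ * g ∈ borel m F := by
      show (l⁻¹ * g) • pt m none = pt m none
      rw [mul_smul, ho', ← hl', inv_smul_smul]
    rintro x ⟨u, hu, rfl⟩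
    have := (Subgroup.mem_normalizer_iff.1 (borel_le_normalizer hS hb) u).1 hu
    have h2 := mul_mem (mul_mem hl (hM this)) (inv_mem hl)
    convert h2 using 1
    simp [MulAut.conj_apply]
    group
  haveI := isSimple hS
  have hN : Subgroup.normalClosure (unip hS : Set ↥(Cfsg.Sz F m)) ≤ M := by
    refine (Subgroup.closure_le _).2 fun x hx => ?_
    obtain ⟨u, hu, hux⟩ := Group.mem_conjugatesOfSet_iff.1 hx
    obtain ⟨g, hg⟩ := isConj_iff.1 hux
    exact hconj g ⟨u, hu, hg⟩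
  rcases Subgroup.normalClosure_normal.eq_bot_or_eq_top (H := Subgroup.normalClosure (unip hS : Set ↥(Cfsg.Sz F m))) with h | h
  · exfalso
    have := Subgroup.subset_normalClosure ((mem_unip hS).2 ⟨1, 0, rfl⟩ : uS hS 1 0 ∈ unip hS)
    rw [h, SetLike.mem_coe, Subgroup.mem_bot] at this
    exact uS_ne_one hS (by simp) this
  · exact top_le_iff.1 (h ▸ hN)

theorem borel_ne_top : borel m F ≠ ⊤ := by
  intro h
  have := index_borel hS
  rw [h, Subgroup.index_top] at this
  have : 0 < 2 ^ (2 * m + 1) := by positivity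
  nlinarith

theorem isCoatom_borel : IsCoatom (borel m F) := by
  refine ⟨borel_ne_top hS, fun M hM => ?_⟩
  exact map_conj_le_of_le hS ((unip_le_borel hS).trans hM.le) hM.not_ge

theorem only_maximal {M : Subgroup ↥(Cfsg.Sz F m)} (hM : IsCoatom M) (h : unip hS ≤ M) :
    M = borel m F := by
  by_cases hle : M ≤ borel m F
  · rcases hle.lt_or_eq with hlt | he
    · exact absurd (hM.2 _ hlt) (borel_ne_top hS)
    · exact he
  · exact absurd (map_conj_le_of_le hS h hle) hM.1

theorem not_real {a b : F} (ha : a ≠ 0) : ¬ IsConj (uS hS a b) (uS hS a b)⁻¹ := by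
  rw [isConj_iff]
  rintro ⟨g, hg⟩
  have hu : uS hS a b ∈ unip hS := (mem_unip hS).2 ⟨a, b, rfl⟩
  have hgB := mem_borel_of_conj_mem hS hu (uS_ne_one hS (by simp [ha]))
    (hg ▸ inv_mem hu)
  obtain ⟨c, d, z, rfl⟩ := borel_eq hS hgB
  have h1 : uS hS c d * (hTor hS z * uS hS a b * (hTor hS z)⁻¹) * (uS hS c d)⁻¹ =
      (uS hS a b)⁻¹ := by rw [← hg]; group
  rw [hTor_conj, uS_inv, uS_inv, uS_mul, uS_mul] at h1
  obtain ⟨e1, e2⟩ := uS_injective hS h1
  have hp : par m (z : F) * a = a := by linear_combination e1 - c * two hS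
  have hz := par_eq_one hS (m := m) (z := z) (mul_right_cancel₀ ha (hp.trans (one_mul a).symm))
  subst hz
  simp only [Units.val_one, th_one, one_mul, par, one_pow, div_one, th_add hS] at e2
  have h3 : th m c * a + th m a * c = th m a * a := by
    linear_combination e2 - (d + th m c * c) * two hS
  refine th_add_self_ne_one hS (m := m) (c / a) ?_
  rw [th_div]
  have := th_ne_zero (m := m) ha
  field_simp
  linear_combination h3

theorem real_iff {g : ↥(Cfsg.Sz F m)} (hg : g ∈ unip hS) (h1 : g ≠ 1) :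
    IsConj g g⁻¹ ↔ orderOf g = 2 := by
  obtain ⟨a, b, rfl⟩ := (mem_unip hS).1 hg
  haveI : Fact (Nat.Prime 2) := ⟨Nat.prime_two⟩
  constructor
  · intro h
    have ha : a = 0 := by_contra fun ha => not_real hS ha h
    subst ha
    exact orderOf_eq_prime (by rw [uS_sq, th_zero, zero_mul, uS_zero]) h1
  · intro h
    have hinv : (uS hS a b)⁻¹ = uS hS a b := by
      refine inv_eq_of_mul_eq_one_right ?_
      rw [← sq, ← h, pow_orderOf_eq_one]
    rw [hinv]

theorem exists_two_generators :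
    ∃ a b : ↥(Cfsg.Sz F m), Subgroup.closure ({a, b} : Set ↥(Cfsg.Sz F m)) = ⊤ := by
  obtain ⟨ζ, hζ⟩ := IsCyclic.exists_generator (α := Fˣ)
  refine ⟨hTor hS ζ, uS hS 1 0 * wS hS, ?_⟩
  set M := Subgroup.closure ({hTor hS ζ, uS hS 1 0 * wS hS} : Set ↥(Cfsg.Sz F m))
  have hh : hTor hS ζ ∈ M := Subgroup.subset_closure (by simp)
  have hgm : uS hS 1 0 * wS hS ∈ M := Subgroup.subset_closure (by simp)
  have hH : ∀ z, hTor hS z ∈ M := by
    intro z
    obtain ⟨k, rfl⟩ := Subgroup.mem_zpowers_iff.1 (hζ z)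
    have e : hTor hS (ζ ^ k) = hTor hS ζ ^ k := map_zpow (torHom hS) ζ k
    rw [e]; exact zpow_mem hh k
  obtain ⟨y, hy0, hy1⟩ := exists_ne_zero_one hS
  obtain ⟨z, hz⟩ := exists_par hS (m := m) (Units.mk0 y hy0)
  rw [Units.val_mk0] at hz
  have hcomm : uS hS 1 0 * hTor hS z * (uS hS 1 0)⁻¹ * (hTor hS z)⁻¹ ∈ M := by
    have h1 := mul_mem (mul_mem (mul_mem hgm (hH z⁻¹)) (inv_mem hgm)) (inv_mem (hH z))
    convert h1 using 1
    rw [_root_.mul_inv_rev, mul_assoc (uS hS 1 0) (wS hS), wS_hTor, inv_inv]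
    group
  have hc : ∃ a₁ b₁, a₁ ≠ 0 ∧ uS hS a₁ b₁ ∈ M := by
    rw [mul_assoc, mul_assoc, ← mul_assoc (hTor hS z), hTor_inv, uS_inv] at hcomm
    rw [← hTor_inv, hTor_conj, uS_mul] at hcomm
    refine ⟨_, _, ?_, hcomm⟩
    rw [hz, mul_one]
    intro e
    exact hy1 (by linear_combination e - two hS)
  obtain ⟨a₁, b₁, ha₁, hm1⟩ := hc
  have hsq : ∀ k : F, uS hS 0 k ∈ M := by
    intro k
    by_cases hk : k = 0
    · subst hk; rw [uS_zero]; exact one_mem M
    have hne : th m a₁ * a₁ ≠ 0 := mul_ne_zero (th_ne_zero ha₁) ha₁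
    obtain ⟨z', hz'⟩ := exists_th_unit hS (m := m) (k / (th m a₁ * a₁)) (div_ne_zero hk hne)
    have h1 := mul_mem (mul_mem (hH z') (pow_mem hm1 2)) (inv_mem (hH z'))
    rw [uS_sq, hTor_conj, mul_zero, hz', div_mul_cancel₀ _ hne] at h1
    exact h1
  have hU : unip hS ≤ M := by
    intro g hg
    obtain ⟨a, b, rfl⟩ := (mem_unip hS).1 hg
    by_cases ha : a = 0
    · subst ha; exact hsq b
    obtain ⟨z', hz'⟩ := exists_par hS (m := m) (Units.mk0 (a / a₁) (div_ne_zero ha ha₁))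
    rw [Units.val_mk0] at hz'
    have h1 := mul_mem (mul_mem (hH z') hm1) (inv_mem (hH z'))
    rw [hTor_conj, hz', div_mul_cancel₀ _ ha₁] at h1
    have h2 := mul_mem h1 (hsq (th m (z' : F) * b₁ + b))
    rw [uS_mul] at h2
    convert h2 using 2
    · ring
    · linear_combination (-(th m (z' : F) * b₁)) * two hS
  refine map_conj_le_of_le hS hU fun hle => ?_
  have hw : wS hS ∈ borel m F := by
    have := mul_mem (inv_mem (uS_mem_borel hS 1 0)) (hle hgm)
    rwa [inv_mul_cancel_left] at this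
  have h' : wS hS • suzukiPointInfinity F = suzukiPointInfinity F := hw
  rw [wS_inf] at h'
  exact Option.some_ne_none _ (pt_injective (m := m) h')

end Cfsg.Agent.Suz
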