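import Cfsg.Agent.Lib.Lie.Sz.Eigen
import Mathlib.Tactic.NormNum.Prime

/-! The cyclic tori of the Suzuki group, found by counting the fixed-point-free elements. -/

set_option autoImplicit false

namespace Cfsg.Agent.Suz

section general

variable {G : Type*} [Group G]

/-- The elements conjugate to a non-trivial element of a subgroup. -/
def conjSet (A : Subgroup G) : Set G := {x | ∃ g a, a ∈ A ∧ a ≠ 1 ∧ x = g * a * g⁻¹}

theorem mem_conjSet_of_mem {A : Subgroup G} {a : G} (ha : a ∈ A) (h1 : a ≠ 1) : a ∈ conjSet A :=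
  ⟨1, a, ha, h1, by group⟩

theorem ne_one_of_mem_conjSet {A : Subgroup G} {x : G} (h : x ∈ conjSet A) : x ≠ 1 := by
  obtain ⟨g, a, -, h1, rfl⟩ := h
  exact fun e => h1 (conj_eq_one_iff.1 e)

theorem card_conjSet [Finite G] (A : Subgroup G)
    (hTI : ∀ g, ∀ a ∈ A, a ≠ 1 → g * a * g⁻¹ ∈ A → g ∈ Subgroup.normalizer (A : Set G)) :
    (conjSet A).ncard * Nat.card (Subgroup.normalizer (A : Set G)) = Nat.card G * (Nat.card A - 1) := by
  classical
  let f : G × {a : A // a ≠ 1} → conjSet A := fun p =>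
    ⟨p.1 * (p.2.1 : G) * p.1⁻¹, p.1, p.2.1, p.2.1.2, fun e => p.2.2 (Subtype.ext e), rfl⟩
  haveI : Fintype (conjSet A) := Fintype.ofFinite _
  haveI : Fintype A := Fintype.ofFinite _
  have hfib : ∀ x : conjSet A, Nat.card {p // f p = x} = Nat.card (Subgroup.normalizer (A : Set G)) := by
    rintro ⟨x, g, a, ha, ha1, rfl⟩
    have hc : ∀ n : Subgroup.normalizer (A : Set G), (n : G)⁻¹ * a * (n : G) ∈ A := fun n => by
      simpa using (Subgroup.mem_normalizer_iff.1 (inv_mem n.2) a).1 ha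
    let e : Subgroup.normalizer (A : Set G) → {p // f p = ⟨g * a * g⁻¹, g, a, ha, ha1, rfl⟩} := fun n =>
      ⟨(g * n, ⟨⟨(n : G)⁻¹ * a * n, hc n⟩, fun e => ha1 (by
        have h' := congrArg (fun y : A => (n : G) * (y : G) * (n : G)⁻¹) e
        simpa [mul_assoc] using h')⟩), Subtype.ext (by simp [f, mul_assoc])⟩
    refine (Nat.card_eq_of_bijective e ⟨fun n n' h => ?_, ?_⟩).symm
    · exact Subtype.ext (mul_left_cancel (congrArg (fun p => p.1.1) h))
    · rintro ⟨⟨g', ⟨⟨b, hb⟩, hb1⟩⟩, hp⟩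
      have hp' : g' * b * g'⁻¹ = g * a * g⁻¹ := congrArg Subtype.val hp
      have hba : g⁻¹ * g' * b * (g⁻¹ * g')⁻¹ = a := by
        calc g⁻¹ * g' * b * (g⁻¹ * g')⁻¹ = g⁻¹ * (g' * b * g'⁻¹) * g := by group
          _ = a := by rw [hp']; group
      refine ⟨⟨g⁻¹ * g', hTI _ b hb (fun e => hb1 (Subtype.ext e)) (hba ▸ ha)⟩, Subtype.ext ?_⟩
      refine Prod.ext (mul_inv_cancel_left _ _) (Subtype.ext (Subtype.ext ?_))
      show (g⁻¹ * g')⁻¹ * a * (g⁻¹ * g') = b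
      rw [← hba]; group
  have h1 := Nat.card_congr (Equiv.sigmaFiberEquiv f)
  rw [Nat.card_sigma, Finset.sum_congr rfl (fun x _ => hfib x), Finset.sum_const, Finset.card_univ,
    smul_eq_mul, ← Nat.card_eq_fintype_card, Nat.card_coe_set_eq, Nat.card_prod] at h1
  rw [h1]
  congr 1
  rw [Nat.card_eq_fintype_card, Nat.card_eq_fintype_card,
    Fintype.card_congr (Equiv.subtypeEquivRight (q := fun a : A => ¬ a = 1) fun _ => Iff.rfl),
    Fintype.card_subtype_compl, Fintype.card_subtype_eq]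

theorem centralizer_conj (g x : G) :
    Subgroup.centralizer ({g * x * g⁻¹} : Set G) = (Subgroup.centralizer {x}).map (MulAut.conj g).toMonoidHom := by
  ext y
  rw [Subgroup.mem_map_equiv, Subgroup.mem_centralizer_singleton_iff, Subgroup.mem_centralizer_singleton_iff,
    MulAut.conj_symm_apply]
  constructor
  · intro h
    calc g⁻¹ * y * g * x = g⁻¹ * (y * (g * x * g⁻¹)) * g := by group
      _ = g⁻¹ * ((g * x * g⁻¹) * y) * g := by rw [h]
      _ = _ := by group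
  · intro h
    calc y * (g * x * g⁻¹) = g * ((g⁻¹ * y * g) * x) * g⁻¹ := by group
      _ = g * (x * (g⁻¹ * y * g)) * g⁻¹ := by rw [h]
      _ = _ := by group

theorem card_centralizer_conj (g x : G) :
    Nat.card (Subgroup.centralizer ({g * x * g⁻¹} : Set G)) = Nat.card (Subgroup.centralizer ({x} : Set G)) := by
  rw [centralizer_conj]
  exact Subgroup.card_map_of_injective (MulAut.conj g).injective

theorem mem_normalizer_of_map_conj {A : Subgroup G} {g : G} (h : A.map (MulAut.conj g).toMonoidHom = A) :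
    g ∈ Subgroup.normalizer (A : Set G) := by
  rw [Subgroup.mem_normalizer_iff]
  intro x
  constructor
  · intro hx; rw [← h]; exact ⟨x, hx, rfl⟩
  · intro hx
    rw [← h] at hx
    obtain ⟨y, hy, e⟩ := hx
    have : y = x := by
      have e' : g * y * g⁻¹ = g * x * g⁻¹ := e
      exact mul_left_cancel (mul_right_cancel e')
    exact this ▸ hy

end general

open scoped Pointwise

variable {F : Type*} [Field F] {m : ℕ} [Fintype F] (hS : SzField F m)
include hS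

set_option quotPrecheck false in
local notation "CS" x => Subgroup.centralizer ({x} : Set ↥(Cfsg.Sz F m))

theorem unip_TI (g : ↥(Cfsg.Sz F m)) : ∀ a ∈ unip hS, a ≠ 1 → g * a * g⁻¹ ∈ unip hS →
    g ∈ Subgroup.normalizer (unip hS : Set ↥(Cfsg.Sz F m)) :=
  fun _ ha ha1 h => borel_le_normalizer hS (mem_borel_of_conj_mem hS ha ha1 h)

theorem torus_TI (g : ↥(Cfsg.Sz F m)) : ∀ a ∈ torus hS, a ≠ 1 → g * a * g⁻¹ ∈ torus hS →
    g ∈ Subgroup.normalizer (torus hS : Set ↥(Cfsg.Sz F m)) := by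
  intro a ha ha1 h
  obtain ⟨z, rfl⟩ := mem_torus hS ha
  obtain ⟨z', hz'⟩ := mem_torus hS h
  have hz : z ≠ 1 := fun e => ha1 (by rw [e, hTor_one])
  have hz1 : z' ≠ 1 := fun e => ha1 (by rw [e, hTor_one] at hz'; exact conj_eq_one_iff.1 hz')
  refine mem_normalizer_of_map_conj ?_
  rw [← centralizer_torus hS hz, ← centralizer_conj, hz', centralizer_torus hS hz1, centralizer_torus hS hz]

theorem FPF.TI {x : ↥(Cfsg.Sz F m)} (hx : FPF m x) (g : ↥(Cfsg.Sz F m)) :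
    ∀ a ∈ (CS x), a ≠ 1 → g * a * g⁻¹ ∈ (CS x) →
      g ∈ Subgroup.normalizer ((CS x) : Set ↥(Cfsg.Sz F m)) := by
  intro a ha ha1 h
  refine mem_normalizer_of_map_conj ?_
  rw [← FPF.cent hS hx ha ha1, ← centralizer_conj,
    FPF.cent hS hx h (fun e => ha1 (conj_eq_one_iff.1 e)), FPF.cent hS hx ha ha1]

theorem self_mem_cs (x : ↥(Cfsg.Sz F m)) : x ∈ (CS x) := Subgroup.mem_centralizer_singleton_iff.2 rfl

theorem card_normalizer_torus :
    Nat.card (Subgroup.normalizer (torus hS : Set ↥(Cfsg.Sz F m))) = 2 * (2 ^ (2 * m + 1) - 1) := by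
  classical
  have hw : wS hS ∈ Subgroup.normalizer (torus hS : Set ↥(Cfsg.Sz F m)) := by
    refine mem_normalizer_of_map_conj ?_
    refine Subgroup.eq_of_le_of_card_ge ?_ (le_of_eq (Subgroup.card_map_of_injective (MulAut.conj _).injective).symm)
    rintro _ ⟨y, hy, rfl⟩
    obtain ⟨z, rfl⟩ := mem_torus hS hy
    show wS hS * hTor hS z * (wS hS)⁻¹ ∈ torus hS
    rw [wS_hTor, mul_inv_cancel_right]; exact hTor_mem_torus hS _
  have hle : torus hS ≤ Subgroup.normalizer (torus hS : Set ↥(Cfsg.Sz F m)) := Subgroup.le_normalizer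
  let e : Bool × Fˣ → Subgroup.normalizer (torus hS : Set ↥(Cfsg.Sz F m)) := fun p =>
    ⟨cond p.1 (wS hS * hTor hS p.2) (hTor hS p.2), by
      cases p.1
      · exact hle (hTor_mem_torus hS _)
      · exact mul_mem hw (hle (hTor_mem_torus hS _))⟩
  have hwne : ∀ z z', wS hS * hTor hS z ≠ hTor hS z' := by
    intro z z' h
    have h' := congrArg (· • suzukiPointInfinity F) h
    simp only [mul_smul, hTor_inf, wS_inf] at h'
    exact Option.some_ne_none _ (pt_injective (m := m) h')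
  have he : Function.Bijective e := by
    refine ⟨fun p p' h => ?_, fun g => ?_⟩
    · obtain ⟨b, z⟩ := p; obtain ⟨b', z'⟩ := p'
      have h' := congrArg Subtype.val h
      cases b <;> cases b' <;> simp only [e, cond] at h'
      · rw [hTor_injective hS h']
      · exact absurd h'.symm (hwne _ _)
      · exact absurd h' (hwne _ _)
      · rw [hTor_injective hS (mul_left_cancel h')]
    · obtain ⟨y, hy0, hy1⟩ := exists_ne_zero_one hS
      obtain ⟨z, hz⟩ := exists_par hS (m := m) (Units.mk0 y hy0)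
      have hz1 : z ≠ 1 := fun e => hy1 (by
        rw [e, Units.val_one, par, th_one, one_pow, div_one, Units.val_mk0] at hz; exact hz.symm)
      have hg := (Subgroup.mem_normalizer_iff.1 g.2 _).1 (hTor_mem_torus hS z)
      obtain ⟨z', hz'⟩ := mem_torus hS hg
      have hz'1 : z' ≠ 1 := fun e => hz1 (by
        rw [e, hTor_one] at hz'
        exact hTor_injective hS ((conj_eq_one_iff.1 hz').trans (hTor_one hS).symm))
      have hfix : ∀ o : Option (F × F), hTor hS z • pt m o = pt m o →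
          ∃ o', (g : ↥(Cfsg.Sz F m)) • pt m o = pt m o' ∧ (o' = none ∨ o' = some (0, 0)) := by
        intro o ho
        obtain ⟨o', ho'⟩ := exists_pt_smul hS (g : ↥(Cfsg.Sz F m)) o
        refine ⟨o', ho', eq_one_or_of_fix hS hz'1 ?_⟩
        rw [← hz', ← ho', ← mul_smul, inv_mul_cancel_right, mul_smul, ho]
      obtain ⟨o₁, ho₁, hc₁⟩ := hfix none (hTor_inf hS z)
      obtain ⟨o₂, ho₂, hc₂⟩ := hfix (some (0, 0)) (by rw [hTor_pt]; simp)
      have hne : o₁ ≠ o₂ := fun e => Option.some_ne_none ((0 : F), (0 : F))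
        (pt_injective (m := m) (MulAction.injective (g : ↥(Cfsg.Sz F m)) (ho₂.trans (e ▸ ho₁).symm)))
      rcases hc₁ with rfl | rfl <;> rcases hc₂ with rfl | rfl
      · exact absurd rfl hne
      · obtain ⟨k, hk⟩ := fix_two hS ho₁ ho₂
        exact ⟨(false, k), Subtype.ext hk.symm⟩
      · obtain ⟨k, hk⟩ := fix_two hS (g := wS hS * g)
          (by rw [mul_smul]; exact (congrArg _ ho₁).trans (wS_zero hS))
          (by rw [mul_smul, ho₂]; exact wS_inf hS)
        refine ⟨(true, k), Subtype.ext ?_⟩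
        show wS hS * hTor hS k = g
        rw [← hk, ← mul_assoc, wS_sq, one_mul]
      · exact absurd rfl hne
  rw [← Nat.card_eq_of_bijective e he, Nat.card_prod, Nat.card_units, Nat.card_eq_fintype_card,
    Nat.card_eq_fintype_card, hS.card, Fintype.card_bool]

theorem orderOf_of_mem_unip {g : ↥(Cfsg.Sz F m)} (h : g ∈ unip hS) : orderOf g ∣ 4 :=
  orderOf_dvd_of_pow_eq_one (pow_four_unip hS h)

theorem orderOf_of_mem_torus {g : ↥(Cfsg.Sz F m)} (h : g ∈ torus hS) : orderOf g ∣ 2 ^ (2 * m + 1) - 1 := by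
  rw [← card_torus hS]
  exact Subgroup.orderOf_dvd_natCard _ h

theorem orderOf_conj' (g c : ↥(Cfsg.Sz F m)) : orderOf (c * g * c⁻¹) = orderOf g :=
  MulEquiv.orderOf_eq (MulAut.conj c) g

theorem FPF_of_mem_conjSet {x y : ↥(Cfsg.Sz F m)} (hx : FPF m x) (hy : y ∈ conjSet (CS x)) : FPF m y := by
  obtain ⟨g, a, ha, ha1, rfl⟩ := hy
  exact FPF.conj hS (FPF.of_comm hS hx (Subgroup.mem_centralizer_singleton_iff.1 ha) ha1) g

/-- Twice the number of fixed-point-free elements. -/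
theorem card_FPF : (2 * ({g : ↥(Cfsg.Sz F m) | FPF m g}.ncard : ℤ)) =
    (2 ^ (2 * m + 1) : ℤ) ^ 3 * ((2 ^ (2 * m + 1) : ℤ) - 1) ^ 2 := by
  classical
  set S := {g : ↥(Cfsg.Sz F m) | FPF m g} with hSdef
  have hu : (Set.univ : Set ↥(Cfsg.Sz F m)) \ {1} = conjSet (unip hS) ∪ conjSet (torus hS) ∪ S := by
    ext g
    simp only [Set.mem_sdiff, Set.mem_univ, true_and, Set.mem_singleton_iff, Set.mem_union]
    constructor
    · intro hg
      rcases trichotomy hS g with ⟨c, hc⟩ | ⟨c, z, hz, hc⟩ | h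
      · exact Or.inl (Or.inl ⟨c⁻¹, _, hc, fun e => hg (conj_eq_one_iff.1 e), by group⟩)
      · refine Or.inl (Or.inr ⟨c⁻¹, _, hTor_mem_torus hS z, fun e => hz ?_, by rw [← hc]; group⟩)
        exact hTor_injective hS (e.trans (hTor_one hS).symm)
      · exact Or.inr h
    · rintro ((h | h) | h)
      · exact ne_one_of_mem_conjSet h
      · exact ne_one_of_mem_conjSet h
      · exact FPF.ne_one h
  have hd1 : Disjoint (conjSet (unip hS)) (conjSet (torus hS)) := by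
    rw [Set.disjoint_left]
    rintro g ⟨c, a, ha, ha1, rfl⟩ ⟨d, b, hb, hb1, he⟩
    have h1 : orderOf a = orderOf b := by
      rw [← orderOf_conj' hS a c, he, orderOf_conj' hS]
    refine ha1 (orderOf_eq_one_iff.1 ?_)
    have h4 := orderOf_of_mem_unip hS ha
    have hq := h1 ▸ orderOf_of_mem_torus hS hb
    refine Nat.eq_one_of_dvd_coprimes ?_ h4 hq
    rw [show (4 : ℕ) = 2 ^ 2 from rfl]
    refine Nat.Coprime.pow_left 2 (Nat.coprime_two_left.2 ?_)
    exact Nat.Even.sub_odd Nat.one_le_two_pow (Nat.even_pow.2 ⟨even_two, by omega⟩) odd_one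
  have hd2 : Disjoint (conjSet (unip hS) ∪ conjSet (torus hS)) S := by
    rw [Set.disjoint_left]
    rintro g (⟨c, a, ha, ha1, rfl⟩ | ⟨c, a, ha, ha1, rfl⟩) h
    · have h' := FPF.conj hS h c⁻¹
      rw [show c⁻¹ * (c * a * c⁻¹) * c⁻¹⁻¹ = a by group] at h'
      exact h' none (unip_le_borel hS ha)
    · have h' := FPF.conj hS h c⁻¹
      rw [show c⁻¹ * (c * a * c⁻¹) * c⁻¹⁻¹ = a by group] at h'
      obtain ⟨z, rfl⟩ := mem_torus hS ha
      exact h' none (hTor_inf hS z)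
  have hcount := congrArg Set.ncard hu
  rw [Set.ncard_sdiff (Set.subset_univ _), Set.ncard_univ, Set.ncard_singleton,
    Set.ncard_union_eq hd2, Set.ncard_union_eq hd1] at hcount
  have hU := card_conjSet (unip hS) (unip_TI hS)
  rw [normalizer_unip hS, card_borel hS, card_unip hS] at hU
  have hH := card_conjSet (torus hS) (torus_TI hS)
  rw [card_normalizer_torus hS, card_torus hS] at hH
  rw [card_Sz hS] at hU hH hcount
  have hq8 : 8 ≤ 2 ^ (2 * m + 1) := hS.card ▸ eight_le hS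
  set q := 2 ^ (2 * m + 1) with hq
  rw [show ((2 : ℤ) ^ (2 * m + 1)) = (q : ℤ) by rw [hq]; push_cast; rfl]
  have h1 : 1 ≤ q ^ 2 := Nat.one_le_pow _ _ (by omega)
  have h2 : 1 ≤ q ^ 2 * (q ^ 2 + 1) * (q - 1) :=
    Nat.mul_pos (Nat.mul_pos h1 (by omega)) (by omega)
  zify [h1, h2, (by omega : 1 ≤ q), (by omega : 1 ≤ q - 1)] at hU hH hcount
  have hqq : ((q : ℤ) ^ 2 * ((q : ℤ) - 1)) ≠ 0 :=
    mul_ne_zero (pow_ne_zero _ (by positivity)) (by omega)
  have hU' : ((conjSet (unip hS)).ncard : ℤ) = ((q : ℤ) ^ 2 + 1) * ((q : ℤ) ^ 2 - 1) :=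
    mul_left_cancel₀ hqq (by linear_combination hU)
  have hH' : 2 * ((conjSet (torus hS)).ncard : ℤ) = (q : ℤ) ^ 2 * ((q : ℤ) ^ 2 + 1) * ((q : ℤ) - 2) :=
    mul_left_cancel₀ (show ((q : ℤ) - 1) ≠ 0 by omega) (by linear_combination hH)
  linear_combination (-2 : ℤ) * hcount - 2 * hU' - hH'

theorem FPF.card_dvd {x : ↥(Cfsg.Sz F m)} (hx : FPF m x) :
    Nat.card (CS x) ∣ 2 ^ (2 * m + 1) + 2 ^ (m + 1) + 1 ∨ Nat.card (CS x) ∣ 2 ^ (2 * m + 1) - 2 ^ (m + 1) + 1 := by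
  haveI := isCyclic_centralizer hS hx
  obtain ⟨g, hg⟩ := IsCyclic.exists_ofOrder_eq_natCard (α := (CS x))
  rw [← hg, ← Subgroup.orderOf_coe]
  refine FPF.orderOf_cases hS (FPF.of_comm hS hx (Subgroup.mem_centralizer_singleton_iff.1 g.2) fun e => ?_)
  rw [← Subgroup.orderOf_coe, e, orderOf_one] at hg
  have h1 : x = 1 := by
    have h := self_mem_cs hS x
    rwa [(Subgroup.eq_bot_iff_card (CS x)).2 hg.symm, Subgroup.mem_bot] at h
  exact hx.ne_one h1

theorem FPF.five_le {x : ↥(Cfsg.Sz F m)} (hx : FPF m x) : 5 ≤ Nat.card (CS x) := by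
  have hd : Nat.card (CS x) ∣ (2 ^ (2 * m + 1)) ^ 2 + 1 := card_dvd_of_FPF hS _ fun k hk hk1 =>
    FPF.of_comm hS hx (Subgroup.mem_centralizer_singleton_iff.1 hk) hk1
  have hodd := (dvd_coprime hd).1
  have h1 : Nat.card (CS x) ≠ 1 := fun e => hx.ne_one (by
    have h := self_mem_cs hS x
    rwa [(Subgroup.eq_bot_iff_card (CS x)).2 e, Subgroup.mem_bot] at h)
  have h3 : ¬ (3 ∣ (2 ^ (2 * m + 1)) ^ 2 + 1) := by
    rw [Nat.dvd_iff_mod_eq_zero, Nat.add_mod, ← pow_mul, show (2 * m + 1) * 2 = 2 * (2 * m + 1) by ring,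
      pow_mul, Nat.pow_mod]
    norm_num
  by_contra hlt
  obtain ⟨k, hk⟩ := hodd
  have : Nat.card (CS x) = 3 := by omega
  exact h3 (this ▸ hd)

theorem FPF.card_normalizer_le {x : ↥(Cfsg.Sz F m)} (hx : FPF m x) :
    Nat.card (Subgroup.normalizer ((CS x) : Set ↥(Cfsg.Sz F m))) ≤ 4 * Nat.card (CS x) := by
  classical
  let Y := {y : ↥(Cfsg.Sz F m) // IsConj x y ∧ y * x = x * y}
  let f : Subgroup.normalizer ((CS x) : Set ↥(Cfsg.Sz F m)) → Y := fun n =>
    ⟨n * x * (n : ↥(Cfsg.Sz F m))⁻¹, isConj_iff.2 ⟨n, rfl⟩, Subgroup.mem_centralizer_singleton_iff.1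
      ((Subgroup.mem_normalizer_iff.1 n.2 x).1 (self_mem_cs hS x))⟩
  let r : Y → ↥(Cfsg.Sz F m) := fun y => if h : ∃ n, f n = y then (h.choose : ↥(Cfsg.Sz F m)) else 1
  have hr : ∀ n, (r (f n))⁻¹ * n ∈ (CS x) := by
    intro n
    have h : ∃ n', f n' = f n := ⟨n, rfl⟩
    simp only [r, dif_pos h]
    have he : (h.choose : ↥(Cfsg.Sz F m)) * x * (h.choose : ↥(Cfsg.Sz F m))⁻¹ =
        (n : ↥(Cfsg.Sz F m)) * x * (n : ↥(Cfsg.Sz F m))⁻¹ := congrArg Subtype.val h.choose_spec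
    rw [Subgroup.mem_centralizer_singleton_iff]
    generalize (h.choose : ↥(Cfsg.Sz F m)) = a at he
    calc a⁻¹ * n * x = a⁻¹ * ((n : ↥(Cfsg.Sz F m)) * x * (n : ↥(Cfsg.Sz F m))⁻¹) * n := by group
      _ = a⁻¹ * (a * x * a⁻¹) * n := by rw [he]
      _ = _ := by group
  refine (Nat.card_le_card_of_injective (fun n => (f n, (⟨_, hr n⟩ : (CS x)))) fun n n' h => ?_).trans ?_
  · have h1 : f n = f n' := congrArg Prod.fst h
    have h2 : (r (f n))⁻¹ * (n : ↥(Cfsg.Sz F m)) = (r (f n'))⁻¹ * n' := congrArg (fun p => (p.2 : ↥(Cfsg.Sz F m))) h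
    rw [h1] at h2
    exact Subtype.ext (mul_left_cancel h2)
  · rw [Nat.card_prod]
    exact Nat.mul_le_mul_right _ (card_conj_le_four hS hx)

theorem FPF.eq_of_mem_conjSet {x y : ↥(Cfsg.Sz F m)} (hx : FPF m x) (hy : y ∈ conjSet (CS x)) :
    ∃ g, (CS y) = (CS x).map (MulAut.conj g).toMonoidHom := by
  obtain ⟨g, a, ha, ha1, rfl⟩ := hy
  exact ⟨g, by rw [centralizer_conj, FPF.cent hS hx ha ha1]⟩

theorem FPF.disjoint {x y : ↥(Cfsg.Sz F m)} (hx : FPF m x) (hy : FPF m y) (h : y ∉ conjSet (CS x)) :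
    Disjoint (conjSet (CS x)) (conjSet (CS y)) := by
  rw [Set.disjoint_left]
  intro z hzx hzy
  obtain ⟨g, hg⟩ := FPF.eq_of_mem_conjSet hS hx hzx
  obtain ⟨d, hd⟩ := FPF.eq_of_mem_conjSet hS hy hzy
  have hy' := (hg.symm.trans hd).ge ⟨y, self_mem_cs hS y, rfl⟩
  obtain ⟨a, ha, e⟩ := hy'
  have e' : g * a * g⁻¹ = d * y * d⁻¹ := e
  refine h ⟨d⁻¹ * g, a, ha, fun ea => hy.ne_one (conj_eq_one_iff.1 (by rw [← e', ea]; group)), ?_⟩
  calc y = d⁻¹ * (d * y * d⁻¹) * d := by group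
    _ = _ := by rw [← e']; group

theorem FPF.lower {x : ↥(Cfsg.Sz F m)} (hx : FPF m x) :
    Nat.card ↥(Cfsg.Sz F m) * (Nat.card (CS x) - 1) ≤ (conjSet (CS x)).ncard * (4 * Nat.card (CS x)) := by
  rw [← card_conjSet _ (FPF.TI hS hx)]
  exact Nat.mul_le_mul_left _ (FPF.card_normalizer_le hS hx)

theorem ab_props :
    (2 ^ (2 * m + 1) + 2 ^ (m + 1) + 1) * (2 ^ (2 * m + 1) - 2 ^ (m + 1) + 1) = (2 ^ (2 * m + 1)) ^ 2 + 1 ∧
    Nat.Coprime (2 ^ (2 * m + 1) + 2 ^ (m + 1) + 1) (2 ^ (2 * m + 1) - 2 ^ (m + 1) + 1) ∧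
    5 ≤ 2 ^ (2 * m + 1) - 2 ^ (m + 1) + 1 := by
  have hle : 2 ^ (m + 1) ≤ 2 ^ (2 * m + 1) := Nat.pow_le_pow_right (by omega) (by omega)
  have hprod : (2 ^ (2 * m + 1) + 2 ^ (m + 1) + 1) * (2 ^ (2 * m + 1) - 2 ^ (m + 1) + 1) = (2 ^ (2 * m + 1)) ^ 2 + 1 := by
    have hr2 : (2 ^ (m + 1)) ^ 2 = 2 * 2 ^ (2 * m + 1) := by rw [← pow_mul, ← pow_succ']; ring_nf
    zify [hle] at hr2 ⊢
    linear_combination (-1 : ℤ) * hr2
  refine ⟨hprod, ?_, ?_⟩
  · refine Nat.coprime_of_dvd fun p hp h1 h2 => ?_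
    have hp2 : p ≠ 2 := by
      rintro rfl
      exact (Nat.not_even_iff_odd.2 (dvd_coprime (m := m) (hprod ▸ dvd_mul_right _ _)).1) (even_iff_two_dvd.2 h1)
    have h3 : p ∣ 2 * 2 ^ (m + 1) := by
      have := Nat.dvd_sub h1 h2
      rwa [show 2 ^ (2 * m + 1) + 2 ^ (m + 1) + 1 - (2 ^ (2 * m + 1) - 2 ^ (m + 1) + 1) = 2 * 2 ^ (m + 1) by omega] at this
    rw [← pow_succ'] at h3
    exact hp2 ((Nat.prime_dvd_prime_iff_eq hp Nat.prime_two).1 (hp.dvd_of_dvd_pow h3))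
  · have h : 2 * 2 ^ (m + 1) ≤ 2 ^ (2 * m + 1) := by
      rw [← pow_succ']; exact Nat.pow_le_pow_right (by omega) (by have := hS.one_le; omega)
    have : 4 ≤ 2 ^ (m + 1) := by
      calc 4 = 2 ^ 2 := rfl
        _ ≤ _ := Nat.pow_le_pow_right (by omega) (by have := hS.one_le; omega)
    omega

theorem FPF_of_orderOf_dvd {g : ↥(Cfsg.Sz F m)} (h : orderOf g ∣ (2 ^ (2 * m + 1)) ^ 2 + 1) (h1 : g ≠ 1) :
    FPF m g := by
  obtain ⟨hodd, hcop⟩ := dvd_coprime h
  rcases trichotomy hS g with ⟨c, hc⟩ | ⟨c, z, -, hc⟩ | h'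
  · have h4 := orderOf_of_mem_unip hS hc
    rw [orderOf_conj' hS] at h4
    refine absurd (orderOf_eq_one_iff.1 (Nat.eq_one_of_dvd_coprimes ?_ h4 dvd_rfl)) h1
    exact Nat.Coprime.pow_left 2 (Nat.coprime_two_left.2 hodd)
  · have h4 := orderOf_of_mem_torus hS (g := c * g * c⁻¹) (by rw [hc]; exact hTor_mem_torus hS z)
    rw [orderOf_conj' hS] at h4
    exact absurd (orderOf_eq_one_iff.1 (Nat.eq_one_of_dvd_coprimes hcop dvd_rfl h4)) h1
  · exact h'

/-- The two classes of cyclic tori of fixed-point-free elements. -/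
theorem exists_tori : ∃ x y : ↥(Cfsg.Sz F m),
    (FPF m x ∧ Nat.card (CS x) = 2 ^ (2 * m + 1) + 2 ^ (m + 1) + 1 ∧
      Nat.card (Subgroup.normalizer ((CS x) : Set ↥(Cfsg.Sz F m))) = 4 * Nat.card (CS x)) ∧
    (FPF m y ∧ Nat.card (CS y) = 2 ^ (2 * m + 1) - 2 ^ (m + 1) + 1 ∧
      Nat.card (Subgroup.normalizer ((CS y) : Set ↥(Cfsg.Sz F m))) = 4 * Nat.card (CS y)) ∧
    (∀ z : ↥(Cfsg.Sz F m), FPF m z → z ∈ conjSet (CS x) ∨ z ∈ conjSet (CS y)) := by
  classical
  obtain ⟨hprod, hcop, hb5⟩ := ab_props hS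
  set a := 2 ^ (2 * m + 1) + 2 ^ (m + 1) + 1 with ha
  set b := 2 ^ (2 * m + 1) - 2 ^ (m + 1) + 1 with hb
  have ha5 : 5 ≤ a := le_trans hb5 (by rw [ha, hb]; generalize 2 ^ (m + 1) = r; generalize 2 ^ (2 * m + 1) = q; omega)
  have hab : ∀ {d : ℕ}, d ∣ a ∨ d ∣ b → d ∣ (2 ^ (2 * m + 1)) ^ 2 + 1 := fun {d} h =>
    hprod ▸ h.elim (fun e => e.mul_right _) (fun e => e.mul_left _)
  have hG : (2 ^ (2 * m + 1)) ^ 2 + 1 ∣ Nat.card ↥(Cfsg.Sz F m) :=
    ⟨(2 ^ (2 * m + 1)) ^ 2 * (2 ^ (2 * m + 1) - 1), by rw [card_Sz hS]; ring⟩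
  have hex : ∀ c, c ∣ a ∨ c ∣ b → c ≠ 1 → ∃ x : ↥(Cfsg.Sz F m), FPF m x ∧ Nat.minFac c ∣ Nat.card (CS x) := by
    intro c hc hc1
    haveI : Fact (Nat.minFac c).Prime := ⟨Nat.minFac_prime hc1⟩
    obtain ⟨x, hx⟩ := exists_prime_orderOf_dvd_card' (G := ↥(Cfsg.Sz F m)) (Nat.minFac c)
      ((Nat.minFac_dvd c).trans ((hab hc).trans hG))
    refine ⟨x, FPF_of_orderOf_dvd hS (hx ▸ (Nat.minFac_dvd c).trans (hab hc)) (fun e => ?_),
      hx ▸ Subgroup.orderOf_dvd_natCard _ (self_mem_cs hS x)⟩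
    rw [e, orderOf_one] at hx
    exact (Nat.minFac_prime hc1).ne_one hx.symm
  obtain ⟨x, hx, hxp⟩ := hex a (Or.inl dvd_rfl) (by omega)
  obtain ⟨y, hy, hyp⟩ := hex b (Or.inr dvd_rfl) (by omega)
  have hxa : Nat.card (CS x) ∣ a := by
    rcases FPF.card_dvd hS hx with h | h
    · exact h
    · exact absurd (Nat.eq_one_of_dvd_coprimes hcop (Nat.minFac_dvd a) (hxp.trans h)) (Nat.minFac_prime (by omega)).ne_one
  have hyb : Nat.card (CS y) ∣ b := by
    rcases FPF.card_dvd hS hy with h | h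
    · exact absurd (Nat.eq_one_of_dvd_coprimes hcop (hyp.trans h) (Nat.minFac_dvd b)) (Nat.minFac_prime (by omega)).ne_one
    · exact h
  have hxy : y ∉ conjSet (CS x) := by
    intro h
    obtain ⟨g, hg⟩ := FPF.eq_of_mem_conjSet hS hx h
    have he : Nat.card (CS y) = Nat.card (CS x) := by
      rw [hg]; exact Subgroup.card_map_of_injective (MulAut.conj g).injective
    have := Nat.eq_one_of_dvd_coprimes hcop hxa (he ▸ hyb)
    have := FPF.five_le hS hx
    omega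
  set S := {g : ↥(Cfsg.Sz F m) | FPF m g} with hSdef
  have hN := card_FPF hS
  have hq8 : 8 ≤ 2 ^ (2 * m + 1) := hS.card ▸ eight_le hS
  have hsub : ∀ {u : ↥(Cfsg.Sz F m)}, FPF m u → conjSet (CS u) ⊆ S := fun {u} hu v hv =>
    FPF_of_mem_conjSet hS hu hv
  have hdxy := FPF.disjoint hS hx hy hxy
  have hall : ∀ z : ↥(Cfsg.Sz F m), FPF m z → z ∈ conjSet (CS x) ∨ z ∈ conjSet (CS y) := by
    intro z hz
    by_contra hcon
    push Not at hcon
    have h1 := FPF.disjoint hS hx hz hcon.1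
    have h2 := FPF.disjoint hS hy hz hcon.2
    have hsum : (conjSet (CS x)).ncard + (conjSet (CS y)).ncard + (conjSet (CS z)).ncard ≤ S.ncard := by
      rw [← Set.ncard_union_eq hdxy, ← Set.ncard_union_eq (Set.disjoint_union_left.2 ⟨h1, h2⟩)]
      exact Set.ncard_le_ncard (Set.union_subset (Set.union_subset (hsub hx) (hsub hy)) (hsub hz))
    have hfive : ∀ {u : ↥(Cfsg.Sz F m)}, FPF m u → Nat.card ↥(Cfsg.Sz F m) ≤ 5 * (conjSet (CS u)).ncard := by
      intro u hu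
      have h5 := FPF.five_le hS hu
      have hl := FPF.lower hS hu
      refine Nat.le_of_mul_le_mul_right ?_ (show 0 < 4 * Nat.card (CS u) by omega)
      calc Nat.card ↥(Cfsg.Sz F m) * (4 * Nat.card (CS u))
          ≤ Nat.card ↥(Cfsg.Sz F m) * ((Nat.card (CS u) - 1) * 5) := Nat.mul_le_mul_left _ (by omega)
        _ = (Nat.card ↥(Cfsg.Sz F m) * (Nat.card (CS u) - 1)) * 5 := (mul_assoc _ _ _).symm
        _ ≤ ((conjSet (CS u)).ncard * (4 * Nat.card (CS u))) * 5 := Nat.mul_le_mul_right _ hl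
        _ = _ := by ring
    have hGle : 6 * Nat.card ↥(Cfsg.Sz F m) ≤ 10 * S.ncard := by
      have := hfive hx; have := hfive hy; have := hfive hz; omega
    rw [card_Sz hS] at hGle
    generalize hq : 2 ^ (2 * m + 1) = q at *
    have hqZ : (2 : ℤ) ^ (2 * m + 1) = q := by rw [← hq]; push_cast; rfl
    rw [hqZ] at hN
    zify [(by omega : 1 ≤ q)] at hGle
    have h8 : (8 : ℤ) ≤ q := by exact_mod_cast hq8
    nlinarith [mul_pos (mul_pos (show (0 : ℤ) < (q : ℤ) ^ 2 by positivity) (show (0 : ℤ) < (q : ℤ) - 1 by omega))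
      (show (0 : ℤ) < (q : ℤ) ^ 2 + 5 * q + 6 by positivity)]
  have hdiv : ∀ (u : ↥(Cfsg.Sz F m)) (c : ℕ), FPF m u → (c = a ∨ c = b) →
      (∀ z, FPF m z → Nat.card (CS z) ∣ c → z ∈ conjSet (CS u)) → c ∣ Nat.card (CS u) := by
    intro u c hu hc hcls
    rw [Nat.dvd_iff_prime_pow_dvd_dvd]
    intro p k hp hpk
    rcases Nat.eq_zero_or_pos k with rfl | hk
    · simp
    haveI : Fact p.Prime := ⟨hp⟩
    have hcab : c ∣ a ∨ c ∣ b := hc.imp (fun e => e.dvd) (fun e => e.dvd)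
    obtain ⟨K, hK⟩ := Sylow.exists_subgroup_card_pow_prime p ((hpk.trans (hab hcab)).trans hG)
    haveI : Nontrivial K := Finite.one_lt_card_iff_nontrivial.1 (by
      rw [hK]; exact Nat.one_lt_pow hk.ne' hp.one_lt)
    haveI := (IsPGroup.of_card hK).center_nontrivial
    obtain ⟨⟨z, hz⟩, hz1⟩ := exists_ne (1 : Subgroup.center K)
    have hz1' : (z : ↥(Cfsg.Sz F m)) ≠ 1 := fun e => hz1 (Subtype.ext (Subtype.ext e))
    have hzK : orderOf (z : ↥(Cfsg.Sz F m)) ∣ p ^ k := hK ▸ Subgroup.orderOf_dvd_natCard _ z.2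
    have hzF := FPF_of_orderOf_dvd hS (hzK.trans (hpk.trans (hab hcab))) hz1'
    have hle : K ≤ (CS (z : ↥(Cfsg.Sz F m))) := fun w hw => Subgroup.mem_centralizer_singleton_iff.2
      (congrArg Subtype.val (Subgroup.mem_center_iff.1 hz ⟨w, hw⟩))
    have hpz : p ^ k ∣ Nat.card (CS (z : ↥(Cfsg.Sz F m))) := hK ▸ Subgroup.card_dvd_of_le hle
    obtain ⟨g, hg⟩ := FPF.eq_of_mem_conjSet hS hu (hcls _ hzF (by
      have hpz1 : p ∣ Nat.card (CS (z : ↥(Cfsg.Sz F m))) := (dvd_pow_self p hk.ne').trans hpz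
      have hpc : p ∣ c := (dvd_pow_self p hk.ne').trans hpk
      rcases hc with rfl | rfl
      · rcases FPF.card_dvd hS hzF with h | h
        · exact h
        · exact absurd (Nat.eq_one_of_dvd_coprimes hcop hpc (hpz1.trans h)) hp.ne_one
      · rcases FPF.card_dvd hS hzF with h | h
        · exact absurd (Nat.eq_one_of_dvd_coprimes hcop (hpz1.trans h) hpc) hp.ne_one
        · exact h))
    rwa [hg, show Nat.card ((CS u).map (MulAut.conj g).toMonoidHom : Subgroup ↥(Cfsg.Sz F m)) = Nat.card (CS u) from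
      Subgroup.card_map_of_injective (MulAut.conj g).injective] at hpz
  have hcard : ∀ {u z : ↥(Cfsg.Sz F m)}, FPF m u → z ∈ conjSet (CS u) → Nat.card (CS z) = Nat.card (CS u) := by
    intro u z hu hz
    obtain ⟨g, hg⟩ := FPF.eq_of_mem_conjSet hS hu hz
    rw [hg]; exact Subgroup.card_map_of_injective (MulAut.conj g).injective
  have hxA : Nat.card (CS x) = a := Nat.dvd_antisymm hxa (hdiv x a hx (Or.inl rfl) fun z hz hd => by
    rcases hall z hz with h | h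
    · exact h
    · have := Nat.eq_one_of_dvd_coprimes hcop ((hcard hy h) ▸ hd) hyb
      have := FPF.five_le hS hy
      omega)
  have hyB : Nat.card (CS y) = b := Nat.dvd_antisymm hyb (hdiv y b hy (Or.inr rfl) fun z hz hd => by
    rcases hall z hz with h | h
    · have := Nat.eq_one_of_dvd_coprimes hcop hxa ((hcard hx h) ▸ hd)
      have := FPF.five_le hS hx
      omega
    · exact h)
  have hSeq : S = conjSet (CS x) ∪ conjSet (CS y) :=
    Set.Subset.antisymm (fun z hz => hall z hz) (Set.union_subset (hsub hx) (hsub hy))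
  have hcount := congrArg Set.ncard hSeq
  rw [Set.ncard_union_eq hdxy] at hcount
  have hlx := FPF.lower hS hx
  have hly := FPF.lower hS hy
  have hex := card_conjSet _ (FPF.TI hS hx)
  have hey := card_conjSet _ (FPF.TI hS hy)
  rw [hxA] at hlx hex
  rw [hyB] at hly hey
  have hG' := card_Sz hS
  set G := Nat.card ↥(Cfsg.Sz F m) with hGdef
  set A := (conjSet (CS x)).ncard
  set B := (conjSet (CS y)).ncard
  have hGpos : 0 < G := Nat.card_pos
  have hsum : A * (4 * a) * b + B * (4 * b) * a = G * (a - 1) * b + G * (b - 1) * a := by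
    have hr2 : (2 ^ (m + 1)) ^ 2 = 2 * 2 ^ (2 * m + 1) := by rw [← pow_mul, ← pow_succ']; ring_nf
    have hle : 2 ^ (m + 1) ≤ 2 ^ (2 * m + 1) := Nat.pow_le_pow_right (by omega) (by omega)
    generalize hq : 2 ^ (2 * m + 1) = q at *
    have hqZ : (2 : ℤ) ^ (2 * m + 1) = q := by rw [← hq]; push_cast; rfl
    rw [hqZ] at hN
    zify [(by omega : 1 ≤ a), (by omega : 1 ≤ b), (by omega : 1 ≤ q), hle] at hcount hG' ha hb hr2 hprod ⊢
    rw [hcount] at hN
    rw [hG']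
    linear_combination (2 * (a : ℤ) * b) * hN - (2 * (q : ℤ) ^ 2 * ((q : ℤ) - 1) * ((q : ℤ) + 1)) * hprod +
      ((q : ℤ) ^ 2 * ((q : ℤ) ^ 2 + 1) * ((q : ℤ) - 1)) * (ha + hb)
  have hAx : A * (4 * a) = G * (a - 1) := by
    have := Nat.mul_le_mul_right b hlx
    have := Nat.mul_le_mul_right a hly
    exact Nat.eq_of_mul_eq_mul_right (show 0 < b by omega) (by omega)
  have hBy : B * (4 * b) = G * (b - 1) := by
    have := Nat.mul_le_mul_right b hlx
    have := Nat.mul_le_mul_right a hly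
    exact Nat.eq_of_mul_eq_mul_right (show 0 < a by omega) (by omega)
  have hA0 : 0 < A := Nat.pos_of_ne_zero fun e => by
    rw [e, zero_mul] at hAx
    have : 0 < G * (a - 1) := Nat.mul_pos hGpos (by omega)
    omega
  have hB0 : 0 < B := Nat.pos_of_ne_zero fun e => by
    rw [e, zero_mul] at hBy
    have : 0 < G * (b - 1) := Nat.mul_pos hGpos (by omega)
    omega
  exact ⟨x, y, ⟨hx, hxA, by rw [hxA]; exact Nat.eq_of_mul_eq_mul_left hA0 (hex.trans hAx.symm)⟩,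
    ⟨hy, hyB, by rw [hyB]; exact Nat.eq_of_mul_eq_mul_left hB0 (hey.trans hBy.symm)⟩, hall⟩

end Cfsg.Agent.Suz
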