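import Cfsg.Agent.Lib.Lie.Sz.Partition
import Cfsg.Agent.Lib.Lie.Sz.SylowLie
import Cfsg.Agent.Lib.Spor.MultCore

/-! The Schur multiplier of `Sz(q)` is trivial for `q ≥ 32`. -/

set_option autoImplicit false
set_option linter.unusedSectionVars false

open scoped commutatorElement

namespace Cfsg.Agent.Suz.Mult

open Cfsg.Agent.Suz Cfsg.Agent.Spor.Mult

universe u v

section Forms

variable {F : Type u} [Field F] [Fintype F] {A : Type v} [AddCommGroup A]

/-- An additive map constant outside two points vanishes. -/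
theorem add_const_zero (hq : 5 ≤ Fintype.card F) (h2 : (2 : F) = 0) {g : F → A}
    (hadd : ∀ x y, g (x + y) = g x + g y) {c : A} {u v : F} (hc : ∀ x, x ≠ u → x ≠ v → g x = c) (x : F) : g x = 0 := by
  classical
  -- three points off the bad set with their sum
  have key : ∀ s : Finset F, s.card ≤ 4 → ∃ y, y ∉ s := by
    intro s hs
    by_contra h
    push Not at h
    have := Finset.card_le_card (fun y _ => h y : (Finset.univ : Finset F) ⊆ s)
    rw [Finset.card_univ] at this
    omega
  obtain ⟨a, ha⟩ := key {u, v} (Finset.card_le_two.trans (by norm_num))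
  obtain ⟨b, hb⟩ := key {u, v, u - a, v - a} Finset.card_le_four
  simp only [Finset.mem_insert, Finset.mem_singleton, not_or] at ha hb
  have hc0 : c = 0 := by
    have h1 := hadd a b
    rw [hc a ha.1 ha.2, hc b hb.1 hb.2.1, hc (a + b) (fun e => hb.2.2.1 (eq_sub_of_add_eq' e))
      (fun e => hb.2.2.2 (eq_sub_of_add_eq' e))] at h1
    exact left_eq_add.1 h1
  -- any point is a difference of two good ones
  obtain ⟨y, hy⟩ := key {u, v, u - x, v - x} Finset.card_le_four
  simp only [Finset.mem_insert, Finset.mem_singleton, not_or] at hy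
  have h1 := hadd x y
  rw [hc y hy.1 hy.2.1, hc (x + y) (fun e => hy.2.2.1 (eq_sub_of_add_eq' e))
    (fun e => hy.2.2.2 (eq_sub_of_add_eq' e)), hc0, add_zero] at h1
  exact h1.symm

/-- An alternating biadditive map invariant under scaling vanishes. -/
theorem scale_form_zero (hq : 5 ≤ Fintype.card F) (h2 : (2 : F) = 0) (hA : ∀ a : A, a + a = 0) {β : F → F → A}
    (hl : ∀ x x' y, β (x + x') y = β x y + β x' y) (hr : ∀ x y y', β x (y + y') = β x y + β x y')
    (halt : ∀ x, β x x = 0) (hinv : ∀ l, l ≠ 0 → ∀ x y, β (l * x) (l * y) = β x y) : ∀ x y, β x y = 0 := by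
  classical
  have hneg : ∀ a : A, -a = a := fun a => by rw [neg_eq_iff_add_eq_zero, hA]
  have h0r : ∀ x, β x 0 = 0 := fun x => by have := hr x 0 0; rwa [add_zero, left_eq_add] at this
  have h0l : ∀ y, β 0 y = 0 := fun y => by have := hl 0 0 y; rwa [add_zero, left_eq_add] at this
  have hsym : ∀ x y, β x y = β y x := fun x y => by
    have := halt (x + y)
    rw [hl, hr, hr, halt, halt, zero_add, add_zero] at this
    rw [← hneg (β y x)]
    exact eq_neg_of_add_eq_zero_left this
  set g : F → A := fun r => β 1 r with hg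
  have hadd : ∀ x y, g (x + y) = g x + g y := fun x y => hr 1 x y
  have hg1 : g 1 = 0 := halt 1
  have hinvg : ∀ r, r ≠ 0 → g r⁻¹ = g r := fun r hr0 => by
    show β 1 r⁻¹ = β 1 r
    rw [← hinv r hr0 1 r⁻¹, mul_one, mul_inv_cancel₀ hr0, hsym]
  have hshift : ∀ μ r, μ ≠ 0 → μ ≠ 1 → g (μ * r) + g (r / μ) = g r := by
    intro μ r hμ hμ1
    have hs : (1 : F) + μ ≠ 0 := fun e => hμ1 (by linear_combination e - h2)
    have h1 := hinv (1 + μ) hs 1 r
    rw [mul_one, add_mul, one_mul, hl, hr, hr, show β μ (μ * r) = β 1 r by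
      conv_rhs => rw [← hinv μ hμ 1 r, mul_one]] at h1
    have h3 : β μ r = g (r / μ) := by
      show β μ r = β 1 (r / μ)
      rw [← hinv μ hμ 1 (r / μ), mul_one, mul_div_cancel₀ _ hμ]
    change g r + g (μ * r) + (β μ r + g r) = g r at h1
    rw [h3] at h1
    calc g (μ * r) + g (r / μ) = g r + g (μ * r) + (g (r / μ) + g r) := by
          rw [show g r + g (μ * r) + (g (r / μ) + g r) = g (μ * r) + g (r / μ) + (g r + g r) by abel, hA, add_zero]
      _ = g r := h1
  have hsq : ∀ r, g (r * r) = g r := fun r => by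
    rcases eq_or_ne r 0 with rfl | hr0
    · rw [mul_zero]
    rcases eq_or_ne r 1 with rfl | hr1
    · rw [mul_one]
    have := hshift r r hr0 hr1
    rwa [div_self hr0, hg1, add_zero] at this
  have hfun : ∀ x r, x ≠ 0 → r ≠ 0 → x ≠ r → g (r * r / x) = g (r * r + x) := by
    intro x r hx hr0 hxr
    have h1 := hshift (x / r) r (div_ne_zero hx hr0) (fun e => hxr ((div_eq_one_iff_eq hr0).1 e))
    rw [div_mul_cancel₀ _ hr0, div_div_eq_mul_div] at h1
    rw [hadd, hsq, ← h1]
    calc g (r * r / x) = g x + g x + g (r * r / x) := by rw [hA, zero_add]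
      _ = _ := by abel
  haveI : CharP F 2 := CharTwo.of_one_ne_zero_of_two_eq_zero one_ne_zero h2
  have hgz : ∀ x, g x = 0 := by
    obtain ⟨y, hy⟩ : ∃ y : F, y ∉ ({0, 1} : Finset F) := by
      by_contra h
      push Not at h
      have := Finset.card_le_card (fun y _ => h y : (Finset.univ : Finset F) ⊆ {0, 1})
      rw [Finset.card_univ] at this
      have := this.trans Finset.card_le_two
      omega
    simp only [Finset.mem_insert, Finset.mem_singleton, not_or] at hy
    have hy1 : y + 1 ≠ 0 := fun e => hy.2 (by linear_combination e - h2)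
    refine add_const_zero hq h2 hadd (c := g y) (u := 0) (v := y * (y + 1)) fun z hz hzv => ?_
    -- `z = x (y + 1)` with `x y` a square
    set x := z / (y + 1) with hx
    have hz' : z = x * (y + 1) := (div_mul_cancel₀ _ hy1).symm
    obtain ⟨r, hr⟩ := FiniteField.isSquare_of_char_two
      (CharP.ringChar_of_prime_eq_zero Nat.prime_two (by exact_mod_cast h2)) (x * y)
    have hx0 : x ≠ 0 := div_ne_zero hz hy1
    have hr0 : r ≠ 0 := fun e => mul_ne_zero hx0 hy.1 (by rw [hr, e, mul_zero])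
    have hxr : x ≠ r := fun e => by
      rw [← e] at hr
      exact hzv (by rw [hz', ← mul_left_cancel₀ hx0 hr])
    have := hfun x r hx0 hr0 hxr
    rw [← hr, mul_div_cancel_left₀ _ hx0] at this
    rw [this, hz']
    congr 1
    ring
  intro x y
  rcases eq_or_ne x 0 with rfl | hx
  · exact h0l y
  · rw [show β x y = g (y / x) by
      show β x y = β 1 (y / x)
      rw [← hinv x hx 1 (y / x), mul_one, mul_div_cancel₀ _ hx]]
    exact hgz _

/-- A biadditive map invariant under `(a, b) ↦ (k a, k θ(k) b)` vanishes. -/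
theorem mixed_form_zero {m : ℕ} (hS : SzField F m) (hq : 9 ≤ Fintype.card F) (hA : ∀ a : A, a + a = 0)
    {γ : F → F → A}
    (hl : ∀ x x' y, γ (x + x') y = γ x y + γ x' y) (hr : ∀ x y y', γ x (y + y') = γ x y + γ x y')
    (hinv : ∀ k, k ≠ 0 → ∀ a b, γ (k * a) (k * th m k * b) = γ a b) : ∀ a b, γ a b = 0 := by
  classical
  have h2 := two hS
  have h0r : ∀ x, γ x 0 = 0 := fun x => by have := hr x 0 0; rwa [add_zero, left_eq_add] at this
  have h0l : ∀ y, γ 0 y = 0 := fun y => by have := hl 0 0 y; rwa [add_zero, left_eq_add] at this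
  set f : F → A := fun b => γ 1 b with hf
  have hadd : ∀ x y, f (x + y) = f x + f y := fun x y => hr 1 x y
  -- an element outside the two cubics
  obtain ⟨r, hr0, hr1, hc1, hc2⟩ : ∃ r : F, r ≠ 0 ∧ r ≠ 1 ∧ r ^ 3 + r + 1 ≠ 0 ∧ r ^ 3 + r ^ 2 + 1 ≠ 0 := by
    let P : Polynomial F := Polynomial.X * (Polynomial.X - 1) * (Polynomial.X ^ 3 + Polynomial.X + 1) *
      (Polynomial.X ^ 3 + Polynomial.X ^ 2 + 1)
    have hdeg : P.natDegree = 8 := by simp only [P]; compute_degree!
    by_contra hcon
    push Not at hcon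
    have hP : P ≠ 0 := fun e => by rw [e, Polynomial.natDegree_zero] at hdeg; omega
    have hsub : (Finset.univ : Finset F) ⊆ P.roots.toFinset := fun x _ => by
      rw [Multiset.mem_toFinset, Polynomial.mem_roots hP]
      simp only [P, Polynomial.IsRoot, Polynomial.eval_mul, Polynomial.eval_sub, Polynomial.eval_add,
        Polynomial.eval_pow, Polynomial.eval_X, Polynomial.eval_one, mul_eq_zero, sub_eq_zero]
      by_cases h0 : x = 0
      · exact Or.inl (Or.inl (Or.inl h0))
      by_cases h1 : x = 1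
      · exact Or.inl (Or.inl (Or.inr h1))
      by_cases h3 : x ^ 3 + x + 1 = 0
      · exact Or.inl (Or.inr h3)
      exact Or.inr (hcon x h0 h1 h3)
    have := (Finset.card_le_card hsub).trans ((Multiset.toFinset_card_le _).trans (Polynomial.card_roots' P))
    rw [Finset.card_univ, hdeg] at this
    omega
  set T := th m r with hT
  have hT0 : T ≠ 0 := th_ne_zero hr0
  have hs : r + 1 ≠ 0 := fun e => hr1 (by linear_combination e - h2)
  have hTs : th m (r + 1) = T + 1 := by rw [th_add hS, th_one]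
  set E : F := r * T + T + r + (r * T)⁻¹ + r⁻¹ + T⁻¹ + 1 with hE
  have hE0 : E ≠ 0 := by
    intro e
    have h1 : ((r + 1) * T + 1) * (r * T + (r + 1)) = 0 := by
      have e' : E * (r * T) = 0 := by rw [e, zero_mul]
      rw [hE] at e'
      field_simp at e'
      linear_combination e' + (r * T) * h2
    have hTT : th m T = r ^ 2 := th_th hS r
    rcases mul_eq_zero.1 h1 with h3 | h3
    · have h4 := congrArg (th m) h3
      rw [th_zero, th_add hS, th_mul, hTs, hTT, th_one] at h4
      apply hc1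
      linear_combination (r + 1) * h4 - (r ^ 2) * h3
    · have h4 := congrArg (th m) h3
      rw [th_zero, th_add hS, th_mul, hTT, hTs, ← hT] at h4
      apply hc2
      linear_combination r * h4 - (r ^ 2 + 1) * h3 + (r ^ 3 + r ^ 2 + 1) * h2
  have hfE : ∀ b, f (E * b) = 0 := by
    intro b
    have h1 := hinv (1 + r) (by rwa [add_comm]) 1 b
    rw [mul_one, th_add hS, th_one, ← hT, show (1 + r) * (1 + T) * b = b + T * b + r * b + r * T * b by ring] at h1
    simp only [hl, hr] at h1
    have hk : ∀ y, γ r y = f (y / (r * T)) := fun y => by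
      have h3 := hinv r hr0 1 (y / (r * T))
      rwa [mul_one, ← hT, mul_div_cancel₀ _ (mul_ne_zero hr0 hT0)] at h3
    simp only [hk] at h1
    change f b + f (T * b) + f (r * b) + f (r * T * b) +
      (f (b / (r * T)) + f (T * b / (r * T)) + f (r * b / (r * T)) + f (r * T * b / (r * T))) = f b at h1
    rw [show T * b / (r * T) = r⁻¹ * b by field_simp, show r * b / (r * T) = T⁻¹ * b by field_simp,
      show r * T * b / (r * T) = b by field_simp, show b / (r * T) = (r * T)⁻¹ * b by field_simp] at h1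
    simp only [hE, add_mul, hadd, one_mul]
    rw [← sub_eq_zero] at h1
    rw [← h1]
    abel
  intro a b
  rcases eq_or_ne a 0 with rfl | ha
  · exact h0l b
  · have h3 := hinv a ha 1 (b / (a * th m a))
    rw [mul_one, mul_div_cancel₀ _ (mul_ne_zero ha (th_ne_zero ha))] at h3
    rw [h3]
    have h4 := hfE (b / (a * th m a) / E)
    rwa [mul_div_cancel₀ _ hE0] at h4

end Forms

section Sylow

variable {F : Type u} [Field F] [Fintype F] {m : ℕ} (hS : SzField F m)
  {Δ : Type v} [Group Δ] {σ : Δ →* ↥(Cfsg.Sz F m)} (hsurj : Function.Surjective σ)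
  (hc : σ.ker ≤ Subgroup.center Δ)

include hsurj

/-- A chosen lift. -/
noncomputable def lf (x : ↥(Cfsg.Sz F m)) : Δ := Function.surjInv hsurj x

theorem lf_map (x : ↥(Cfsg.Sz F m)) : σ (lf hsurj x) = x := Function.surjInv_eq hsurj x

/-- The commutator of two lifts. -/
noncomputable def cm (x y : ↥(Cfsg.Sz F m)) : Δ := ⁅lf hsurj x, lf hsurj y⁆

theorem cm_map (x y : ↥(Cfsg.Sz F m)) : σ (cm hsurj x y) = ⁅x, y⁆ := by
  rw [cm, map_commutatorElement, lf_map, lf_map]

theorem cm_inv (x y : ↥(Cfsg.Sz F m)) : (cm hsurj x y)⁻¹ = cm hsurj y x := commutatorElement_inv _ _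

include hc

theorem cm_eq {s t : Δ} : ⁅s, t⁆ = cm hsurj (σ s) (σ t) :=
  bracket_congr hc (lf_map hsurj _).symm (lf_map hsurj _).symm

theorem cm_conj (t : Δ) (x y : ↥(Cfsg.Sz F m)) :
    t * cm hsurj x y * t⁻¹ = cm hsurj (σ t * x * (σ t)⁻¹) (σ t * y * (σ t)⁻¹) := by
  rw [cm, show t * ⁅lf hsurj x, lf hsurj y⁆ * t⁻¹ =
    ⁅t * lf hsurj x * t⁻¹, t * lf hsurj y * t⁻¹⁆ by simp only [commutatorElement_def]; group,
    cm_eq hsurj hc, map_mul, map_mul, map_mul, map_mul, map_inv, lf_map, lf_map]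

theorem cm_mul_left {x x' y : ↥(Cfsg.Sz F m)} (h : Commute (lf hsurj x) (cm hsurj x' y)) :
    cm hsurj (x * x') y = cm hsurj x' y * cm hsurj x y := by
  calc cm hsurj (x * x') y = ⁅lf hsurj x * lf hsurj x', lf hsurj y⁆ := by
        rw [cm_eq hsurj hc, map_mul, lf_map, lf_map, lf_map]
    _ = lf hsurj x * cm hsurj x' y * (lf hsurj x)⁻¹ * cm hsurj x y := by
        simp only [cm, commutatorElement_def]; group
    _ = _ := by rw [h.eq, mul_inv_cancel_right]

theorem cm_mul_right {x y y' : ↥(Cfsg.Sz F m)} (h : Commute (lf hsurj y) (cm hsurj x y')) :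
    cm hsurj x (y * y') = cm hsurj x y * cm hsurj x y' := by
  calc cm hsurj x (y * y') = ⁅lf hsurj x, lf hsurj y * lf hsurj y'⁆ := by
        rw [cm_eq hsurj hc, map_mul, lf_map, lf_map, lf_map]
    _ = cm hsurj x y * (lf hsurj y * cm hsurj x y' * (lf hsurj y)⁻¹) := by
        simp only [cm, commutatorElement_def]; group
    _ = _ := by rw [h.eq, mul_inv_cancel_right]

omit hsurj in
theorem comm_ker {z : Δ} (hz : σ z = 1) (t : Δ) : Commute t z := Subgroup.mem_center_iff.1 (hc hz) t

include hS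

variable (hk : ∀ z ∈ σ.ker, z ^ 2 = 1) (hq : 9 ≤ Fintype.card F)

include hk hq

omit hsurj in
theorem kernel_eq {d : F → F → Δ} (hd : ∀ x y, σ (d x y) = 1)
    (hl : ∀ x x' y, d (x + x') y = d x y * d x' y) (hr : ∀ x y y', d x (y + y') = d x y * d x y') :
    (∀ x, d x x = 1) → (∀ l, l ≠ 0 → ∀ x y, d (l * x) (l * y) = d x y) → ∀ x y, d x y = 1 := by
  intro halt hinv x y
  letI : CommGroup σ.ker := { (inferInstance : Group σ.ker) with
    mul_comm := fun a b => Subtype.ext (Subgroup.mem_center_iff.1 (hc b.2) a) }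
  have h := scale_form_zero (A := Additive σ.ker) (β := fun a b => Additive.ofMul ⟨d a b, hd a b⟩) (by omega)
    (two hS) (fun a => Additive.toMul.injective (Subtype.ext (by
      show ((Additive.toMul a : σ.ker) : Δ) * ((Additive.toMul a : σ.ker) : Δ) = 1
      rw [← sq]; exact hk _ (Additive.toMul a).2)))
    (fun a a' b => Additive.toMul.injective (Subtype.ext (hl a a' b)))
    (fun a b b' => Additive.toMul.injective (Subtype.ext (hr a b b')))
    (fun a => Additive.toMul.injective (Subtype.ext (halt a)))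
    (fun l hl' a b => Additive.toMul.injective (Subtype.ext (hinv l hl' a b))) x y
  exact congrArg (fun a : Additive σ.ker => ((Additive.toMul a : σ.ker) : Δ)) h

omit hsurj in
theorem kernel_eq_mixed {d : F → F → Δ} (hd : ∀ x y, σ (d x y) = 1)
    (hl : ∀ x x' y, d (x + x') y = d x y * d x' y) (hr : ∀ x y y', d x (y + y') = d x y * d x y')
    (hinv : ∀ k, k ≠ 0 → ∀ a b, d (k * a) (k * th m k * b) = d a b) (x y : F) : d x y = 1 := by
  letI : CommGroup σ.ker := { (inferInstance : Group σ.ker) with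
    mul_comm := fun a b => Subtype.ext (Subgroup.mem_center_iff.1 (hc b.2) a) }
  have h := mixed_form_zero hS (A := Additive σ.ker) (γ := fun a b => Additive.ofMul ⟨d a b, hd a b⟩) hq
    (fun a => Additive.toMul.injective (Subtype.ext (by
      show ((Additive.toMul a : σ.ker) : Δ) * ((Additive.toMul a : σ.ker) : Δ) = 1
      rw [← sq]; exact hk _ (Additive.toMul a).2)))
    (fun a a' b => Additive.toMul.injective (Subtype.ext (hl a a' b)))
    (fun a b b' => Additive.toMul.injective (Subtype.ext (hr a b b')))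
    (fun k hk' a b => Additive.toMul.injective (Subtype.ext (hinv k hk' a b))) x y
  exact congrArg (fun a : Additive σ.ker => ((Additive.toMul a : σ.ker) : Δ)) h

omit hk hq in
theorem conj_torus (z : Fˣ) (a b c d : F) :
    lf hsurj (hTor hS z) * cm hsurj (uS hS a b) (uS hS c d) * (lf hsurj (hTor hS z))⁻¹ =
      cm hsurj (uS hS (par m (z : F) * a) (th m (z : F) * b)) (uS hS (par m (z : F) * c) (th m (z : F) * d)) := by
  rw [cm_conj hsurj hc, lf_map, hTor_conj, hTor_conj]

omit hk hq hsurj hc in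
theorem u_mul_center (a b c d : F) (h : th m a * c = 0) : uS hS a b * uS hS c d = uS hS (a + c) (b + d) := by
  rw [uS_mul, h, add_zero]

omit hk hq in
theorem cm_center_ker (x : ↥(Cfsg.Sz F m)) (a b : F) (hx : x = uS hS a b) (d : F) :
    σ (cm hsurj x (uS hS 0 d)) = 1 := by
  rw [cm_map, hx, commutatorElement_def, comm_uS, th_zero]
  simp [uS_zero]

/-- The lifts of the centre of the radical commute among themselves. -/
theorem centre_comm (b b' : F) : cm hsurj (uS hS 0 b) (uS hS 0 b') = 1 := by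
  have hd : ∀ b b', σ (cm hsurj (uS hS 0 b) (uS hS 0 b')) = 1 := fun b b' =>
    cm_center_ker hS hsurj hc _ 0 b rfl b'
  refine kernel_eq hS hc hk hq hd (fun x x' y => ?_) (fun x y y' => ?_)
    (fun x => commutatorElement_self _) (fun l hl x y => ?_) b b'
  · have e : uS hS 0 (x + x') = uS hS 0 x * uS hS 0 x' := by rw [u_mul_center hS _ _ _ _ (mul_zero _), add_zero]
    rw [e, cm_mul_left hsurj hc (comm_ker hc (hd _ _) _)]
    exact (comm_ker hc (hd _ _) _).eq
  · have e : uS hS 0 (y + y') = uS hS 0 y * uS hS 0 y' := by rw [u_mul_center hS _ _ _ _ (mul_zero _), add_zero]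
    rw [e, cm_mul_right hsurj hc (comm_ker hc (hd _ _) _)]
  · obtain ⟨z, hz⟩ := exists_th_unit hS l hl
    conv_rhs => rw [← mul_inv_cancel_right (cm hsurj (uS hS 0 x) (uS hS 0 y)) (lf hsurj (hTor hS z)),
      ← (comm_ker hc (hd _ _) _).eq, conj_torus hS hsurj hc, mul_zero, hz]

/-- The lift of the centre of the radical is centralised by the lift of the radical. -/
theorem radical_comm (a c d : F) : cm hsurj (uS hS a c) (uS hS 0 d) = 1 := by
  have hd : ∀ a b d, σ (cm hsurj (uS hS a b) (uS hS 0 d)) = 1 := fun a b d =>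
    cm_center_ker hS hsurj hc _ a b rfl d
  have hindep : ∀ a b d, cm hsurj (uS hS a b) (uS hS 0 d) = cm hsurj (uS hS a 0) (uS hS 0 d) := by
    intro a b d
    have e : uS hS a b = uS hS a 0 * uS hS 0 b := by rw [u_mul_center hS _ _ _ _ (mul_zero _), add_zero, zero_add]
    rw [e, cm_mul_left hsurj hc (comm_ker hc (hd _ _ _) _), centre_comm hS hsurj hc hk hq, one_mul]
  rw [hindep]
  refine kernel_eq_mixed hS hc hk hq (fun x y => hd x 0 y) (fun x x' y => ?_) (fun x y y' => ?_)
    (fun k hk' x y => ?_) a d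
  · have e := uS_mul hS x 0 x' 0
    rw [zero_add] at e
    rw [← hindep (x + x') (0 + th m x * x') y, ← e, cm_mul_left hsurj hc (comm_ker hc (hd _ _ _) _)]
    exact (comm_ker hc (hd _ _ _) _).eq
  · have e : uS hS 0 (y + y') = uS hS 0 y * uS hS 0 y' := by rw [u_mul_center hS _ _ _ _ (mul_zero _), add_zero]
    rw [e, cm_mul_right hsurj hc (comm_ker hc (hd _ _ _) _)]
  · obtain ⟨z, hz⟩ := exists_par hS (Units.mk0 k hk')
    rw [Units.val_mk0] at hz
    have hth : th m (z : F) = k * th m k := by rw [← hz, mul_comm, th_par hS z]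
    conv_rhs => rw [← mul_inv_cancel_right (cm hsurj (uS hS x 0) (uS hS 0 y)) (lf hsurj (hTor hS z)),
      ← (comm_ker hc (hd _ _ _) _).eq, conj_torus hS hsurj hc, mul_zero, mul_zero, hz, hth]

/-- The section over the centre. -/
theorem exists_section : ∃ s : F → Δ, (∀ b, σ (s b) = uS hS 0 b) ∧ (∀ b b', s (b + b') = s b * s b') ∧
    ∀ (z : Fˣ) b, lf hsurj (hTor hS z) * s b * (lf hsurj (hTor hS z))⁻¹ = s (th m (z : F) * b) := by
  obtain ⟨y, hy0, hy1⟩ := exists_ne_zero_one hS
  obtain ⟨z₀, hz₀⟩ := exists_th_unit hS y hy0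
  have hy : y + 1 ≠ 0 := fun e => hy1 (by linear_combination e - two hS)
  have hmap : ∀ b, σ (cm hsurj (hTor hS z₀) (uS hS 0 (b / (y + 1)))) = uS hS 0 b := fun b => by
    rw [cm_map, commutatorElement_def, hTor_conj, uS_inv, uS_mul, hz₀, th_zero]
    congr 1
    · ring
    · field_simp
      ring
  refine ⟨fun b => cm hsurj (hTor hS z₀) (uS hS 0 (b / (y + 1))), hmap, fun b b' => ?_, fun z b => ?_⟩
  · show cm hsurj _ (uS hS 0 ((b + b') / (y + 1))) = _
    rw [show uS hS 0 ((b + b') / (y + 1)) = uS hS 0 (b / (y + 1)) * uS hS 0 (b' / (y + 1)) by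
      rw [u_mul_center hS _ _ _ _ (mul_zero _), add_zero, add_div]]
    refine cm_mul_right hsurj hc ?_
    have h1 := centre_comm hS hsurj hc hk hq (b / (y + 1)) b'
    rw [← hmap b'] at h1
    nth_rewrite 1 [← lf_map hsurj (uS hS 0 (b / (y + 1)))] at h1
    rw [← cm_eq hsurj hc] at h1
    exact commutatorElement_eq_one_iff_commute.1 h1
  · show lf hsurj (hTor hS z) * cm hsurj (hTor hS z₀) (uS hS 0 (b / (y + 1))) * _ = cm hsurj _ _
    rw [cm_conj hsurj hc, lf_map, hTor_conj, mul_zero, mul_div_assoc, hTor_mul, hTor_inv, hTor_mul]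
    congr 2
    rw [mul_comm z z₀, mul_inv_cancel_right]

/-- The derived group of the preimage of the radical meets the kernel trivially. -/
theorem sylow_two {z : Δ} (hz : σ z = 1) (hmem : z ∈ ⁅(unip hS).comap σ, (unip hS).comap σ⁆) : z = 1 := by
  obtain ⟨s, hs, hsadd, hseq⟩ := exists_section hS hsurj hc hk hq
  have hscomm : ∀ t a b d, σ t = uS hS a b → Commute t (s d) := fun t a b d ht => by
    refine commutatorElement_eq_one_iff_commute.1 ?_
    rw [cm_eq hsurj hc, ht, hs, radical_comm hS hsurj hc hk hq]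
  have hs0 : s 0 = 1 := by
    have := hsadd 0 0
    rwa [add_zero, left_eq_mul] at this
  have hsneg : ∀ b, (s b)⁻¹ = s b := fun b => inv_eq_of_mul_eq_one_right (by
    rw [← hsadd, show b + b = 0 by linear_combination b * two hS, hs0])
  let S : Subgroup Δ :=
    { carrier := Set.range s
      one_mem' := ⟨0, hs0⟩
      mul_mem' := by rintro _ _ ⟨b, rfl⟩ ⟨b', rfl⟩; exact ⟨b + b', hsadd b b'⟩
      inv_mem' := by rintro _ ⟨b, rfl⟩; exact ⟨b, (hsneg b).symm⟩ }
  have hindep : ∀ a b c d, cm hsurj (uS hS a b) (uS hS c d) = cm hsurj (uS hS a 0) (uS hS c 0) := by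
    intro a b c d
    have e1 : ∀ a b, uS hS a b = uS hS a 0 * uS hS 0 b := fun a b => by
      rw [u_mul_center hS _ _ _ _ (mul_zero _), add_zero, zero_add]
    have hz1 : ∀ a b c, cm hsurj (uS hS 0 b) (uS hS a c) = 1 := fun a b c => by
      rw [← cm_inv, radical_comm hS hsurj hc hk hq, inv_one]
    calc cm hsurj (uS hS a b) (uS hS c d)
        = cm hsurj (uS hS a 0 * uS hS 0 b) (uS hS c d) := by rw [← e1]
      _ = cm hsurj (uS hS a 0) (uS hS c d) := by
          rw [cm_mul_left hsurj hc (by rw [hz1]; exact Commute.one_right _), hz1, one_mul]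
      _ = cm hsurj (uS hS a 0) (uS hS c 0 * uS hS 0 d) := by rw [← e1]
      _ = _ := by
          rw [cm_mul_right hsurj hc (by rw [radical_comm hS hsurj hc hk hq]; exact Commute.one_right _),
            radical_comm hS hsurj hc hk hq, mul_one]
  have hD : ∀ a c, σ (cm hsurj (uS hS a 0) (uS hS c 0)) = uS hS 0 (th m a * c + th m c * a) := fun a c => by
    rw [cm_map, commutatorElement_def, comm_uS]
  have hDc : ∀ t a b x y, σ t = uS hS a b → Commute t (cm hsurj (uS hS x 0) (uS hS y 0)) := by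
    intro t a b x y ht
    refine commutatorElement_eq_one_iff_commute.1 ?_
    rw [cm_eq hsurj hc, ht, hD, radical_comm hS hsurj hc hk hq]
  let δ : F → F → Δ := fun a c => cm hsurj (uS hS a 0) (uS hS c 0) * s (th m a * c + th m c * a)
  have hδ : ∀ a c, σ (δ a c) = 1 := fun a c => by
    rw [map_mul, hD, hs, u_mul_center hS _ _ _ _ (mul_zero _), add_zero,
      show th m a * c + th m c * a + (th m a * c + th m c * a) = 0 by
        linear_combination (th m a * c + th m c * a) * two hS, uS_zero]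
  have hlin : ∀ a a' c, cm hsurj (uS hS (a + a') 0) (uS hS c 0) =
      cm hsurj (uS hS a 0) (uS hS c 0) * cm hsurj (uS hS a' 0) (uS hS c 0) := by
    intro a a' c
    have hcm := hDc (lf hsurj (uS hS a 0)) a 0 a' c (lf_map hsurj _)
    have hcm2 : Commute (cm hsurj (uS hS a 0) (uS hS c 0)) (cm hsurj (uS hS a' 0) (uS hS c 0)) :=
      hDc _ 0 _ a' c (hD a c)
    calc cm hsurj (uS hS (a + a') 0) (uS hS c 0)
        = cm hsurj (uS hS (a + a') (0 + 0 + th m a * a')) (uS hS c 0) := (hindep _ _ c 0).symm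
      _ = cm hsurj (uS hS a 0 * uS hS a' 0) (uS hS c 0) := by rw [uS_mul]
      _ = _ := by rw [cm_mul_left hsurj hc hcm, hcm2.eq]
  have hswap : ∀ a c, cm hsurj (uS hS a 0) (uS hS c 0) = (cm hsurj (uS hS c 0) (uS hS a 0))⁻¹ :=
    fun a c => (cm_inv hsurj _ _).symm
  have hlinr : ∀ a c c', cm hsurj (uS hS a 0) (uS hS (c + c') 0) =
      cm hsurj (uS hS a 0) (uS hS c 0) * cm hsurj (uS hS a 0) (uS hS c' 0) := by
    intro a c c'
    rw [hswap, hlin, mul_inv_rev, cm_inv, cm_inv]
    exact (hDc _ 0 _ a c (hD a c')).eq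
  have h4 : ∀ a c a' c', Commute (s (th m a * c + th m c * a)) (cm hsurj (uS hS a' 0) (uS hS c' 0)) :=
    fun a c a' c' => hDc _ 0 _ a' c' (hs _)
  have hδ1 : ∀ a c, δ a c = 1 := by
    refine kernel_eq hS hc hk hq hδ (fun a a' c => ?_) (fun a c c' => ?_) (fun a => ?_) (fun l hl a c => ?_)
    · show cm hsurj _ _ * s _ = _ * _ * (_ * _)
      rw [hlin, show th m (a + a') * c + th m c * (a + a') = (th m a * c + th m c * a) + (th m a' * c + th m c * a') by
        rw [th_add hS]; ring, hsadd]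
      exact ((h4 a c a' c).symm).mul_mul_mul_comm _ _
    · show cm hsurj _ _ * s _ = _ * _ * (_ * _)
      rw [hlinr, show th m a * (c + c') + th m (c + c') * a = (th m a * c + th m c * a) + (th m a * c' + th m c' * a) by
        rw [th_add hS]; ring, hsadd]
      exact ((h4 a c a c').symm).mul_mul_mul_comm _ _
    · show cm hsurj _ _ * s _ = 1
      rw [show th m a * a + th m a * a = 0 by linear_combination (th m a * a) * two hS, hs0, mul_one]
      exact commutatorElement_self _
    · obtain ⟨w, hw⟩ := exists_par hS (Units.mk0 l hl)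
      rw [Units.val_mk0] at hw
      have hth : th m (w : F) = th m l * l := by rw [← hw, th_par hS w]
      conv_rhs => rw [← mul_inv_cancel_right (δ a c) (lf hsurj (hTor hS w)),
        ← (comm_ker hc (hδ a c) _).eq]
      show cm hsurj _ _ * s _ = lf hsurj (hTor hS w) * (_ * s _) * _
      rw [show lf hsurj (hTor hS w) * (cm hsurj (uS hS a 0) (uS hS c 0) * s (th m a * c + th m c * a)) *
          (lf hsurj (hTor hS w))⁻¹ =
        (lf hsurj (hTor hS w) * cm hsurj (uS hS a 0) (uS hS c 0) * (lf hsurj (hTor hS w))⁻¹) *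
          (lf hsurj (hTor hS w) * s (th m a * c + th m c * a) * (lf hsurj (hTor hS w))⁻¹) by group,
        conj_torus hS hsurj hc, hseq, mul_zero, hw, hth, th_mul, th_mul]
      congr 2
      ring
  have hle : ⁅(unip hS).comap σ, (unip hS).comap σ⁆ ≤ S := by
    refine Subgroup.commutator_le.2 fun x hx y hy => ?_
    obtain ⟨a, b, hab⟩ := (mem_unip hS).1 hx
    obtain ⟨c, d, hcd⟩ := (mem_unip hS).1 hy
    refine ⟨th m a * c + th m c * a, ?_⟩
    rw [cm_eq hsurj hc, hab, hcd, hindep]
    have := eq_inv_of_mul_eq_one_left (hδ1 a c)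
    rw [this, hsneg]
  obtain ⟨b, rfl⟩ := hle hmem
  rw [hs, ← uS_zero hS] at hz
  rw [(uS_injective hS hz).2, hs0]

end Sylow

/-- The multiplier is trivial. -/
theorem trivial_lie {F : Type u} [Field F] [Fintype F] {m : ℕ} (hS : SzField F m) (hm : 2 ≤ m) :
    Cfsg.HasCyclicSchurMultiplier ↥(Cfsg.Lie.Sz F (2 ^ (m + 1))) 1 := by
  classical
  have hq : 9 ≤ Fintype.card F := by
    rw [hS.card]
    have : 2 ^ 5 ≤ 2 ^ (2 * m + 1) := Nat.pow_le_pow_right (by norm_num) (by omega)
    omega
  refine trivial_of_prime fun p hp Δ _ _ σ' hσ' hexp => ?_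
  let σ : Δ →* ↥(Cfsg.Sz F m) := (szEquiv hS).symm.toMonoidHom.comp σ'
  have hker : σ.ker = σ'.ker := by
    ext x; simp [σ, MonoidHom.mem_ker]
  have hσ : Cfsg.IsStemExtension σ :=
    ⟨(szEquiv hS).symm.surjective.comp hσ'.1, hker ▸ hσ'.2.1, hker ▸ hσ'.2.2⟩
  rw [← hker] at hexp ⊢
  refine ker_eq_bot σ hσ fun p' hp' hdvd => ?_
  haveI : Fact p'.Prime := ⟨hp'⟩
  obtain ⟨z₁, hz₁⟩ := exists_prime_orderOf_dvd_card' (G := σ.ker) p' hdvd
  have hpp : p' = p := by
    have h1 : orderOf z₁ ∣ p := orderOf_dvd_of_pow_eq_one (Subtype.ext (hexp _ z₁.2))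
    rw [hz₁] at h1
    exact (Nat.prime_dvd_prime_iff_eq hp' hp).1 h1
  subst hpp
  rcases eq_or_ne p' 2 with rfl | hp2
  · refine ⟨unip hS, not_two_dvd_index_unip hS, fun z hz hzo hmem => ?_⟩
    rw [sylow_two hS hσ.1 hσ.2.1 hexp hq hz hmem, orderOf_one] at hzo
    omega
  · let P : Sylow p' ↥(Cfsg.Sz F m) := default
    obtain ⟨g, hg⟩ := (Subgroup.isCyclic_iff_exists_zpowers_eq_top (P : Subgroup ↥(Cfsg.Sz F m))).1 (sylow_odd_cyclic hS hp2 P)
    obtain ⟨a, ha⟩ := hσ.1 g
    refine ⟨P, P.not_dvd_index, fun z hz hzo hmem => ?_⟩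
    rw [← hg, show Subgroup.zpowers g = Subgroup.closure (σ '' {a}) by
      rw [Set.image_singleton, ha, Subgroup.zpowers_eq_closure]] at hmem
    exact no_elt_of_comm _ (comm_of_gens σ hσ.2.1 _ (fun x hx y hy => by
      rw [Set.mem_singleton_iff.1 hx, Set.mem_singleton_iff.1 hy])) hp' hzo hmem

end Cfsg.Agent.Suz.Mult
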