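import Cfsg.Agent.Lib.Lie.Sz.FieldMap
import Cfsg.Agent.Lib.Lie.Sz.Tori
import Cfsg.Prelude.Def_KGroupFacts

/-! The outer automorphism group of the Suzuki group. -/

set_option autoImplicit false

namespace Cfsg.Agent.Suz

open Matrix

variable {F : Type*} [Field F] {m : ℕ} [Fintype F] (hS : SzField F m)

local notation3 "Gp" => ↥(Cfsg.Sz F m)

/-- The automorphism induced by a field automorphism. -/
noncomputable def fieldAut (σ : F ≃+* F) : MulAut Gp :=
  MulEquiv.ofBijective (fieldHom hS hS σ.toRingHom fun x => map_pow σ x _)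
    (Finite.injective_iff_bijective.1 (fieldHom_injective hS hS σ.toRingHom fun x => map_pow σ x _))

include hS

theorem fieldAut_uS (σ : F ≃+* F) (a b : F) : fieldAut hS σ (uS hS a b) = uS hS (σ a) (σ b) :=
  fieldHom_uS hS hS σ.toRingHom (fun x => map_pow σ x _) a b

theorem fieldAut_hTor (σ : F ≃+* F) (z : Fˣ) :
    fieldAut hS σ (hTor hS z) = hTor hS (Units.map σ.toRingHom.toMonoidHom z) :=
  fieldHom_hTor hS hS σ.toRingHom (fun x => map_pow σ x _) z

theorem closure_eq_top : Subgroup.closure ({g : Gp | g ∈ borel m F} ∪ {wS hS}) = ⊤ := by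
  refine eq_top_iff.2 fun g _ => ?_
  by_cases hg : g ∈ borel m F
  · exact Subgroup.subset_closure (Or.inl hg)
  · obtain ⟨a, b, l, hl, rfl⟩ := big_cell hS hg
    exact mul_mem (mul_mem (Subgroup.subset_closure (Or.inl (uS_mem_borel hS a b)))
      (Subgroup.subset_closure (Or.inr rfl))) (Subgroup.subset_closure (Or.inl hl))

theorem aut_ext {φ ψ : Gp →* Gp} (hu : ∀ a b, φ (uS hS a b) = ψ (uS hS a b))
    (hh : ∀ z, φ (hTor hS z) = ψ (hTor hS z)) (hw : φ (wS hS) = ψ (wS hS)) : φ = ψ := by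
  refine MonoidHom.eq_of_eqOn_dense (closure_eq_top hS) ?_
  rintro g (hg | rfl)
  · obtain ⟨a, b, z, rfl⟩ := borel_eq hS hg
    rw [map_mul, map_mul, hu, hh]
  · exact hw

theorem normalizer_torus_cases {g : Gp} {z : Fˣ} (hz : z ≠ 1) (h : g * hTor hS z * g⁻¹ ∈ torus hS) :
    g ∈ torus hS ∨ ∃ l, g = wS hS * hTor hS l := by
  obtain ⟨z', hz'⟩ := mem_torus hS h
  have hz'1 : z' ≠ 1 := fun e => hz (hTor_injective hS (by
    rw [e, hTor_one] at hz'; exact (conj_eq_one_iff.1 hz').trans (hTor_one hS).symm))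
  have hfix : ∀ o : Option (F × F), hTor hS z • pt m o = pt m o →
      ∃ o', g • pt m o = pt m o' ∧ (o' = none ∨ o' = some (0, 0)) := by
    intro o ho
    obtain ⟨o', ho'⟩ := exists_pt_smul hS g o
    refine ⟨o', ho', eq_one_or_of_fix hS hz'1 ?_⟩
    rw [← hz', ← ho', ← mul_smul, inv_mul_cancel_right, mul_smul, ho]
  obtain ⟨o₁, ho₁, hc₁⟩ := hfix none (hTor_inf hS z)
  obtain ⟨o₂, ho₂, hc₂⟩ := hfix (some (0, 0)) (by rw [hTor_pt]; simp)
  have hne : o₁ ≠ o₂ := fun e => Option.some_ne_none ((0 : F), (0 : F))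
    (pt_injective (m := m) (MulAction.injective g (ho₂.trans (e ▸ ho₁).symm)))
  rcases hc₁ with rfl | rfl <;> rcases hc₂ with rfl | rfl
  · exact absurd rfl hne
  · obtain ⟨l, rfl⟩ := fix_two hS ho₁ ho₂
    exact Or.inl (hTor_mem_torus hS l)
  · obtain ⟨l, hl⟩ := fix_two hS (g := wS hS * g)
      (by rw [mul_smul]; exact (congrArg _ ho₁).trans (wS_zero hS))
      (by rw [mul_smul, ho₂]; exact wS_inf hS)
    exact Or.inr ⟨l, by rw [← hl, ← mul_assoc, wS_sq, one_mul]⟩
  · exact absurd rfl hne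

theorem map_borel_of_map_unip {φ : MulAut Gp} (hU : ∀ g, φ g ∈ unip hS ↔ g ∈ unip hS) {g : Gp}
    (hg : g ∈ borel m F) : φ g ∈ borel m F := by
  have hu : uS hS (1 : F) 0 ∈ unip hS := uS_mem hS 1 0
  refine mem_borel_of_conj_mem hS ((hU _).2 hu) (fun e => uS_ne_one hS (a := (1 : F)) (b := 0) (by simp)
    (φ.injective (e.trans (map_one φ).symm))) ?_
  rw [← map_inv, ← map_mul, ← map_mul, hU]
  exact (Subgroup.mem_normalizer_iff.1 (borel_le_normalizer hS hg) _).1 hu

theorem exists_ne_torus : ∃ z : Fˣ, z ≠ 1 ∧ ∀ w : Fˣ, hTor hS w ∈ Subgroup.zpowers (hTor hS z) := by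
  obtain ⟨ζ, hζ⟩ := IsCyclic.exists_generator (α := Fˣ)
  refine ⟨ζ, fun e => ?_, fun w => ?_⟩
  · obtain ⟨y, hy0, hy1⟩ := exists_ne_zero_one hS
    obtain ⟨i, hi⟩ := Subgroup.mem_zpowers_iff.1 (hζ (Units.mk0 y hy0))
    rw [e, _root_.one_zpow] at hi
    exact hy1 (by simpa using (congrArg Units.val hi).symm)
  · obtain ⟨i, rfl⟩ := Subgroup.mem_zpowers_iff.1 (hζ w)
    exact ⟨i, (map_zpow (torHom hS) ζ i).symm⟩

/-- Every automorphism is inner times field. -/
theorem exists_decomp (φ : MulAut Gp) : ∃ (g : Gp) (σ : F ≃+* F), φ = MulAut.conj g * fieldAut hS σ := by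
  haveI : Fact (Nat.Prime 2) := ⟨Nat.prime_two⟩
  -- fix the radical
  have hP : IsPGroup 2 ((unip hS).map φ.toMonoidHom : Subgroup Gp) := (isPGroup_unip hS).map _
  obtain ⟨P, hPle⟩ := hP.exists_le_sylow
  obtain ⟨c, hc⟩ := exists_conj_unip hS P
  set φ₁ : MulAut Gp := (MulAut.conj c)⁻¹ * φ with hφ₁
  have hU : ∀ g, φ₁ g ∈ unip hS ↔ g ∈ unip hS := by
    intro g
    have hle : (unip hS).map φ.toMonoidHom = (unip hS).map (MulAut.conj c).toMonoidHom := by
      refine Subgroup.eq_of_le_of_card_ge (hPle.trans hc.le) ?_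
      exact le_of_eq ((Subgroup.card_map_of_injective (MulAut.conj c).injective).trans (Subgroup.card_map_of_injective φ.injective).symm)
    have h1 : φ g ∈ (unip hS).map (MulAut.conj c).toMonoidHom ↔ g ∈ unip hS := by
      rw [← hle]; exact Subgroup.mem_map_iff_mem φ.injective
    rw [← h1, Subgroup.mem_map_equiv]
    rfl
  -- fix the torus
  obtain ⟨ζ, hζ1, hζ⟩ := exists_ne_torus hS
  have hne : φ₁ (hTor hS ζ) ∉ unip hS := fun h => by
    obtain ⟨a, b, hab⟩ := (mem_unip hS).1 ((hU _).1 h)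
    have := (uS_hTor_inj hS (a := (0 : F)) (b := 0) (a' := a) (b' := b) (z := ζ) (z' := 1)
      (by rw [uS_zero, one_mul, hTor_one, mul_one, hab])).2.2
    exact hζ1 this
  obtain ⟨v, z₁, hz₁, hv⟩ := (borel_cases hS (map_borel_of_map_unip hS hU (hTor_mem_borel hS ζ))).resolve_left hne
  have hvU : v ∈ borel m F → v ∈ Subgroup.normalizer (unip hS : Set Gp) := fun h => borel_le_normalizer hS h
  obtain ⟨v', hv'U, hv'⟩ : ∃ v' ∈ borel m F, φ₁ (hTor hS ζ) = v' * hTor hS z₁ * v'⁻¹ ∨
      φ₁ (hTor hS ζ) = v' * hTor hS z₁⁻¹ * v'⁻¹ := by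
    obtain ⟨o, ho⟩ := exists_pt_smul hS v⁻¹ none
    have : hTor hS z₁ • pt m o = pt m o := by
      rw [← ho, show hTor hS z₁ = v⁻¹ * φ₁ (hTor hS ζ) * v by rw [hv]; group, mul_smul, mul_smul, smul_inv_smul,
        show φ₁ (hTor hS ζ) • pt m none = pt m none from map_borel_of_map_unip hS hU (hTor_mem_borel hS ζ)]
    rcases eq_one_or_of_fix hS hz₁ this with rfl | rfl
    · exact ⟨v, (inv_smul_eq_iff.1 ho).symm, Or.inl hv⟩
    · refine ⟨v * wS hS, ?_, Or.inr ?_⟩
      · show (v * wS hS) • suzukiPointInfinity F = suzukiPointInfinity F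
        rw [mul_smul, wS_inf]; exact (inv_smul_eq_iff.1 ho).symm
      · rw [hv, ← hTor_inv]
        calc v * hTor hS z₁ * v⁻¹ = v * (hTor hS z₁ * (wS hS * wS hS)) * v⁻¹ := by rw [wS_sq, mul_one]
          _ = v * (hTor hS z₁ * wS hS) * wS hS * v⁻¹ := by simp only [mul_assoc]
          _ = v * (wS hS * hTor hS z₁⁻¹) * wS hS * v⁻¹ := by rw [wS_hTor, inv_inv]
          _ = v * wS hS * hTor hS z₁⁻¹ * (v * wS hS)⁻¹ := by
            rw [_root_.mul_inv_rev, inv_eq_of_mul_eq_one_right (wS_sq hS)]; simp only [mul_assoc]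
          _ = _ := by rw [hTor_inv]
  clear hvU
  set φ₂ : MulAut Gp := (MulAut.conj v')⁻¹ * φ₁ with hφ₂
  have hU2 : ∀ g, φ₂ g ∈ unip hS ↔ g ∈ unip hS := by
    intro g
    rw [← hU g, hφ₂, MulAut.mul_apply, MulAut.inv_def, MulAut.conj_symm_apply]
    have := Subgroup.mem_normalizer_iff.1 (inv_mem (borel_le_normalizer hS hv'U)) (φ₁ g)
    rw [inv_inv] at this
    exact this.symm
  have hH2 : ∀ z, φ₂ (hTor hS z) ∈ torus hS := by
    intro z
    have h0 : φ₂ (hTor hS ζ) ∈ torus hS := by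
      rw [hφ₂, MulAut.mul_apply, MulAut.inv_def, MulAut.conj_symm_apply]
      rcases hv' with e | e <;> rw [e]
      · rw [show v'⁻¹ * (v' * hTor hS z₁ * v'⁻¹) * v' = hTor hS z₁ by group]; exact hTor_mem_torus hS _
      · rw [show v'⁻¹ * (v' * hTor hS z₁⁻¹ * v'⁻¹) * v' = hTor hS z₁⁻¹ by group]; exact hTor_mem_torus hS _
    obtain ⟨i, hi⟩ := Subgroup.mem_zpowers_iff.1 (hζ z)
    rw [← hi, map_zpow]
    exact zpow_mem h0 i
  -- normalise the centre
  have hcen : ∀ b, ∃ b', φ₂ (uS hS 0 b) = uS hS 0 b' := by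
    intro b
    obtain ⟨a', b', hab⟩ := (mem_unip hS).1 ((hU2 _).2 (uS_mem hS 0 b))
    have h2 : φ₂ (uS hS 0 b) ^ 2 = 1 := by rw [← map_pow, uS_sq, th_zero, zero_mul, uS_zero, map_one]
    rw [hab, uS_sq] at h2
    by_cases ha : a' = 0
    · exact ⟨b', by rw [hab, ha]⟩
    · exact absurd h2 (uS_ne_one hS (by simp [mul_ne_zero (th_ne_zero (m := m) ha) ha]))
  obtain ⟨d, hd⟩ := hcen 1
  have hd0 : d ≠ 0 := fun e => by
    rw [e, uS_zero] at hd
    exact uS_ne_one hS (a := (0 : F)) (b := 1) (by simp) (φ₂.injective (hd.trans (map_one φ₂).symm))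
  obtain ⟨l, hl⟩ := exists_th_unit hS (m := m) d hd0
  set φ₃ : MulAut Gp := (MulAut.conj (hTor hS l))⁻¹ * φ₂ with hφ₃
  have hap : ∀ g, φ₃ g = hTor hS l⁻¹ * φ₂ g * (hTor hS l⁻¹)⁻¹ := fun g => by
    rw [hφ₃, MulAut.mul_apply, MulAut.inv_def, MulAut.conj_symm_apply, ← hTor_inv, inv_inv]
  have hcen3 : ∀ b, ∃ b', φ₃ (uS hS 0 b) = uS hS 0 b' := fun b => by
    obtain ⟨b', hb'⟩ := hcen b
    exact ⟨_, by rw [hap, hb', hTor_conj, mul_zero]⟩
  have hone : φ₃ (uS hS 0 1) = uS hS 0 1 := by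
    rw [hap, hd, hTor_conj, mul_zero, ← hl, ← th_mul, ← Units.val_mul, inv_mul_cancel, Units.val_one, th_one]
  have hH3 : ∀ z, ∃ z', φ₃ (hTor hS z) = hTor hS z' := fun z => by
    obtain ⟨z', hz'⟩ := mem_torus hS (hH2 z)
    exact ⟨_, by rw [hap, hz', hTor_mul, hTor_inv, hTor_mul]⟩
  choose β hβ using hcen3
  choose α hα using hH3
  have hβinj : Function.Injective β := fun x y h => (uS_injective hS (φ₃.injective ((hβ x).trans (h ▸ (hβ y).symm)))).2
  have hβadd : ∀ x y, β (x + y) = β x + β y := by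
    intro x y
    have h := map_mul φ₃ (uS hS 0 x) (uS hS 0 y)
    rw [uS_mul, hβ x, hβ y, uS_mul, th_zero, zero_mul, add_zero, add_zero, hβ] at h
    exact (uS_injective hS h).2.trans (add_zero _)
  have hβth : ∀ (z : Fˣ) (b : F), β (th m (z : F) * b) = th m (α z : F) * β b := by
    intro z b
    have h := congrArg φ₃ (hTor_conj hS z 0 b)
    rw [map_mul, map_mul, map_inv, hα, hβ, hTor_conj, mul_zero, mul_zero, hβ] at h
    exact (uS_injective hS h.symm).2
  have hone' : β 1 = 1 := (uS_injective hS ((hβ 1).symm.trans hone)).2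
  have hβmul : ∀ x y, β (x * y) = β x * β y := by
    intro x y
    by_cases hx : x = 0
    · have h0 : β 0 = 0 := by have := hβadd 0 0; rw [add_zero] at this; linear_combination -this
      rw [hx, zero_mul, h0, zero_mul]
    obtain ⟨z, rfl⟩ := exists_th_unit hS (m := m) x hx
    have h1 := hβth z 1
    rw [mul_one, hone', mul_one] at h1
    rw [hβth, h1]
  let σ : F ≃+* F := RingEquiv.ofBijective
    ({ toFun := β, map_one' := hone', map_mul' := hβmul,
       map_zero' := by have := hβadd 0 0; rw [add_zero] at this; linear_combination -this,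
       map_add' := hβadd } : F →+* F) (Finite.injective_iff_bijective.1 hβinj)
  set ψ : MulAut Gp := (fieldAut hS σ)⁻¹ * φ₃ with hψ
  -- `ψ` fixes the centre and the torus
  have hψH : ∀ z, ψ (hTor hS z) = hTor hS z := by
    intro z
    rw [hψ, MulAut.mul_apply, hα, MulAut.inv_def, MulEquiv.symm_apply_eq, fieldAut_hTor]
    congr 1
    refine Units.ext (th_inj hS (m := m) ?_)
    have h1 := hβth z 1
    rw [mul_one, hone', mul_one] at h1
    rw [← h1]
    exact (map_pow σ (z : F) _).trans rfl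
  have hψZ : ∀ b, ψ (uS hS 0 b) = uS hS 0 b := by
    intro b
    rw [hψ, MulAut.mul_apply, hβ, MulAut.inv_def, MulEquiv.symm_apply_eq, fieldAut_uS, map_zero]
    rfl
  have hψU : ∀ g, g ∈ unip hS → ψ g ∈ unip hS := by
    intro g hg
    have h3 : φ₃ g ∈ unip hS := by
      rw [hap]
      exact (Subgroup.mem_normalizer_iff.1 (borel_le_normalizer hS (hTor_mem_borel hS _)) _).1 ((hU2 _).2 hg)
    obtain ⟨a, b, hab⟩ := (mem_unip hS).1 h3
    rw [hψ, MulAut.mul_apply, hab, MulAut.inv_def, show uS hS a b = fieldAut hS σ (uS hS (σ.symm a) (σ.symm b)) by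
      rw [fieldAut_uS, RingEquiv.apply_symm_apply, RingEquiv.apply_symm_apply], MulEquiv.symm_apply_apply]
    exact uS_mem hS _ _
  obtain ⟨a₁, e, he⟩ := (mem_unip hS).1 (hψU _ (uS_mem hS 1 0))
  have ha₁ : a₁ = 1 := by
    have h := map_pow ψ (uS hS (1 : F) 0) 2
    rw [he, uS_sq, uS_sq, hψZ, th_one, one_mul] at h
    have := (uS_injective hS h).2
    exact pow_succ_th_inj hS (fun e0 => by rw [e0, mul_zero] at this; exact one_ne_zero this) this.symm
  subst ha₁
  have hψa : ∀ a b : F, ψ (uS hS a b) = uS hS a (b + e * (th m a * a)) := by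
    intro a b
    by_cases ha : a = 0
    · subst ha; rw [hψZ, th_zero]; simp
    obtain ⟨z, hz⟩ := exists_par hS (m := m) (Units.mk0 a ha)
    rw [Units.val_mk0] at hz
    have h := congrArg ψ (hTor_conj hS z 1 0)
    rw [map_mul, map_mul, map_inv, hψH, he, hTor_conj, mul_zero, mul_one, hz] at h
    have hmul : uS hS a b = uS hS a 0 * uS hS 0 b := by rw [uS_mul]; simp
    rw [hmul, map_mul, ← h, hψZ, uS_mul, ← th_par hS z, hz]
    congr 1
    · ring
    · ring
  have he0 : e = 0 := by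
    obtain ⟨y, hy⟩ := exists_th_add_ne hS (m := m)
    have h := map_mul ψ (uS hS (1 : F) 0) (uS hS y 0)
    rw [uS_mul, hψa, hψa, hψa, uS_mul] at h
    have h2 := (uS_injective hS h).2
    simp only [th_add hS, th_one] at h2
    have : e * (th m y + y) = 0 := by linear_combination h2
    exact (mul_eq_zero.1 this).resolve_right hy
  subst he0
  have hψu : ∀ a b : F, ψ (uS hS a b) = uS hS a b := fun a b => by rw [hψa, zero_mul, add_zero]
  -- the involution
  obtain ⟨z, hz1, -⟩ := exists_ne_torus hS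
  have hwz : ψ (wS hS) * hTor hS z * (ψ (wS hS))⁻¹ ∈ torus hS := by
    rw [← hψH z, ← map_inv, ← map_mul, ← map_mul, wS_hTor, mul_inv_cancel_right, hψH]
    exact hTor_mem_torus hS _
  obtain ⟨k, hk⟩ : ∃ k, ψ (wS hS) = wS hS * hTor hS k := by
    rcases normalizer_torus_cases hS hz1 hwz with h | h
    · exfalso
      obtain ⟨k, hk⟩ := mem_torus hS h
      have : ψ (wS hS) = ψ (hTor hS k) := hk.trans (hψH k).symm
      have h' := congrArg (· • suzukiPointInfinity F) (ψ.injective this)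
      simp only [wS_inf, hTor_inf] at h'
      exact Option.some_ne_none ((0 : F), (0 : F)) (pt_injective (m := m) h')
    · exact h
  have hk1 : k = 1 := by
    have hg : wS hS * uS hS (1 : F) 0 * wS hS ∉ borel m F := by
      intro h
      have h' : (wS hS * uS hS (1 : F) 0 * wS hS) • suzukiPointInfinity F = suzukiPointInfinity F := h
      rw [mul_smul, mul_smul, wS_inf, uS_pt_zero, ← wS_zero hS] at h'
      have := pt_injective (MulAction.injective (wS hS) h')
      simp at this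
    obtain ⟨A, B, l, hl, hgl⟩ := big_cell hS hg
    have hψl : ψ l = l := by
      obtain ⟨a, b, z, rfl⟩ := borel_eq hS hl
      rw [map_mul, hψu, hψH]
    have hA : wS hS • pt m (some ((1 : F), 0)) = pt m (some (A, B)) := by
      have h1 := congrArg (· • suzukiPointInfinity F) hgl
      simp only [mul_smul, wS_inf, uS_pt_zero] at h1
      rw [h1, show l • suzukiPointInfinity F = suzukiPointInfinity F from hl, wS_inf, uS_pt_zero]
    have h2 := congrArg ψ hgl
    rw [map_mul, map_mul, map_mul, map_mul, hψu, hψu, hψl, hk] at h2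
    have h3 := congrArg (· • suzukiPointInfinity F) h2
    simp only [mul_smul, hTor_inf, wS_inf, uS_pt_zero, show l • suzukiPointInfinity F = suzukiPointInfinity F from hl,
      hTor_pt, mul_zero, mul_one] at h3
    rw [← hA] at h3
    have h4 := pt_injective (MulAction.injective (wS hS) h3)
    simp only [Option.some.injEq, Prod.mk.injEq, and_true] at h4
    exact par_eq_one hS h4
  subst hk1
  have hψ1 : ψ = 1 := MulEquiv.toMonoidHom_injective (aut_ext hS (φ := ψ.toMonoidHom) (ψ := MonoidHom.id _)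
    (fun a b => hψu a b) hψH (by show ψ (wS hS) = wS hS; rw [hk, hTor_one, mul_one]))
  refine ⟨c * v' * hTor hS l, σ, ?_⟩
  rw [hψ, inv_mul_eq_one] at hψ1
  rw [hψ1, hφ₃, hφ₂, hφ₁, map_mul, map_mul]
  group

/-- Field automorphisms modulo inner ones. -/
noncomputable def toOut : (F ≃+* F) → Cfsg.Out Gp := fun σ => QuotientGroup.mk (fieldAut hS σ)

theorem toOut_bijective : Function.Bijective (toOut hS) := by
  refine ⟨fun σ τ h => ?_, fun x => ?_⟩
  · obtain ⟨g, hg⟩ := QuotientGroup.eq.1 h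
    have hg' : ∀ x, fieldAut hS τ x = fieldAut hS σ (g * x * g⁻¹) := fun x => by
      have := DFunLike.congr_fun hg x
      rw [MulAut.mul_apply, MulAut.inv_def] at this
      show fieldAut hS τ x = _
      rw [show g * x * g⁻¹ = MulAut.conj g x from rfl, this, MulEquiv.apply_symm_apply]
    have hb : g ∈ borel m F := by
      have h1 := hg' (uS hS 1 0)
      rw [fieldAut_uS] at h1
      refine mem_borel_of_conj_mem hS (uS_mem hS 1 0) (uS_ne_one hS (by simp)) ?_
      have h2 := congrArg (fieldAut hS σ).symm h1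
      rw [MulEquiv.symm_apply_apply, show uS hS (τ 1) (τ 0) = fieldAut hS σ (uS hS (σ.symm (τ 1)) (σ.symm (τ 0))) by
        rw [fieldAut_uS, RingEquiv.apply_symm_apply, RingEquiv.apply_symm_apply], MulEquiv.symm_apply_apply] at h2
      rw [← h2]; exact uS_mem hS _ _
    obtain ⟨a, b, z, rfl⟩ := borel_eq hS hb
    have key : ∀ y : F, σ (th m (z : F) * y) = τ y := fun y => by
      have h1 := hg' (uS hS 0 y)
      rw [show uS hS a b * hTor hS z * uS hS 0 y * (uS hS a b * hTor hS z)⁻¹ =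
        uS hS a b * (hTor hS z * uS hS 0 y * (hTor hS z)⁻¹) * (uS hS a b)⁻¹ by group, hTor_conj, mul_zero,
        uS_inv, uS_mul, uS_mul, fieldAut_uS, fieldAut_uS] at h1
      have h2 := (uS_injective hS h1).2
      simp only [add_zero, mul_zero] at h2
      rw [h2]
      congr 1
      linear_combination (-(b + th m a * a)) * two hS
    have hz : th m (z : F) = 1 := by
      have h1 := key 1
      rw [mul_one, map_one] at h1
      exact σ.injective (by rw [h1, map_one])
    exact RingEquiv.ext fun y => by have := key y; rwa [hz, one_mul] at this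
  · obtain ⟨φ, rfl⟩ := QuotientGroup.mk_surjective x
    obtain ⟨g, σ, rfl⟩ := exists_decomp hS φ
    refine ⟨σ, QuotientGroup.eq.2 ?_⟩
    exact ⟨(fieldAut hS σ)⁻¹ g, by
      ext x
      simp [MulAut.mul_apply, MulAut.inv_def]⟩

theorem card_ringAut : Nat.card (F ≃+* F) = 2 * m + 1 := by
  haveI := charP hS
  haveI : Fact (Nat.Prime 2) := ⟨Nat.prime_two⟩
  letI := ZMod.algebra F 2
  have e : (F ≃+* F) ≃ (F ≃ₐ[ZMod 2] F) :=
    { toFun := fun σ => AlgEquiv.ofRingEquiv (f := σ) fun x =>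
        DFunLike.congr_fun (Subsingleton.elim (σ.toRingHom.comp (algebraMap (ZMod 2) F)) (algebraMap (ZMod 2) F)) x
      invFun := fun σ => σ.toRingEquiv
      left_inv := fun σ => RingEquiv.ext fun _ => rfl
      right_inv := fun σ => AlgEquiv.ext fun _ => rfl }
  rw [Nat.card_congr e, IsGalois.card_aut_eq_finrank]
  have h := Module.card_eq_pow_finrank (K := ZMod 2) (V := F)
  rw [ZMod.card, hS.card] at h
  exact (Nat.pow_right_injective le_rfl h).symm

theorem card_Out : Nat.card (Cfsg.Out Gp) = 2 * m + 1 := by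
  rw [← Nat.card_eq_of_bijective _ (toOut_bijective hS), card_ringAut hS]

end Cfsg.Agent.Suz
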