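import Cfsg.Agent.Lib.Lie.Sz.Structure

/-! The Suzuki group: double transitivity, order, simplicity and the Sylow 2-normalisers. -/

set_option autoImplicit false

namespace Cfsg.Agent.Suz

open Matrix

variable {F : Type*} [Field F] {m : ℕ} [Fintype F] (hS : SzField F m)

/-- A unipotent element of the group. -/
def uS (a b : F) : ↥(Cfsg.Sz F m) := ⟨tEl m a b, tEl_mem hS a b⟩

/-- A torus element of the group. -/
def hTor (z : Fˣ) : ↥(Cfsg.Sz F m) := ⟨dEl m z, dEl_mem hS z⟩

/-- The exchanging element of the group. -/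
def wS : ↥(Cfsg.Sz F m) := ⟨wEl, wEl_mem hS⟩

/-- The stabiliser of the point at infinity. -/
def borel (m : ℕ) (F : Type*) [Field F] : Subgroup ↥(Cfsg.Sz F m) :=
  MulAction.stabilizer (Cfsg.Sz F m) (suzukiPointInfinity F)

include hS

theorem uS_mul (a b c d : F) : uS hS a b * uS hS c d = uS hS (a + c) (b + d + th m a * c) :=
  Subtype.ext (Subtype.ext (tMat_mul hS a b c d))

theorem uS_zero : uS hS 0 0 = 1 := by
  refine mul_left_cancel (a := uS hS 0 0) ?_
  rw [uS_mul, mul_one, th_zero]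
  simp

theorem uS_inv (a b : F) : (uS hS a b)⁻¹ = uS hS a (b + th m a * a) := by
  rw [inv_eq_iff_mul_eq_one, uS_mul, ← uS_zero hS]
  congr 1
  · linear_combination a * two hS
  · linear_combination (b + th m a * a) * two hS

theorem uS_sq (a b : F) : uS hS a b ^ 2 = uS hS 0 (th m a * a) := by
  rw [sq, uS_mul]
  congr 1
  · linear_combination a * two hS
  · linear_combination b * two hS

theorem hTor_mul (z z' : Fˣ) : hTor hS z * hTor hS z' = hTor hS (z * z') :=
  Subtype.ext (Subtype.ext (dMat_mul z z'))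

/-- The torus as a homomorphism. -/
def torHom : Fˣ →* ↥(Cfsg.Sz F m) := MonoidHom.mk' (hTor hS) fun z z' => (hTor_mul hS z z').symm

theorem hTor_one : hTor hS 1 = 1 := map_one (torHom hS)

theorem hTor_inv (z : Fˣ) : (hTor hS z)⁻¹ = hTor hS z⁻¹ := (map_inv (torHom hS) z).symm

theorem hTor_uS (z : Fˣ) (a b : F) :
    hTor hS z * uS hS a b = uS hS (par m (z : F) * a) (th m (z : F) * b) * hTor hS z :=
  Subtype.ext (Subtype.ext (dMat_tMat hS z a b))

theorem hTor_conj (z : Fˣ) (a b : F) :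
    hTor hS z * uS hS a b * (hTor hS z)⁻¹ = uS hS (par m (z : F) * a) (th m (z : F) * b) := by
  rw [hTor_uS, mul_inv_cancel_right]

theorem wS_hTor (z : Fˣ) : wS hS * hTor hS z = hTor hS z⁻¹ * wS hS :=
  Subtype.ext (Subtype.ext (wMat_dMat z))

theorem wS_sq : wS hS * wS hS = 1 :=
  Subtype.ext (Subtype.ext (by
    show (wMat : Matrix (Fin 4) (Fin 4) F) * wMat = 1
    ext i j
    fin_cases i <;> fin_cases j <;> simp [wMat, suzukiForm, Matrix.mul_apply, Fin.sum_univ_four]))

theorem uS_inf (a b : F) : uS hS a b • suzukiPointInfinity F = suzukiPointInfinity F :=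
  tEl_inf a b

theorem uS_pt (a b x y : F) :
    uS hS a b • pt m (some (x, y)) = pt m (some (x + a, y + th m a * x + b)) := tEl_pt hS a b x y

theorem uS_pt_zero (a b : F) : uS hS a b • pt m (some (0, 0)) = pt m (some (a, b)) := by
  rw [uS_pt]; simp

theorem hTor_pt (z : Fˣ) (x y : F) :
    hTor hS z • pt m (some (x, y)) = pt m (some (par m (z : F) * x, th m (z : F) * y)) :=
  dEl_pt hS z x y

theorem hTor_inf (z : Fˣ) : hTor hS z • suzukiPointInfinity F = suzukiPointInfinity F :=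
  dEl_inf z

theorem wS_inf : wS hS • suzukiPointInfinity F = pt m (some ((0 : F), 0)) :=
  (wEl_inf).trans (pt_zero hS).symm

theorem wS_zero : wS hS • pt m (some ((0 : F), 0)) = suzukiPointInfinity F := by
  rw [pt_zero hS]; exact wEl_zero

theorem exists_pt_smul (g : ↥(Cfsg.Sz F m)) (o : Option (F × F)) :
    ∃ o', g • pt m o = pt m o' := by
  have := (MulAction.mem_stabilizer_set' (Set.toFinite _)).1 g.2 (mem_ovoid_iff.2 ⟨o, rfl⟩)
  obtain ⟨o', ho'⟩ := mem_ovoid_iff.1 this
  exact ⟨o', ho'.symm⟩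

theorem pt_ne {o o' : Option (F × F)} (h : o ≠ o') : pt m o ≠ pt m o' :=
  fun e => h (pt_injective e)

theorem uS_mem_borel (a b : F) : uS hS a b ∈ borel m F := uS_inf hS a b

theorem hTor_mem_borel (z : Fˣ) : hTor hS z ∈ borel m F := hTor_inf hS z

theorem borel_eq {g : ↥(Cfsg.Sz F m)} (hg : g ∈ borel m F) :
    ∃ a b z, g = uS hS a b * hTor hS z := by
  obtain ⟨o, ho⟩ := exists_pt_smul hS g (some (0, 0))
  rcases o with _ | ⟨a, b⟩
  · exact absurd (pt_injective (m := m) (MulAction.injective g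
      (ho.trans (show g • pt m none = pt m none from hg).symm))) (Option.some_ne_none _)
  have h1 : ((uS hS a b)⁻¹ * g) • suzukiPointZero F = suzukiPointZero F := by
    rw [← pt_zero hS, mul_smul, ho, inv_smul_eq_iff, uS_pt_zero]
  have h0 : ((uS hS a b)⁻¹ * g) • suzukiPointInfinity F = suzukiPointInfinity F :=
    mul_mem (inv_mem (uS_mem_borel hS a b)) hg
  obtain ⟨z, hz⟩ := eq_dEl_of_fix hS ((uS hS a b)⁻¹ * g).2 h0 h1
  exact ⟨a, b, z, by rw [← show ((uS hS a b)⁻¹ * g) = hTor hS z from Subtype.ext hz,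
    mul_inv_cancel_left]⟩

theorem big_cell {g : ↥(Cfsg.Sz F m)} (hg : g ∉ borel m F) :
    ∃ a b, ∃ k ∈ borel m F, g = uS hS a b * wS hS * k := by
  obtain ⟨o, ho⟩ := exists_pt_smul hS g none
  rcases o with _ | ⟨a, b⟩
  · exact absurd ho hg
  refine ⟨a, b, (uS hS a b * wS hS)⁻¹ * g, ?_, by group⟩
  show ((uS hS a b * wS hS)⁻¹ * g) • pt m none = pt m none
  rw [mul_smul, ho, inv_smul_eq_iff, mul_smul, show pt m none = suzukiPointInfinity F from rfl,
    wS_inf, uS_pt_zero]

theorem fix_two {g : ↥(Cfsg.Sz F m)} (h0 : g • suzukiPointInfinity F = suzukiPointInfinity F)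
    (h1 : g • pt m (some ((0 : F), 0)) = pt m (some (0, 0))) : ∃ z, g = hTor hS z := by
  rw [pt_zero hS] at h1
  obtain ⟨z, hz⟩ := eq_dEl_of_fix hS g.2 h0 h1
  exact ⟨z, Subtype.ext hz⟩

theorem hTor_injective : Function.Injective (hTor hS) := fun z z' h => by
  have := congrFun (congrFun (congrArg (fun k : ↥(Cfsg.Sz F m) => k.1.1) h) 0) 0
  exact Units.ext (by simpa [hTor, dEl, dMat] using this)

theorem uS_injective {a b a' b' : F} (h : uS hS a b = uS hS a' b') : a = a' ∧ b = b' := by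
  have := congrArg (fun k : ↥(Cfsg.Sz F m) => k • pt m (some ((0 : F), 0))) h
  simp only [uS_pt_zero] at this
  simpa using pt_injective this

theorem uS_hTor_inj {a b a' b' : F} {z z' : Fˣ}
    (h : uS hS a b * hTor hS z = uS hS a' b' * hTor hS z') : a = a' ∧ b = b' ∧ z = z' := by
  have := congrArg (fun k : ↥(Cfsg.Sz F m) => k • pt m (some ((0 : F), 0))) h
  simp only [mul_smul, hTor_pt, mul_zero, uS_pt_zero] at this
  obtain ⟨rfl, rfl⟩ : a = a' ∧ b = b' := by simpa using pt_injective this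
  exact ⟨rfl, rfl, hTor_injective hS (mul_left_cancel h)⟩

theorem card_borel : Nat.card (borel m F) =
    (2 ^ (2 * m + 1)) ^ 2 * (2 ^ (2 * m + 1) - 1) := by
  classical
  let e : (F × F) × Fˣ → borel m F := fun p =>
    ⟨uS hS p.1.1 p.1.2 * hTor hS p.2, mul_mem (uS_mem_borel hS _ _) (hTor_mem_borel hS _)⟩
  have he : Function.Bijective e := by
    refine ⟨fun p q h => ?_, fun g => ?_⟩
    · obtain ⟨h1, h2, h3⟩ := uS_hTor_inj hS (congrArg Subtype.val h)
      exact Prod.ext (Prod.ext h1 h2) h3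
    · obtain ⟨a, b, z, hg⟩ := borel_eq hS g.2
      exact ⟨((a, b), z), Subtype.ext hg.symm⟩
  rw [← Nat.card_eq_of_bijective e he, Nat.card_prod, Nat.card_prod, Nat.card_units,
    Nat.card_eq_fintype_card, hS.card]
  ring

theorem orbit_inf : MulAction.orbit (↥(Cfsg.Sz F m)) (suzukiPointInfinity F) = suzukiOvoid F m := by
  ext p
  rw [mem_ovoid_iff]
  constructor
  · rintro ⟨g, rfl⟩
    obtain ⟨o, ho⟩ := exists_pt_smul hS g none
    exact ⟨o, ho.symm⟩
  · rintro ⟨_ | ⟨a, b⟩, rfl⟩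
    · exact ⟨1, one_smul _ _⟩
    · refine ⟨uS hS a b * wS hS, ?_⟩
      show (uS hS a b * wS hS) • suzukiPointInfinity F = _
      rw [mul_smul, wS_inf, uS_pt_zero]

theorem card_ovoid : Nat.card (suzukiOvoid F m) = (2 ^ (2 * m + 1)) ^ 2 + 1 := by
  classical
  have h : suzukiOvoid F m = Set.range (pt m) := Set.ext fun p => mem_ovoid_iff
  rw [h, Nat.card_range_of_injective pt_injective, Finite.card_option, Nat.card_prod,
    Nat.card_eq_fintype_card, hS.card, sq]

theorem index_borel : (borel m F).index = (2 ^ (2 * m + 1)) ^ 2 + 1 := by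
  rw [borel, MulAction.index_stabilizer, orbit_inf hS]
  exact card_ovoid hS

theorem card_Sz : Nat.card (Cfsg.Sz F m) =
    (2 ^ (2 * m + 1)) ^ 2 * ((2 ^ (2 * m + 1)) ^ 2 + 1) * (2 ^ (2 * m + 1) - 1) := by
  rw [← (borel m F).card_mul_index, card_borel hS, index_borel hS]
  ring

theorem pretransitive2 : MulAction.IsMultiplyPretransitive (↥(Cfsg.Sz F m)) (suzukiOvoid F m) 2 := by
  rw [MulAction.is_two_pretransitive_iff]
  let b₀ : suzukiOvoid F m := ⟨pt m none, mem_ovoid_iff.2 ⟨_, rfl⟩⟩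
  let b₁ : suzukiOvoid F m := ⟨pt m (some (0, 0)), mem_ovoid_iff.2 ⟨_, rfl⟩⟩
  have key : ∀ a b : suzukiOvoid F m, a ≠ b → ∃ g : ↥(Cfsg.Sz F m), g • b₀ = a ∧ g • b₁ = b := by
    rintro ⟨a, ha⟩ ⟨b, hb⟩ hab
    obtain ⟨g, hg⟩ := (orbit_inf hS).symm ▸ ha
    obtain ⟨o, ho⟩ := mem_ovoid_iff.1 hb
    obtain ⟨o', ho'⟩ := exists_pt_smul hS g⁻¹ o
    rcases o' with _ | ⟨x, y⟩
    · exfalso
      refine hab (Subtype.ext ?_)
      show a = b
      rw [← hg, ← ho]
      exact ((inv_smul_eq_iff).1 ho').symm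
    · refine ⟨g * uS hS x y, Subtype.ext ?_, Subtype.ext ?_⟩
      · show (g * uS hS x y) • pt m none = a
        rw [mul_smul, show pt m none = suzukiPointInfinity F from rfl, uS_inf, ← hg]
      · show (g * uS hS x y) • pt m (some ((0 : F), 0)) = b
        rw [mul_smul, uS_pt_zero, ← ho', smul_inv_smul, ho]
  intro a b c d hab hcd
  obtain ⟨g, hg0, hg1⟩ := key a b hab
  obtain ⟨k, hk0, hk1⟩ := key c d hcd
  exact ⟨k * g⁻¹, by rw [mul_smul, ← hg0, inv_smul_smul, hk0],
    by rw [mul_smul, ← hg1, inv_smul_smul, hk1]⟩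

theorem exists_par (c : Fˣ) : ∃ z : Fˣ, par m (z : F) = c := by
  classical
  have hinj : Function.Injective fun z : Fˣ => Units.mk0 (par m (z : F))
      (div_ne_zero (pow_ne_zero _ z.ne_zero) (th_ne_zero z.ne_zero)) := by
    intro z z' h
    have h' : par m (z : F) = par m (z' : F) := congrArg Units.val h
    refine Units.ext (th_inj hS (m := m) ?_)
    rw [← th_par hS z, h', th_par hS]
  obtain ⟨z, hz⟩ := Finite.surjective_of_injective hinj c
  exact ⟨z, congrArg Units.val hz⟩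

theorem exists_th_unit (c : F) (hc : c ≠ 0) : ∃ z : Fˣ, th m (z : F) = c := by
  classical
  obtain ⟨x, hx⟩ := (Finite.surjective_of_injective fun x y h => th_inj hS (m := m) h) c
  exact ⟨Units.mk0 x (fun e => hc (by rw [← hx, e, th_zero])), hx⟩

theorem exists_ne_zero_one : ∃ y : F, y ≠ 0 ∧ y ≠ 1 := by
  classical
  by_contra hc
  push Not at hc
  have hle : Fintype.card F ≤ ({0, 1} : Finset F).card := Finset.card_le_card fun y _ => by
    rw [Finset.mem_insert, Finset.mem_singleton]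
    exact or_iff_not_imp_left.2 (hc y)
  have := eight_le hS
  have := Finset.card_le_two (a := (0 : F)) (b := 1)
  omega

theorem uS_mem_commutator (a b : F) : uS hS a b ∈ commutator ↥(Cfsg.Sz F m) := by
  obtain ⟨y, hy0, hy1⟩ := exists_ne_zero_one hS
  obtain ⟨z, hz⟩ := exists_par hS (Units.mk0 y hy0)
  rw [Units.val_mk0] at hz
  have hcomm : ∀ a' b', hTor hS z * uS hS a' b' * (hTor hS z)⁻¹ * (uS hS a' b')⁻¹ ∈
      commutator ↥(Cfsg.Sz F m) := fun a' b' =>
    Subgroup.commutator_mem_commutator (Subgroup.mem_top _) (Subgroup.mem_top _)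
  have hz1 : z ≠ 1 := fun e => hy1 (by
    rw [← hz, e, Units.val_one, par, th_one, one_pow, div_one])
  have hth1 : th m (z : F) + 1 ≠ 0 := fun e => hz1 (Units.ext (th_inj hS (m := m) (by
    rw [Units.val_one, th_one]; linear_combination e - two hS)))
  have hpar : par m (z : F) + 1 ≠ 0 := fun e => hy1 (by
    rw [← hz]; linear_combination e - two hS)
  have hZ : ∀ b', uS hS 0 b' ∈ commutator ↥(Cfsg.Sz F m) := by
    intro b'
    have h := hcomm 0 (b' / (th m (z : F) + 1))
    rw [hTor_conj, uS_inv, uS_mul] at h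
    convert h using 2
    · ring
    · simp only [th_zero, mul_zero, zero_mul, add_zero]
      field_simp
  have h := hcomm (a / (par m (z : F) + 1)) 0
  rw [hTor_conj, uS_inv, uS_mul] at h
  generalize hB : th m (z : F) * 0 + (0 + th m (a / (par m (z : F) + 1)) * (a / (par m (z : F) + 1))) +
    th m (par m (z : F) * (a / (par m (z : F) + 1))) * (a / (par m (z : F) + 1)) = B at h
  rw [show par m (z : F) * (a / (par m (z : F) + 1)) + a / (par m (z : F) + 1) = a by
    field_simp] at h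
  have h' := mul_mem h (hZ (B + b))
  rw [uS_mul] at h'
  convert h' using 2
  · ring
  · linear_combination (-B) * two hS

theorem hTor_mem_commutator (z : Fˣ) : hTor hS z ∈ commutator ↥(Cfsg.Sz F m) := by
  classical
  have hsq : Function.Injective fun y : Fˣ => y⁻¹ * y⁻¹ := fun x y h => by
    have h' : ((x⁻¹ : Fˣ) : F) ^ 2 = ((y⁻¹ : Fˣ) : F) ^ 2 := by
      rw [sq, sq, ← Units.val_mul, ← Units.val_mul]; exact congrArg Units.val h
    exact inv_injective (Units.ext (sq_inj hS h'))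
  obtain ⟨y, rfl⟩ := Finite.surjective_of_injective hsq z
  rw [← hTor_mul]
  have h : wS hS * hTor hS y * (wS hS)⁻¹ * (hTor hS y)⁻¹ ∈ commutator ↥(Cfsg.Sz F m) :=
    Subgroup.commutator_mem_commutator (Subgroup.mem_top _) (Subgroup.mem_top _)
  rwa [wS_hTor, mul_inv_cancel_right, hTor_inv] at h

theorem borel_le_commutator : borel m F ≤ commutator ↥(Cfsg.Sz F m) := fun g hg => by
  obtain ⟨a, b, z, rfl⟩ := borel_eq hS hg
  exact mul_mem (uS_mem_commutator hS a b) (hTor_mem_commutator hS z)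

theorem commutator_eq_top : commutator ↥(Cfsg.Sz F m) = ⊤ := by
  set C := commutator ↥(Cfsg.Sz F m) with hC
  have hw : wS hS ∈ C := by
    obtain ⟨a, ha⟩ : ∃ a : F, a ≠ 0 := ⟨1, one_ne_zero⟩
    set g := wS hS * uS hS a 0 * wS hS with hg
    have hgC : g ∈ C := by
      have hconj := (Subgroup.commutator_normal (⊤ : Subgroup ↥(Cfsg.Sz F m)) ⊤).conj_mem
        _ (uS_mem_commutator hS a 0) (wS hS)
      rwa [inv_eq_of_mul_eq_one_right (wS_sq hS)] at hconj
    have hgB : g ∉ borel m F := by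
      intro h
      have h' : g • suzukiPointInfinity F = suzukiPointInfinity F := h
      rw [hg, mul_smul, mul_smul, wS_inf, uS_pt_zero, ← wS_zero hS] at h'
      have := pt_injective (MulAction.injective (wS hS) h')
      simp [ha] at this
    obtain ⟨a', b', k, hk, hgk⟩ := big_cell hS hgB
    have := mul_mem (mul_mem (inv_mem (uS_mem_commutator hS a' b')) hgC)
      (inv_mem (borel_le_commutator hS hk))
    rw [hgk] at this
    convert this using 1
    group
  refine eq_top_iff.2 fun g _ => ?_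
  by_cases hg : g ∈ borel m F
  · exact borel_le_commutator hS hg
  · obtain ⟨a, b, k, hk, rfl⟩ := big_cell hS hg
    exact mul_mem (mul_mem (uS_mem_commutator hS a b) hw) (borel_le_commutator hS hk)

theorem eq_one_of_forall_fix {g : ↥(Cfsg.Sz F m)} (h : ∀ o : Option (F × F), g • pt m o = pt m o) : g = 1 := by
  obtain ⟨z, rfl⟩ := fix_two hS (h none) (h (some (0, 0)))
  have h1 := h (some (1, 0))
  rw [hTor_pt] at h1
  have : par m (z : F) = 1 := by simpa using congrArg Prod.fst (Option.some.inj (pt_injective h1))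
  rw [par_eq_one hS this, hTor_one]

theorem eq_one_of_fix_three {g : ↥(Cfsg.Sz F m)} {x y : F} (hxy : ¬ (x = 0 ∧ y = 0))
    (h0 : g • suzukiPointInfinity F = suzukiPointInfinity F)
    (h1 : g • pt m (some ((0 : F), 0)) = pt m (some (0, 0)))
    (h2 : g • pt m (some (x, y)) = pt m (some (x, y))) : g = 1 := by
  obtain ⟨z, rfl⟩ := fix_two hS h0 h1
  rw [hTor_pt] at h2
  have h3 := Option.some.inj (pt_injective h2)
  simp only [Prod.mk.injEq] at h3
  have hz : z = 1 := by
    by_cases hx : x = 0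
    · have hy : y ≠ 0 := fun e => hxy ⟨hx, e⟩
      exact Units.ext (th_inj hS (m := m) (by
        rw [Units.val_one, th_one]; exact mul_right_cancel₀ hy (h3.2.trans (one_mul y).symm)))
    · exact par_eq_one hS (mul_right_cancel₀ hx (h3.1.trans (one_mul x).symm))
  rw [hz, hTor_one]

/-- The unipotent radical of the point stabiliser. -/
def unip : Subgroup ↥(Cfsg.Sz F m) where
  carrier := Set.range fun p : F × F => uS hS p.1 p.2
  one_mem' := ⟨(0, 0), uS_zero hS⟩
  mul_mem' := by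
    rintro _ _ ⟨p, rfl⟩ ⟨p', rfl⟩
    exact ⟨(p.1 + p'.1, p.2 + p'.2 + th m p.1 * p'.1), (uS_mul hS _ _ _ _).symm⟩
  inv_mem' := by
    rintro _ ⟨p, rfl⟩
    exact ⟨(p.1, p.2 + th m p.1 * p.1), (uS_inv hS _ _).symm⟩

theorem mem_unip {g : ↥(Cfsg.Sz F m)} : g ∈ unip hS ↔ ∃ a b, g = uS hS a b :=
  ⟨fun ⟨p, h⟩ => ⟨p.1, p.2, h.symm⟩, fun ⟨a, b, h⟩ => ⟨(a, b), h.symm⟩⟩

theorem card_unip : Nat.card (unip hS) = (2 ^ (2 * m + 1)) ^ 2 := by
  have hinj : Function.Injective fun p : F × F => uS hS p.1 p.2 := fun p p' h =>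
    Prod.ext (uS_injective hS h).1 (uS_injective hS h).2
  rw [show (Nat.card (unip hS)) = Nat.card (Set.range fun p : F × F => uS hS p.1 p.2) from rfl,
    Nat.card_range_of_injective hinj, Nat.card_prod, Nat.card_eq_fintype_card, hS.card, sq]

theorem unip_le_borel : unip hS ≤ borel m F := fun g hg => by
  obtain ⟨a, b, rfl⟩ := (mem_unip hS).1 hg
  exact uS_mem_borel hS a b

theorem borel_le_normalizer : borel m F ≤ Subgroup.normalizer (unip hS : Set ↥(Cfsg.Sz F m)) := by
  intro g hg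
  obtain ⟨a, b, z, rfl⟩ := borel_eq hS hg
  refine mul_mem (Subgroup.le_normalizer ((mem_unip hS).2 ⟨a, b, rfl⟩)) ?_
  rw [Subgroup.mem_normalizer_iff]
  intro x
  constructor
  · intro hx
    obtain ⟨c, d, rfl⟩ := (mem_unip hS).1 hx
    rw [hTor_conj]; exact (mem_unip hS).2 ⟨_, _, rfl⟩
  · intro hx
    obtain ⟨c, d, hcd⟩ := (mem_unip hS).1 hx
    have : x = (hTor hS z)⁻¹ * uS hS c d * ((hTor hS z)⁻¹)⁻¹ := by rw [← hcd]; group
    rw [this, hTor_inv, hTor_conj]; exact (mem_unip hS).2 ⟨_, _, rfl⟩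

theorem isSimple : IsSimpleGroup ↥(Cfsg.Sz F m) := by
  haveI : Nontrivial ↥(Cfsg.Sz F m) := ⟨⟨uS hS 1 0, 1, fun h => by
    rw [← uS_zero hS] at h; exact one_ne_zero (uS_injective hS h).1⟩⟩
  refine ⟨fun N hN => ?_⟩
  by_cases hbot : N = ⊥
  · exact Or.inl hbot
  refine Or.inr ?_
  obtain ⟨n, hn, hn1⟩ := N.bot_or_exists_ne_one.resolve_left hbot
  obtain ⟨o, ho⟩ : ∃ o, n • pt m o ≠ pt m o := by
    by_contra hc
    push Not at hc
    exact hn1 (eq_one_of_forall_fix hS hc)
  haveI := pretransitive2 hS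
  have h2 : ∀ {a b c d : suzukiOvoid F m}, a ≠ b → c ≠ d →
      ∃ g : ↥(Cfsg.Sz F m), g • a = c ∧ g • b = d := MulAction.is_two_pretransitive_iff.1 this
  have htrans : ∀ o' : Option (F × F), ∃ k ∈ N, k • pt m none = pt m o' := by
    have hbase : ∀ o₁ o₂ : Option (F × F), o₁ ≠ o₂ → ∃ k ∈ N, k • pt m o₁ = pt m o₂ := by
      intro o₁ o₂ hne
      obtain ⟨o3, ho3⟩ := exists_pt_smul hS n o
      obtain ⟨g, hg1, hg2⟩ := h2 (a := ⟨pt m o, mem_ovoid_iff.2 ⟨_, rfl⟩⟩)
        (b := ⟨pt m o3, mem_ovoid_iff.2 ⟨_, rfl⟩⟩) (c := ⟨pt m o₁, mem_ovoid_iff.2 ⟨_, rfl⟩⟩)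
        (d := ⟨pt m o₂, mem_ovoid_iff.2 ⟨_, rfl⟩⟩)
        (fun e => ho (ho3.trans (congrArg Subtype.val e).symm))
        (fun e => pt_ne hS hne (congrArg Subtype.val e))
      have hg1' : g • pt m o = pt m o₁ := congrArg Subtype.val hg1
      have hg2' : g • pt m o3 = pt m o₂ := congrArg Subtype.val hg2
      exact ⟨g * n * g⁻¹, hN.conj_mem _ hn g,
        by rw [← hg1', mul_smul, inv_smul_smul, mul_smul, ho3, hg2']⟩
    intro o'
    by_cases h : o' = none
    · exact ⟨1, one_mem _, by rw [h, one_smul]⟩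
    · exact hbase none o' (Ne.symm h)
  -- so `N` and the point stabiliser generate
  set π := QuotientGroup.mk' N
  have hsurj : ∀ g : ↥(Cfsg.Sz F m), ∃ b ∈ borel m F, π g = π b := by
    intro g
    obtain ⟨o', ho'⟩ := exists_pt_smul hS g none
    obtain ⟨k, hk, hk'⟩ := htrans o'
    refine ⟨k⁻¹ * g, ?_, ?_⟩
    · show (k⁻¹ * g) • pt m none = pt m none
      rw [mul_smul, ho', ← hk', inv_smul_smul]
    · rw [map_mul, map_inv, show π k = 1 from (QuotientGroup.eq_one_iff k).2 hk, inv_one, one_mul]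
  -- the torus dies in the commutator, the unipotent radical is soluble
  set Q := ↥(Cfsg.Sz F m) ⧸ N
  set V := (unip hS).map π
  have hVn : V.Normal := ⟨fun v hv g => by
    obtain ⟨u, hu, rfl⟩ := hv
    obtain ⟨g, rfl⟩ := QuotientGroup.mk'_surjective N g
    obtain ⟨b, hb, hgb⟩ := hsurj g
    rw [hgb, ← map_inv, ← map_mul, ← map_mul]
    exact ⟨b * u * b⁻¹, (Subgroup.mem_normalizer_iff.1 (borel_le_normalizer hS hb) u).1 hu, rfl⟩⟩
  have hperf : commutator Q = ⊤ := by
    have h := congrArg (Subgroup.map π) (commutator_eq_top hS)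
    rw [commutator_def, Subgroup.map_commutator,
      Subgroup.map_top_of_surjective _ (QuotientGroup.mk'_surjective N)] at h
    exact h
  have hV : V = ⊤ := by
    have habel : ∀ x y : Q, x * y * x⁻¹ * y⁻¹ ∈ V := by
      intro x y
      obtain ⟨x, rfl⟩ := QuotientGroup.mk'_surjective N x
      obtain ⟨y, rfl⟩ := QuotientGroup.mk'_surjective N y
      obtain ⟨bx, hbx, ex⟩ := hsurj x
      obtain ⟨by', hby, ey⟩ := hsurj y
      obtain ⟨a, b, z, rfl⟩ := borel_eq hS hbx
      obtain ⟨c, d, z', rfl⟩ := borel_eq hS hby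
      rw [ex, ey, ← map_inv, ← map_inv, ← map_mul, ← map_mul, ← map_mul]
      refine Subgroup.mem_map_of_mem _ ((mem_unip hS).2 ?_)
      rw [_root_.mul_inv_rev, _root_.mul_inv_rev, hTor_inv, hTor_inv, uS_inv, uS_inv]
      refine ⟨?_, ?_, ?eq⟩
      case eq =>
        calc uS hS a b * hTor hS z * (uS hS c d * hTor hS z') *
              (hTor hS z⁻¹ * uS hS a (b + th m a * a)) *
              (hTor hS z'⁻¹ * uS hS c (d + th m c * c))
            = uS hS a b * (hTor hS z * uS hS c d) * (hTor hS z' * hTor hS z⁻¹) *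
                uS hS a (b + th m a * a) * (hTor hS z'⁻¹ * uS hS c (d + th m c * c)) := by
              simp only [mul_assoc]
          _ = uS hS a b * uS hS (par m (z : F) * c) (th m (z : F) * d) *
                (hTor hS (z * (z' * z⁻¹)) * uS hS a (b + th m a * a)) *
                (hTor hS z'⁻¹ * uS hS c (d + th m c * c)) := by
              rw [hTor_uS, hTor_mul, ← hTor_mul hS z (z' * z⁻¹)]; simp only [mul_assoc]
          _ = uS hS a b * uS hS (par m (z : F) * c) (th m (z : F) * d) *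
                uS hS (par m (z' : F) * a) (th m (z' : F) * (b + th m a * a)) *
                (hTor hS z' * hTor hS z'⁻¹) * uS hS c (d + th m c * c) := by
              rw [show z * (z' * z⁻¹) = z' by rw [mul_comm z' z⁻¹, mul_inv_cancel_left],
                hTor_uS]
              simp only [mul_assoc]
          _ = _ := by
              rw [hTor_mul, mul_inv_cancel, hTor_one, mul_one, uS_mul, uS_mul, uS_mul]
    refine top_le_iff.1 ?_
    rw [← hperf, commutator_def, Subgroup.commutator_le]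
    exact fun x _ y _ => habel x y
  have hp : IsPGroup 2 ↥(⊤ : Subgroup Q) := by
    rw [← hV]
    refine (IsPGroup.of_card (n := (2 * m + 1) * 2) ?_).map π
    rw [card_unip hS, ← pow_mul]
  have hQ : IsPGroup 2 Q := hp.of_surjective (Subgroup.topEquiv (G := Q)).toMonoidHom (Subgroup.topEquiv (G := Q)).surjective
  haveI : Fact (Nat.Prime 2) := ⟨Nat.prime_two⟩
  haveI : Group.IsNilpotent Q := hQ.isNilpotent
  haveI : Group.IsSolvable Q := inferInstance
  by_contra hNtop
  haveI : Nontrivial Q := QuotientGroup.nontrivial_iff.2 hNtop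
  exact absurd hperf (Group.IsSolvable.commutator_lt_top_of_nontrivial Q).ne

end Cfsg.Agent.Suz
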