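import Cfsg.Agent.Lib.Lie.Sz.Sylow

/-! Maps between Suzuki groups induced by field embeddings. -/

set_option autoImplicit false

namespace Cfsg.Agent.Suz

open Matrix

variable {F : Type*} [Field F] {m : ℕ} [Fintype F] (hS : SzField F m)
variable {K : Type*} [Field K] {k : ℕ} [Fintype K] (hK : SzField K k)
variable (ι : K →+* F) (hι : ∀ x, ι (th k x) = th m (ι x))

omit [Fintype F] [Fintype K] in
theorem map_wEl : SpecialLinearGroup.map ι (wEl : SpecialLinearGroup (Fin 4) K) = wEl := by
  refine Subtype.ext (Matrix.ext fun i j => ?_)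
  show ι ((wMat : Matrix (Fin 4) (Fin 4) K) i j) = (wMat : Matrix (Fin 4) (Fin 4) F) i j
  fin_cases i <;> fin_cases j <;> simp [wMat, suzukiForm]

include hι

omit [Fintype F] [Fintype K] in
theorem map_tEl (a b : K) : SpecialLinearGroup.map ι (tEl k a b) = tEl m (ι a) (ι b) := by
  refine Subtype.ext (Matrix.ext fun i j => ?_)
  show ι (tMat k a b i j) = tMat m (ι a) (ι b) i j
  fin_cases i <;> fin_cases j <;> simp [tMat, fo, hι]

omit [Fintype F] [Fintype K] in
theorem map_dEl (z : Kˣ) : SpecialLinearGroup.map ι (dEl k z) = dEl m (Units.map ι.toMonoidHom z) := by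
  refine Subtype.ext (Matrix.ext fun i j => ?_)
  show ι (dMat k (z : K) i j) = dMat m ((Units.map ι.toMonoidHom z : Fˣ) : F) i j
  fin_cases i <;> fin_cases j <;> simp [dMat, hι]

include hS hK

theorem map_mem (g : ↥(Cfsg.Sz K k)) :
    SpecialLinearGroup.map ι (g : SpecialLinearGroup (Fin 4) K) ∈ Cfsg.Sz F m := by
  have hb : ∀ g ∈ borel k K, SpecialLinearGroup.map ι ((g : ↥(Cfsg.Sz K k)) : SpecialLinearGroup (Fin 4) K) ∈ Cfsg.Sz F m := by
    intro g hg
    obtain ⟨a, b, z, rfl⟩ := borel_eq hK hg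
    rw [Subgroup.coe_mul, map_mul]
    exact mul_mem (by rw [uS, map_tEl ι hι]; exact tEl_mem hS _ _)
      (by rw [hTor, map_dEl ι hι]; exact dEl_mem hS _)
  by_cases hg : g ∈ borel k K
  · exact hb g hg
  · obtain ⟨a, b, l, hl, rfl⟩ := big_cell hK hg
    rw [Subgroup.coe_mul, Subgroup.coe_mul, map_mul, map_mul]
    exact mul_mem (mul_mem (by rw [uS, map_tEl ι hι]; exact tEl_mem hS _ _)
      (by rw [wS, map_wEl ι]; exact wEl_mem hS)) (hb l hl)

/-- The homomorphism of Suzuki groups induced by a compatible field embedding. -/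
def fieldHom : ↥(Cfsg.Sz K k) →* ↥(Cfsg.Sz F m) :=
  ((SpecialLinearGroup.map ι).comp (Cfsg.Sz K k).subtype).codRestrict _ (map_mem hS hK ι hι)

theorem fieldHom_injective : Function.Injective (fieldHom hS hK ι hι) := by
  intro g h e
  have e' : SpecialLinearGroup.map ι (g : SpecialLinearGroup (Fin 4) K) =
      SpecialLinearGroup.map ι (h : SpecialLinearGroup (Fin 4) K) := congrArg Subtype.val e
  exact Subtype.ext (Subtype.ext (Matrix.map_injective ι.injective (congrArg Subtype.val e')))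

theorem fieldHom_uS (a b : K) : fieldHom hS hK ι hι (uS hK a b) = uS hS (ι a) (ι b) :=
  Subtype.ext (map_tEl ι hι a b)

theorem fieldHom_hTor (z : Kˣ) : fieldHom hS hK ι hι (hTor hK z) = hTor hS (Units.map ι.toMonoidHom z) :=
  Subtype.ext (map_dEl ι hι z)

theorem fieldHom_wS : fieldHom hS hK ι hι (wS hK) = wS hS := Subtype.ext (map_wEl ι)

end Cfsg.Agent.Suz
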