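import Cfsg.Agent.Lib.Lie.Sz.Tori
import Cfsg.Prelude.Def_Transfer

/-! Consequences of the torus count: centralisers, the partition, the cyclic Sylow subgroups. -/

set_option autoImplicit false

namespace Cfsg.Agent.Suz

open scoped Pointwise

variable {F : Type*} [Field F] {m : ℕ} [Fintype F] (hS : SzField F m)

/-- The three torus orders. -/
def torusOrders (m : ℕ) : Set ℕ :=
  {2 ^ (2 * m + 1) - 1, 2 ^ (2 * m + 1) + 2 ^ (m + 1) + 1, 2 ^ (2 * m + 1) - 2 ^ (m + 1) + 1}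

include hS

theorem torusOrders_props {k : ℕ} (hk : k ∈ torusOrders m) :
    1 < k ∧ Odd k ∧ ∀ l ∈ torusOrders m, k ≠ l → Nat.Coprime k l := by
  obtain ⟨hprod, hcop, hb5⟩ := ab_props hS
  set a := 2 ^ (2 * m + 1) + 2 ^ (m + 1) + 1
  set b := 2 ^ (2 * m + 1) - 2 ^ (m + 1) + 1
  have hq8 : 8 ≤ 2 ^ (2 * m + 1) := hS.card ▸ eight_le hS
  obtain ⟨hao, hac⟩ := dvd_coprime (m := m) (n := a) (hprod ▸ dvd_mul_right _ _)
  obtain ⟨hbo, hbc⟩ := dvd_coprime (m := m) (n := b) (hprod ▸ dvd_mul_left _ _)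
  have hho : Odd (2 ^ (2 * m + 1) - 1) :=
    Nat.Even.sub_odd Nat.one_le_two_pow (Nat.even_pow.2 ⟨even_two, by omega⟩) odd_one
  rcases hk with rfl | rfl | rfl
  · refine ⟨by omega, hho, ?_⟩
    rintro l (rfl | rfl | rfl) hne
    exacts [absurd rfl hne, hac.symm, hbc.symm]
  · refine ⟨lt_of_lt_of_le (show 1 < 5 by norm_num) (hb5.trans (by
        show 2 ^ (2 * m + 1) - 2 ^ (m + 1) + 1 ≤ 2 ^ (2 * m + 1) + 2 ^ (m + 1) + 1
        generalize 2 ^ (m + 1) = r; generalize 2 ^ (2 * m + 1) = q; omega)), hao, ?_⟩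
    rintro l (rfl | rfl | rfl) hne
    exacts [hac, absurd rfl hne, hcop]
  · refine ⟨by omega, hbo, ?_⟩
    rintro l (rfl | rfl | rfl) hne
    exacts [hbc, hcop.symm, absurd rfl hne]

/-- The centraliser of an element of torus type. -/
theorem cent_cases {g : ↥(Cfsg.Sz F m)} (hg : g ≠ 1) :
    (∃ c, c * g * c⁻¹ ∈ unip hS) ∨
    (IsCyclic (Subgroup.centralizer ({g} : Set ↥(Cfsg.Sz F m))) ∧
      Nat.card (Subgroup.centralizer ({g} : Set ↥(Cfsg.Sz F m))) ∈ torusOrders m ∧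
      ∀ u ∈ Subgroup.centralizer ({g} : Set ↥(Cfsg.Sz F m)), u ≠ 1 →
        Subgroup.centralizer ({u} : Set ↥(Cfsg.Sz F m)) = Subgroup.centralizer {g}) := by
  rcases trichotomy hS g with h | ⟨c, z, hz, hc⟩ | h
  · exact Or.inl h
  · right
    have hgc : g = c⁻¹ * hTor hS z * c⁻¹⁻¹ := by rw [← hc]; group
    have hC : Subgroup.centralizer ({g} : Set ↥(Cfsg.Sz F m)) = (torus hS).map (MulAut.conj c⁻¹).toMonoidHom := by
      rw [hgc, centralizer_conj, centralizer_torus hS hz]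
    refine ⟨?_, ?_, fun u hu hu1 => ?_⟩
    · haveI := isCyclic_torus hS
      rw [hC]
      exact isCyclic_of_surjective (Subgroup.equivMapOfInjective _ _ (MulAut.conj c⁻¹).injective).toMonoidHom
        (Subgroup.equivMapOfInjective _ _ (MulAut.conj c⁻¹).injective).surjective
    · rw [hgc, card_centralizer_conj, centralizer_torus hS hz, card_torus hS]
      exact Or.inl rfl
    · rw [hC] at hu ⊢
      obtain ⟨v, hv, rfl⟩ := hu
      obtain ⟨z', rfl⟩ := mem_torus hS hv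
      have hz' : z' ≠ 1 := fun e => hu1 (by rw [e, hTor_one, map_one])
      show Subgroup.centralizer ({c⁻¹ * hTor hS z' * c⁻¹⁻¹} : Set ↥(Cfsg.Sz F m)) = _
      rw [centralizer_conj, centralizer_torus hS hz']
  · right
    obtain ⟨x, y, ⟨hx, hxc, -⟩, ⟨hy, hyc, -⟩, hall⟩ := exists_tori hS
    refine ⟨isCyclic_centralizer hS h, ?_, fun u hu hu1 => FPF.cent hS h hu hu1⟩
    rcases hall g h with h' | h'
    · obtain ⟨d, hd⟩ := FPF.eq_of_mem_conjSet hS hx h'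
      rw [hd, show Nat.card ((Subgroup.centralizer ({x} : Set ↥(Cfsg.Sz F m))).map (MulAut.conj d).toMonoidHom :
        Subgroup ↥(Cfsg.Sz F m)) = _ from Subgroup.card_map_of_injective (MulAut.conj d).injective, hxc]
      exact Or.inr (Or.inl rfl)
    · obtain ⟨d, hd⟩ := FPF.eq_of_mem_conjSet hS hy h'
      rw [hd, show Nat.card ((Subgroup.centralizer ({y} : Set ↥(Cfsg.Sz F m))).map (MulAut.conj d).toMonoidHom :
        Subgroup ↥(Cfsg.Sz F m)) = _ from Subgroup.card_map_of_injective (MulAut.conj d).injective, hyc]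
      exact Or.inr (Or.inr rfl)

theorem orderOf_odd_of_cyclic {U : Subgroup ↥(Cfsg.Sz F m)} (hU : Nat.card U ∈ torusOrders m)
    {g : ↥(Cfsg.Sz F m)} (hg : g ∈ U) : Odd (orderOf g) :=
  (torusOrders_props hS hU).2.1.of_dvd_nat (Subgroup.orderOf_dvd_natCard _ hg)

theorem not_conj_unip_of_odd {g : ↥(Cfsg.Sz F m)} (hg : g ≠ 1) (ho : Odd (orderOf g))
    (c : ↥(Cfsg.Sz F m)) : c * g * c⁻¹ ∉ unip hS := by
  intro h
  have h4 := orderOf_of_mem_unip hS h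
  rw [orderOf_conj' hS] at h4
  exact hg (orderOf_eq_one_iff.1 (Nat.eq_one_of_dvd_coprimes
    (Nat.Coprime.pow_right 2 (Nat.coprime_two_right.2 ho)) dvd_rfl h4))

theorem conj_unip_isPGroup {g : ↥(Cfsg.Sz F m)} (hg : g ≠ 1) {c : ↥(Cfsg.Sz F m)} (hc : c * g * c⁻¹ ∈ unip hS) :
    IsPGroup 2 (Subgroup.centralizer ({g} : Set ↥(Cfsg.Sz F m))) := by
  have hle : Subgroup.centralizer ({g} : Set ↥(Cfsg.Sz F m)) ≤ (unip hS).map (MulAut.conj c⁻¹).toMonoidHom := by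
    rw [show g = c⁻¹ * (c * g * c⁻¹) * c⁻¹⁻¹ by group, centralizer_conj]
    exact Subgroup.map_mono (centralizer_unip_le hS hc fun e => hg (conj_eq_one_iff.1 e))
  exact ((isPGroup_unip hS).map _).to_le hle

theorem isCNGroup : Cfsg.IsCNGroup ↥(Cfsg.Sz F m) := by
  intro g hg
  rcases cent_cases hS hg with ⟨c, hc⟩ | ⟨hcyc, -, -⟩
  · haveI : Fact (Nat.Prime 2) := ⟨Nat.prime_two⟩
    exact (conj_unip_isPGroup hS hg hc).isNilpotent
  · letI := IsCyclic.commGroup (α := Subgroup.centralizer ({g} : Set ↥(Cfsg.Sz F m)))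
    exact inferInstance

theorem sylow_odd_cyclic {p : ℕ} [Fact p.Prime] (hp : p ≠ 2) (P : Sylow p ↥(Cfsg.Sz F m)) : IsCyclic P := by
  rcases subsingleton_or_nontrivial P with h | h
  · infer_instance
  haveI := P.2.center_nontrivial
  obtain ⟨⟨z, hz⟩, hz1⟩ := exists_ne (1 : Subgroup.center P)
  have hz1' : (z : ↥(Cfsg.Sz F m)) ≠ 1 := fun e => hz1 (Subtype.ext (Subtype.ext e))
  have hodd : Odd (orderOf (z : ↥(Cfsg.Sz F m))) := by
    obtain ⟨k, hk⟩ := IsPGroup.iff_orderOf.1 P.2 z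
    rw [Subgroup.orderOf_coe, hk]
    exact ((Fact.out : p.Prime).odd_of_ne_two hp).pow
  rcases cent_cases hS hz1' with ⟨c, hc⟩ | ⟨hcyc, -, -⟩
  · exact absurd hc (not_conj_unip_of_odd hS hz1' hodd c)
  · have hle : (P : Subgroup ↥(Cfsg.Sz F m)) ≤ Subgroup.centralizer ({(z : ↥(Cfsg.Sz F m))} : Set ↥(Cfsg.Sz F m)) :=
      fun w hw => Subgroup.mem_centralizer_singleton_iff.2 (congrArg Subtype.val (Subgroup.mem_center_iff.1 hz ⟨w, hw⟩))
    exact isCyclic_of_injective (Subgroup.inclusion hle) (Subgroup.inclusion_injective hle)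

theorem exceptional_tori (k : ℕ)
    (hk : k ∈ ({2 ^ (2 * m + 1) + 2 ^ (m + 1) + 1, 2 ^ (2 * m + 1) - 2 ^ (m + 1) + 1} : Set ℕ)) :
    ∃ U : Subgroup ↥(Cfsg.Sz F m), IsCyclic U ∧ Nat.card U = k ∧
      (∀ u ∈ U, u ≠ 1 → Subgroup.centralizer {u} = U) ∧
      Nat.card (Subgroup.normalizer (U : Set ↥(Cfsg.Sz F m))) = 4 * k := by
  obtain ⟨x, y, ⟨hx, hxc, hxn⟩, ⟨hy, hyc, hyn⟩, -⟩ := exists_tori hS
  rcases hk with rfl | rfl
  · exact ⟨_, isCyclic_centralizer hS hx, hxc, fun u hu hu1 => FPF.cent hS hx hu hu1, by rw [hxn, hxc]⟩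
  · exact ⟨_, isCyclic_centralizer hS hy, hyc, fun u hu hu1 => FPF.cent hS hy hu hu1, by rw [hyn, hyc]⟩

theorem partition (g : ↥(Cfsg.Sz F m)) (hg : g ≠ 1) :
    ∃! U : Subgroup ↥(Cfsg.Sz F m), ((∃ P : Sylow 2 ↥(Cfsg.Sz F m), U = (P : Subgroup ↥(Cfsg.Sz F m))) ∨
      (IsCyclic ↥U ∧ Nat.card ↥U ∈ torusOrders m)) ∧ g ∈ U := by
  haveI : Fact (Nat.Prime 2) := ⟨Nat.prime_two⟩
  rcases cent_cases hS hg with ⟨c, hc⟩ | ⟨hcyc, hcard, hcent⟩
  · have hmem : g ∈ (unip hS).map (MulAut.conj c⁻¹).toMonoidHom :=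
      ⟨c * g * c⁻¹, hc, by show c⁻¹ * (c * g * c⁻¹) * c⁻¹⁻¹ = g; group⟩
    refine ⟨_, ⟨Or.inl ⟨c⁻¹ • sylowU hS, rfl⟩, hmem⟩, ?_⟩
    rintro U ⟨⟨P, rfl⟩ | ⟨-, hU⟩, hgU⟩
    · obtain ⟨d, hd⟩ := exists_conj_unip hS P
      have hgU' := hgU
      rw [hd] at hgU' ⊢
      obtain ⟨u, hu, hue⟩ := hgU'
      have hue' : d * u * d⁻¹ = g := hue
      have hu1 : u ≠ 1 := fun e => hg (by rw [← hue', e]; group)
      have hcd : c * d ∈ borel m F := mem_borel_of_conj_mem hS hu hu1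
        (by rw [show c * d * u * (c * d)⁻¹ = c * (d * u * d⁻¹) * c⁻¹ by group, hue']; exact hc)
      show (unip hS).map (MulAut.conj d).toMonoidHom = (unip hS).map (MulAut.conj c⁻¹).toMonoidHom
      ext w
      rw [Subgroup.mem_map_equiv, Subgroup.mem_map_equiv, MulAut.conj_symm_apply, MulAut.conj_symm_apply,
        Subgroup.mem_normalizer_iff.1 (borel_le_normalizer hS hcd) (d⁻¹ * w * d)]
      rw [show c * d * (d⁻¹ * w * d) * (c * d)⁻¹ = c⁻¹⁻¹ * w * c⁻¹ by group]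
    · exact absurd hc (not_conj_unip_of_odd hS hg (orderOf_odd_of_cyclic hS hU hgU) c)
  · refine ⟨_, ⟨Or.inr ⟨hcyc, hcard⟩, Subgroup.mem_centralizer_singleton_iff.2 rfl⟩, ?_⟩
    rintro U ⟨⟨P, rfl⟩ | ⟨hUc, hU⟩, hgU⟩
    · exfalso
      obtain ⟨k, hk⟩ := IsPGroup.iff_orderOf.1 P.2 ⟨g, hgU⟩
      rw [← Subgroup.orderOf_coe] at hk
      have ho : Odd (orderOf g) :=
        (torusOrders_props hS hcard).2.1.of_dvd_nat
          (Subgroup.orderOf_dvd_natCard _ (Subgroup.mem_centralizer_singleton_iff.2 rfl))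
      refine hg (orderOf_eq_one_iff.1 ?_)
      rcases Nat.eq_zero_or_pos k with rfl | hk'
      · simpa using hk
      · rw [hk] at ho
        exact absurd (Nat.even_pow.2 ⟨even_two, hk'.ne'⟩) (Nat.not_even_iff_odd.2 ho)
    · have hle : U ≤ Subgroup.centralizer ({g} : Set ↥(Cfsg.Sz F m)) := fun w hw => by
        letI := IsCyclic.commGroup (α := U)
        exact Subgroup.mem_centralizer_singleton_iff.2 (congrArg Subtype.val (mul_comm (⟨w, hw⟩ : U) ⟨g, hgU⟩))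
      refine Subgroup.eq_of_le_of_card_ge hle (le_of_eq ?_)
      by_contra hne
      have h1 := Nat.eq_one_of_dvd_coprimes ((torusOrders_props hS hcard).2.2 _ hU hne)
        (Subgroup.card_dvd_of_le hle) dvd_rfl
      exact hg (by
        have := (Subgroup.eq_bot_iff_card U).2 h1
        rwa [this, Subgroup.mem_bot] at hgU)

end Cfsg.Agent.Suz
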