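import Cfsg.Agent.Lib.Lie.Sz.Solvable
import Cfsg.Agent.Lib.Lie.Sz.SylowLie

/-! Solubilisers in the Suzuki group. -/

set_option autoImplicit false

namespace Cfsg.Agent.Suz

open scoped Pointwise

section general

variable {G : Type*} [Group G]

/-- The elements generating a solvable subgroup with a given one. -/
def sol (x : G) : Set G := {y | Group.IsSolvable ↥(Subgroup.closure ({x, y} : Set G))}

theorem sol_inv (x : G) : sol x⁻¹ = sol x := by
  have : ∀ y : G, Subgroup.closure ({x⁻¹, y} : Set G) = Subgroup.closure ({x, y} : Set G) := by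
    intro y
    refine le_antisymm ((Subgroup.closure_le _).2 ?_) ((Subgroup.closure_le _).2 ?_)
    · rintro w (rfl | rfl)
      · exact inv_mem (Subgroup.subset_closure (by simp))
      · exact Subgroup.subset_closure (by simp)
    · rintro w (rfl | rfl)
      · rw [SetLike.mem_coe, ← inv_inv w]; exact inv_mem (Subgroup.subset_closure (by simp))
      · exact Subgroup.subset_closure (by simp)
  ext y
  show Group.IsSolvable _ ↔ Group.IsSolvable _
  rw [this y]

theorem ncard_sol_equiv {H : Type*} [Group H] (e : G ≃* H) (x : G) : (sol (e x)).ncard = (sol x).ncard := by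
  have : sol (e x) = e '' sol x := by
    ext y
    obtain ⟨y, rfl⟩ := e.surjective y
    rw [e.injective.mem_set_image]
    have hmap : (Subgroup.closure ({x, y} : Set G)).map e.toMonoidHom = Subgroup.closure ({e x, e y} : Set H) := by
      rw [MonoidHom.map_closure]
      congr 1
      simp [Set.image_pair]
    let φ := (Subgroup.closure ({x, y} : Set G)).equivMapOfInjective e.toMonoidHom e.injective
    show Group.IsSolvable _ ↔ Group.IsSolvable _
    rw [← hmap]
    exact ⟨fun h => Group.isSolvable_of_surjective (f := φ.symm.toMonoidHom) φ.symm.surjective,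
      fun h => Group.isSolvable_of_surjective (f := φ.toMonoidHom) φ.surjective⟩
  rw [this, Set.ncard_image_of_injective _ e.injective]

theorem ncard_sol_conj {x y : G} (h : IsConj x y) : (sol y).ncard = (sol x).ncard := by
  obtain ⟨c, rfl⟩ := isConj_iff.1 h
  exact ncard_sol_equiv (MulAut.conj c) x

theorem mem_sol_of_le {x y : G} (H : Subgroup G) [Group.IsSolvable H] (hx : x ∈ H) (hy : y ∈ H) : y ∈ sol x := by
  have hle : Subgroup.closure ({x, y} : Set G) ≤ H := (Subgroup.closure_le _).2 (by rintro w (rfl | rfl) <;> assumption)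
  exact Group.isSolvable_of_isSolvable_injective (f := Subgroup.inclusion hle) (Subgroup.inclusion_injective hle)

end general

variable {F : Type*} [Field F] {m : ℕ} [Fintype F] (hS : SzField F m)
include hS

local notation3 "Gp" => ↥(Cfsg.Sz F m)

theorem centralizer_uS_zero (b : F) (hb : b ≠ 0) :
    Subgroup.centralizer ({uS hS 0 b} : Set Gp) = unip hS := by
  refine le_antisymm (centralizer_unip_le hS (uS_mem hS 0 b) (uS_ne_one hS (by simp [hb]))) fun g hg => ?_
  obtain ⟨c, d, rfl⟩ := (mem_unip hS).1 hg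
  rw [Subgroup.mem_centralizer_singleton_iff, uS_mul, uS_mul]
  congr 1
  · ring
  · rw [th_zero]; ring

theorem card_centralizer_uS_one :
    Nat.card (Subgroup.centralizer ({uS hS 1 0} : Set Gp)) = 2 * 2 ^ (2 * m + 1) := by
  classical
  have hone : uS hS 1 0 ≠ 1 := uS_ne_one hS (by simp)
  let e : Bool × F → Subgroup.centralizer ({uS hS 1 0} : Set Gp) := fun p =>
    ⟨uS hS (cond p.1 1 0) p.2, by
      rw [Subgroup.mem_centralizer_singleton_iff, uS_mul, uS_mul]
      cases p.1
      · simp [th_zero]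
      · simp only [cond, th_one]
        congr 1
        ring⟩
  have he : Function.Bijective e := by
    refine ⟨fun p p' h => ?_, fun g => ?_⟩
    · obtain ⟨h1, h2⟩ := uS_injective hS (congrArg Subtype.val h)
      refine Prod.ext ?_ h2
      revert h1
      cases p.1 <;> cases p'.1 <;> simp
    · obtain ⟨c, d, hcd⟩ := (mem_unip hS).1 (centralizer_unip_le hS (uS_mem hS 1 0) hone g.2)
      have hg := Subgroup.mem_centralizer_singleton_iff.1 g.2
      rw [hcd, uS_mul, uS_mul] at hg
      obtain ⟨-, h2⟩ := uS_injective hS hg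
      rw [th_one, mul_one, one_mul, add_zero, zero_add] at h2
      rcases th_fixed hS (m := m) (show th m c = c by linear_combination h2) with rfl | rfl
      · exact ⟨(false, d), Subtype.ext hcd.symm⟩
      · exact ⟨(true, d), Subtype.ext hcd.symm⟩
  rw [← Nat.card_eq_of_bijective e he, Nat.card_prod, Nat.card_eq_fintype_card, Nat.card_eq_fintype_card,
    hS.card, Fintype.card_bool]

theorem exists_conj_of_order_two {g : Gp} (hg : orderOf g = 2) : IsConj (uS hS 0 1) g := by
  have h1 : g ≠ 1 := fun e => by rw [e, orderOf_one] at hg; omega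
  rcases cent_cases hS h1 with ⟨c, hc⟩ | ⟨-, hk, -⟩
  · obtain ⟨a, b, hab⟩ := (mem_unip hS).1 hc
    have hsq : uS hS a b ^ 2 = 1 := by rw [← hab, conj_pow, ← hg, pow_orderOf_eq_one, mul_one, mul_inv_cancel]
    rw [uS_sq] at hsq
    have ha : a = 0 := by
      by_contra ha
      exact uS_ne_one hS (by simp [mul_ne_zero (th_ne_zero (m := m) ha) ha]) hsq
    subst ha
    have hb : b ≠ 0 := fun e => h1 (conj_eq_one_iff.1 (by rw [hab, e, uS_zero]))
    obtain ⟨z, hz⟩ := exists_th_unit hS (m := m) b hb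
    refine IsConj.trans (isConj_iff.2 ⟨hTor hS z, ?_⟩) (isConj_iff.2 ⟨c, hab⟩).symm
    rw [hTor_conj, mul_zero, hz, mul_one]
  · have h2 := orderOf_odd_of_cyclic hS hk (Subgroup.mem_centralizer_singleton_iff.2 (rfl : g * g = g * g))
    rw [hg] at h2
    exact absurd h2 (by decide)

theorem exists_conj_of_order_four {g : Gp} (hg : orderOf g = 4) :
    IsConj (uS hS 1 0) g ∨ IsConj (uS hS 1 0)⁻¹ g := by
  classical
  have h1 : g ≠ 1 := fun e => by rw [e, orderOf_one] at hg; omega
  rcases cent_cases hS h1 with ⟨c, hc⟩ | ⟨-, hk, -⟩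
  · obtain ⟨a, b, hab⟩ := (mem_unip hS).1 hc
    have ha : a ≠ 0 := by
      rintro rfl
      have h2 : g ^ 2 = 1 := by
        refine (conj_eq_one_iff (a := c)).1 ?_
        rw [← conj_pow, hab, uS_sq, th_zero, zero_mul, uS_zero]
      have := orderOf_dvd_of_pow_eq_one h2
      rw [hg] at this
      omega
    obtain ⟨z, hz⟩ := exists_par hS (m := m) (Units.mk0 a⁻¹ (inv_ne_zero ha))
    rw [Units.val_mk0] at hz
    set b' := th m (z : F) * b with hb'
    have hu : IsConj g (uS hS 1 b') := by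
      refine IsConj.trans (isConj_iff.2 ⟨c, hab⟩) (isConj_iff.2 ⟨hTor hS z, ?_⟩)
      rw [hTor_conj, hz, inv_mul_cancel₀ ha]
    let L : F →+ F := AddMonoidHom.mk' (fun c => th m c + c) fun x y => by rw [th_add hS]; ring
    have hL1 : (1 : F) ∉ L.range := fun ⟨t, ht⟩ => th_add_self_ne_one hS t ht
    have hker : Nat.card L.ker ≤ 2 := by
      have hle : Nat.card L.ker ≤ Nat.card ({0, 1} : Set F) := Nat.card_mono (Set.toFinite _) fun x hx => by
        rcases th_fixed hS (m := m) (show th m x = x by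
          have h' : th m x + x = 0 := hx
          linear_combination h' - x * two hS) with e | e <;> simp [e]
      refine hle.trans ?_
      rw [Nat.card_coe_set_eq]
      exact (Set.ncard_insert_le _ _).trans (by rw [Set.ncard_singleton])
    have hidx : L.range.index ≤ 2 := by
      have h2 := L.range.card_mul_index
      rw [← AddSubgroup.index_ker] at h2
      have h3 := L.ker.card_mul_index
      have hi : 0 < L.ker.index := Nat.pos_of_ne_zero fun e => by
        rw [e, mul_zero] at h3; exact Nat.card_pos.ne' h3.symm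
      have hk2 : L.ker.index * L.range.index ≤ L.ker.index * 2 := by
        rw [h2, ← h3, mul_comm (Nat.card L.ker)]
        exact Nat.mul_le_mul_left _ hker
      exact Nat.le_of_mul_le_mul_left hk2 hi
    have hmem : b' ∈ L.range ∨ b' + 1 ∈ L.range := by
      have h2 : L.range.index = 2 := by
        have h1 : L.range.index ≠ 1 := fun e => hL1 (by rw [AddSubgroup.index_eq_one.1 e]; exact AddSubgroup.mem_top _)
        have h0 : L.range.index ≠ 0 := AddSubgroup.index_ne_zero_of_finite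
        omega
      by_cases hb : b' ∈ L.range
      · exact Or.inl hb
      · exact Or.inr ((AddSubgroup.add_mem_iff_of_index_two h2).2 ⟨fun e => absurd e hb, fun e => absurd e hL1⟩)
    rcases hmem with ⟨t, ht⟩ | ⟨t, ht⟩
    · left
      refine IsConj.trans (isConj_iff.2 ⟨uS hS t 0, ?_⟩) hu.symm
      rw [uS_inv, uS_mul, uS_mul]
      congr 1
      · linear_combination t * two hS
      · simp only [th_add hS, th_one]
        have ht' : th m t + t = b' := ht
        linear_combination ht' + (th m t * t) * two hS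
    · right
      rw [uS_inv, th_one, mul_one, zero_add]
      refine IsConj.trans (isConj_iff.2 ⟨uS hS t 0, ?_⟩) hu.symm
      rw [uS_inv, uS_mul, uS_mul]
      congr 1
      · linear_combination t * two hS
      · simp only [th_add hS, th_one]
        have ht' : th m t + t = b' + 1 := ht
        linear_combination ht' + (th m t * t + 1) * two hS
  · have h2 := orderOf_odd_of_cyclic hS hk (Subgroup.mem_centralizer_singleton_iff.2 (rfl : g * g = g * g))
    rw [hg] at h2
    exact absurd h2 (by decide)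

/-- Elements outside the point stabiliser in the normalisers of the conjugates of `T` normalised by `x`. -/
def outer (x : Gp) (T : Subgroup Gp) : Set Gp :=
  {z | ∃ g, g⁻¹ * x * g ∈ Subgroup.normalizer (T : Set Gp) ∧ g⁻¹ * z * g ∈ Subgroup.normalizer (T : Set Gp) ∧
    z ∉ borel m F}

theorem mem_normalizer_map {T : Subgroup Gp} {g k : Gp} :
    k ∈ Subgroup.normalizer ((T.map (MulAut.conj g).toMonoidHom : Subgroup Gp) : Set Gp) ↔
      g⁻¹ * k * g ∈ Subgroup.normalizer (T : Set Gp) := by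
  rw [← Subgroup.map_equiv_normalizer_eq T (MulAut.conj g), Subgroup.mem_map_equiv, MulAut.conj_symm_apply]

/-- Two tori whose normalisers share a unipotent element and an element outside its point stabiliser agree. -/
theorem IsTor.unique {T T' : Subgroup Gp} (hT : IsTor m T) (hT' : IsTor m T') {x z : Gp}
    (hx : x ∈ unip hS) (hx1 : x ≠ 1) (hzb : z ∉ borel m F)
    (h1 : x ∈ Subgroup.normalizer (T : Set Gp)) (h2 : z ∈ Subgroup.normalizer (T : Set Gp))
    (h3 : x ∈ Subgroup.normalizer (T' : Set Gp)) (h4 : z ∈ Subgroup.normalizer (T' : Set Gp)) : T = T' := by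
  by_contra hne
  set K := Subgroup.normalizer (T : Set Gp) ⊓ Subgroup.normalizer (T' : Set Gp) with hK
  have h4' : ∀ k ∈ K, k ^ 4 = 1 := by
    intro k hk
    have hp : ∀ {S : Subgroup Gp}, IsTor m S → k ∈ Subgroup.normalizer (S : Set Gp) → k ∉ S → k ^ 4 = 1 := by
      intro S hS' hkS hn
      have := hS'.pow_eq_one hS hkS hn
      rw [show k ^ 4 = (k ^ torIdx m (Nat.card S)) ^ (4 / torIdx m (Nat.card S)) by
        rw [← pow_mul]; unfold torIdx; split_ifs <;> norm_num, this, one_pow]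
    by_cases hkT : k ∈ T
    · by_cases hkT' : k ∈ T'
      · by_cases hk1 : k = 1
        · rw [hk1, one_pow]
        · exact absurd ((hT.cent k hkT hk1).symm.trans (hT'.cent k hkT' hk1)) hne
      · exact hp hT' hk.2 hkT'
    · exact hp hT hk.1 hkT
  haveI : Fact (Nat.Prime 2) := ⟨Nat.prime_two⟩
  have hpg : IsPGroup 2 K := fun k => ⟨2, Subtype.ext (h4' k k.2)⟩
  obtain ⟨P, hP⟩ := hpg.exists_le_sylow
  obtain ⟨c, hc⟩ := exists_conj_unip hS P
  rw [hc] at hP
  obtain ⟨u, hu, hue⟩ := hP (⟨h1, h3⟩ : x ∈ K)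
  have hue' : c * u * c⁻¹ = x := hue
  have hcb : c ∈ borel m F := mem_borel_of_conj_mem hS hu (fun e => hx1 (by rw [← hue', e]; group)) (by rw [hue']; exact hx)
  obtain ⟨w, hw, hwe⟩ := hP (⟨h2, h4⟩ : z ∈ K)
  have hwe' : c * w * c⁻¹ = z := hwe
  exact hzb (hwe' ▸ mul_mem (mul_mem hcb (unip_le_borel hS hw)) (inv_mem hcb))

theorem card_normalizer_inf_borel {T : Subgroup Gp} (hT : IsTor m T) {x : Gp} (hx : x ∈ unip hS)
    (hx1 : x ≠ 1) (hxN : x ∈ Subgroup.normalizer (T : Set Gp)) :
    Nat.card (Subgroup.normalizer (T : Set Gp) ⊓ borel m F : Subgroup Gp) = torIdx m (Nat.card T) := by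
  classical
  haveI : Fact (Nat.Prime 2) := ⟨Nat.prime_two⟩
  set N := Subgroup.normalizer (T : Set Gp) with hN
  haveI : (T.subgroupOf N).Normal := Subgroup.normal_in_normalizer
  set e := torIdx m (Nat.card T) with he
  have hidx : Nat.card (N ⧸ T.subgroupOf N) = e := by
    have h1 := Subgroup.card_eq_card_quotient_mul_card_subgroup (T.subgroupOf N)
    rw [Nat.card_congr (Subgroup.subgroupOfEquivOfLe (Subgroup.le_normalizer : T ≤ N)).toEquiv, hT.card_normalizer hS] at h1
    exact Nat.eq_of_mul_eq_mul_right Nat.card_pos h1.symm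
  refine le_antisymm ?_ ?_
  · rw [← hidx]
    refine Nat.card_le_card_of_injective
      ((QuotientGroup.mk' (T.subgroupOf N)).comp (Subgroup.inclusion (inf_le_left : N ⊓ borel m F ≤ N))) ?_
    rw [← MonoidHom.ker_eq_bot_iff, eq_bot_iff]
    rintro ⟨k, hk⟩ hk'
    rw [MonoidHom.mem_ker, MonoidHom.comp_apply, QuotientGroup.mk'_apply, QuotientGroup.eq_one_iff,
      Subgroup.mem_subgroupOf] at hk'
    exact Subgroup.mem_bot.2 (Subtype.ext (hT.inter_borel hS hx hx1 hxN hk' hk.2))
  · obtain ⟨w, hw, hwo⟩ : ∃ w ∈ N ⊓ borel m F, orderOf w = e := by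
      have hxT : x ∉ T := fun h => hx1 (hT.inter_borel hS hx hx1 hxN h (unip_le_borel hS hx))
      have hxe : orderOf x ∣ e := orderOf_dvd_of_pow_eq_one (hT.pow_eq_one hS hxN hxT)
      by_cases hce : Nat.card T = 2 ^ (2 * m + 1) - 1
      · refine ⟨x, ⟨hxN, unip_le_borel hS hx⟩, ?_⟩
        rw [show e = 2 by rw [he, torIdx, if_pos hce]] at hxe ⊢
        exact ((Nat.dvd_prime Nat.prime_two).1 hxe).resolve_left (fun h => hx1 (orderOf_eq_one_iff.1 h))
      · have he4 : e = 4 := by rw [he, torIdx, if_neg hce]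
        rw [he4] at hxe ⊢
        have h3 : orderOf x = 2 ∨ orderOf x = 4 := by
          obtain ⟨i, hi, hio⟩ := (Nat.dvd_prime_pow Nat.prime_two (m := 2)).1 (by simpa using hxe)
          interval_cases i
          · exact absurd (orderOf_eq_one_iff.1 hio) hx1
          · exact Or.inl hio
          · exact Or.inr hio
        rcases h3 with h | h
        · obtain ⟨hcount, hconj⟩ := hT.card_involutions hS
          obtain ⟨n, hn, hnT, hn2⟩ : ∃ n ∈ N, n ∉ T ∧ n ^ 2 ≠ 1 := by
            by_contra hcon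
            push Not at hcon
            have hsub : (N : Set Gp) ⊆ (T : Set Gp) ∪ {t | t ∈ N ∧ orderOf t = 2} := fun n hn => by
              by_cases hnT : n ∈ T
              · exact Or.inl hnT
              · exact Or.inr ⟨hn, orderOf_eq_prime (hcon n hn hnT) fun e => hnT (e ▸ one_mem T)⟩
            have h1 := (Set.ncard_le_ncard hsub).trans (Set.ncard_union_le _ _)
            rw [hcount, ← Nat.card_coe_set_eq, ← Nat.card_coe_set_eq] at h1
            change Nat.card N ≤ Nat.card T + Nat.card T at h1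
            rw [hT.card_normalizer hS, ← he, he4] at h1
            have : 0 < Nat.card T := Nat.card_pos
            omega
          have hn4 : n ^ 4 = 1 := by
            have h' := hT.pow_eq_one hS hn hnT
            rw [← he, he4] at h'
            exact h'
          have ho : orderOf (n ^ 2) = 2 := orderOf_eq_prime (by rw [← pow_mul]; exact hn4) hn2
          obtain ⟨t, ht, hte⟩ := hconj (n ^ 2) x (pow_mem hn 2) ho hxN h
          refine ⟨t * n * t⁻¹, ⟨(show t * n * t⁻¹ ∈ N from mul_mem (mul_mem (Subgroup.le_normalizer ht) hn) (inv_mem (Subgroup.le_normalizer ht))), ?_⟩, ?_⟩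
          · refine unip_le_borel hS (centralizer_unip_le hS hx hx1 (Subgroup.mem_centralizer_singleton_iff.2 ?_))
            rw [← hte, ← conj_pow, ← pow_succ, ← pow_succ']
          · rw [orderOf_conj' hS]
            exact orderOf_eq_prime_pow (p := 2) (n := 1) (by rw [pow_one]; exact hn2) hn4
        · exact ⟨x, ⟨hxN, unip_le_borel hS hx⟩, h⟩
    rw [← hwo, ← Nat.card_zpowers]
    exact Subgroup.card_le_of_le (Subgroup.zpowers_le.2 hw)

/-- The conjugates of `x` in the normaliser of `T`. -/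
def conjIn (x : Gp) (T : Subgroup Gp) : Set Gp := {y | y ∈ Subgroup.normalizer (T : Set Gp) ∧ IsConj x y}

theorem card_outer {T : Subgroup Gp} (hT : IsTor m T) {x : Gp} (hx : x ∈ unip hS) (hx1 : x ≠ 1) :
    (outer x T).ncard * Nat.card (Subgroup.normalizer (T : Set Gp)) =
      (conjIn x T).ncard * Nat.card (Subgroup.centralizer ({x} : Set Gp)) *
        (Nat.card (Subgroup.normalizer (T : Set Gp)) - torIdx m (Nat.card T)) := by
  classical
  set N := Subgroup.normalizer (T : Set Gp) with hN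
  let A := {g : Gp // g⁻¹ * x * g ∈ N}
  let P := Σ g : A, {k : N // (g : Gp) * (k : Gp) * (g : Gp)⁻¹ ∉ borel m F}
  have hA : Nat.card A = (conjIn x T).ncard * Nat.card (Subgroup.centralizer ({x} : Set Gp)) := by
    let f : A → conjIn x T := fun g => ⟨(g : Gp)⁻¹ * x * (g : Gp), g.2, isConj_iff.2 ⟨(g : Gp)⁻¹, by group⟩⟩
    haveI : Fintype (conjIn x T) := Fintype.ofFinite _
    have hfib : ∀ y, Nat.card {g // f g = y} = Nat.card (Subgroup.centralizer ({x} : Set Gp)) := by
      rintro ⟨y, hy, hxy⟩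
      obtain ⟨c, hc⟩ := isConj_iff.1 hxy
      have hcom : ∀ s : Subgroup.centralizer ({x} : Set Gp), ((s : Gp) * c⁻¹)⁻¹ * x * ((s : Gp) * c⁻¹) = y := fun s => by
        rw [← hc, show ((s : Gp) * c⁻¹)⁻¹ * x * ((s : Gp) * c⁻¹) = c * ((s : Gp)⁻¹ * (x * s)) * c⁻¹ by group,
          ← Subgroup.mem_centralizer_singleton_iff.1 s.2, inv_mul_cancel_left]
      refine (Nat.card_eq_of_bijective (fun s : Subgroup.centralizer ({x} : Set Gp) => (⟨⟨(s : Gp) * c⁻¹, by rw [hcom s]; exact hy⟩, Subtype.ext (hcom s)⟩ :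
        {g // f g = ⟨y, hy, hxy⟩})) ⟨fun s s' h => Subtype.ext (mul_right_cancel (congrArg (fun p => p.1.1) h)), ?_⟩).symm
      rintro ⟨⟨g, hg⟩, hgy⟩
      have hgy' : g⁻¹ * x * g = y := congrArg Subtype.val hgy
      refine ⟨⟨g * c, Subgroup.mem_centralizer_singleton_iff.2 ?_⟩, Subtype.ext (Subtype.ext (mul_inv_cancel_right _ _))⟩
      calc g * c * x = g * (c * x * c⁻¹) * c := by group
        _ = g * (g⁻¹ * x * g) * c := by rw [hc, hgy']
        _ = x * (g * c) := by group
    rw [Nat.card_congr (Equiv.sigmaFiberEquiv f).symm, Nat.card_sigma, Finset.sum_congr rfl (fun y _ => hfib y),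
      Finset.sum_const, Finset.card_univ, smul_eq_mul, ← Nat.card_eq_fintype_card, Nat.card_coe_set_eq]
  have hk : ∀ g : A, Nat.card {k : N // (g : Gp) * (k : Gp) * (g : Gp)⁻¹ ∉ borel m F} =
      Nat.card N - torIdx m (Nat.card T) := by
    rintro ⟨g, hg⟩
    have hs : Nat.card {k : N // g * (k : Gp) * g⁻¹ ∈ borel m F} = torIdx m (Nat.card T) := by
      have h1 := card_normalizer_inf_borel hS (hT.map hS g) hx hx1 ((mem_normalizer_map hS).2 hg)
      rw [Subgroup.card_map_of_injective (MulAut.conj g).injective] at h1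
      rw [← h1]
      refine Nat.card_congr
        { toFun := fun k => ⟨g * (k.1 : Gp) * g⁻¹, (mem_normalizer_map hS).2 (by
            rw [show g⁻¹ * (g * (k.1 : Gp) * g⁻¹) * g = k.1 by group]; exact k.1.2), k.2⟩
          invFun := fun k => ⟨⟨g⁻¹ * (k : Gp) * g, (mem_normalizer_map hS).1 k.2.1⟩, by
            rw [show g * (g⁻¹ * (k : Gp) * g) * g⁻¹ = k by group]; exact k.2.2⟩
          left_inv := fun k => Subtype.ext (Subtype.ext (by simp [mul_assoc]))
          right_inv := fun k => Subtype.ext (by simp [mul_assoc]) }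
    rw [← hs, Nat.card_eq_fintype_card, Nat.card_eq_fintype_card, Nat.card_eq_fintype_card,
      Fintype.card_subtype_compl]
  haveI : Fintype A := Fintype.ofFinite _
  have hP : Nat.card P = Nat.card A * (Nat.card N - torIdx m (Nat.card T)) := by
    rw [Nat.card_sigma, Finset.sum_congr rfl (fun g _ => hk g), Finset.sum_const, Finset.card_univ, smul_eq_mul,
      ← Nat.card_eq_fintype_card]
  let f : P → outer x T := fun p => ⟨(p.1 : Gp) * (p.2.1 : Gp) * (p.1 : Gp)⁻¹, p.1, p.1.2, by
    rw [show (p.1 : Gp)⁻¹ * ((p.1 : Gp) * (p.2.1 : Gp) * (p.1 : Gp)⁻¹) * (p.1 : Gp) = p.2.1 by group]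
    exact p.2.1.2, p.2.2⟩
  haveI : Fintype (outer x T) := Fintype.ofFinite _
  have hfib : ∀ z, Nat.card {p // f p = z} = Nat.card N := by
    rintro ⟨z, g, hg, hgz, hzb⟩
    have hA1 : ∀ n : N, (g * (n : Gp))⁻¹ * x * (g * (n : Gp)) ∈ N := fun n => by
      rw [show (g * (n : Gp))⁻¹ * x * (g * (n : Gp)) = (n : Gp)⁻¹ * (g⁻¹ * x * g) * (n : Gp) by group]
      exact mul_mem (mul_mem (inv_mem n.2) hg) n.2
    have hK1 : ∀ n : N, (n : Gp)⁻¹ * (g⁻¹ * z * g) * (n : Gp) ∈ N := fun n => mul_mem (mul_mem (inv_mem n.2) hgz) n.2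
    have hval : ∀ n : N, g * (n : Gp) * ((n : Gp)⁻¹ * (g⁻¹ * z * g) * (n : Gp)) * (g * (n : Gp))⁻¹ = z := fun n => by
      group
    let e : N → {p : P // f p = ⟨z, g, hg, hgz, hzb⟩} := fun n =>
      ⟨⟨⟨g * n, hA1 n⟩, ⟨⟨_, hK1 n⟩, by rw [hval n]; exact hzb⟩⟩, Subtype.ext (hval n)⟩
    refine (Nat.card_eq_of_bijective e ⟨fun n n' h => Subtype.ext (mul_left_cancel (congrArg (fun p => (p.1.1 : Gp)) h)), ?_⟩).symm
    rintro ⟨⟨⟨g', hg'⟩, ⟨⟨k', hk'⟩, hkb'⟩⟩, hp⟩
    have hp' : g' * k' * g'⁻¹ = z := congrArg Subtype.val hp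
    have hTT : T.map (MulAut.conj g).toMonoidHom = T.map (MulAut.conj g').toMonoidHom :=
      IsTor.unique hS (hT.map hS g) (hT.map hS g') hx hx1 hzb ((mem_normalizer_map hS).2 hg)
        ((mem_normalizer_map hS).2 hgz) ((mem_normalizer_map hS).2 hg') ((mem_normalizer_map hS).2 (by
          rw [← hp', show g'⁻¹ * (g' * k' * g'⁻¹) * g' = k' by group]; exact hk'))
    have hn : g⁻¹ * g' ∈ N := by
      refine mem_normalizer_of_map_conj ?_
      ext w
      have h := SetLike.ext_iff.1 hTT (g * w * g⁻¹)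
      rw [Subgroup.mem_map_equiv, Subgroup.mem_map_equiv, MulAut.conj_symm_apply, MulAut.conj_symm_apply,
        show g⁻¹ * (g * w * g⁻¹) * g = w by group] at h
      rw [Subgroup.mem_map_equiv, MulAut.conj_symm_apply,
        show (g⁻¹ * g')⁻¹ * w * (g⁻¹ * g') = g'⁻¹ * (g * w * g⁻¹) * g' by group]
      exact h.symm
    refine ⟨⟨g⁻¹ * g', hn⟩, Subtype.ext (Sigma.subtype_ext (Subtype.ext (mul_inv_cancel_left _ _)) (Subtype.ext ?_))⟩
    show (g⁻¹ * g')⁻¹ * (g⁻¹ * z * g) * (g⁻¹ * g') = k'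
    rw [← hp']; group
  rw [← hA, ← hP, Nat.card_congr (Equiv.sigmaFiberEquiv f).symm, Nat.card_sigma,
    Finset.sum_congr rfl (fun z _ => hfib z), Finset.sum_const, Finset.card_univ, smul_eq_mul,
    ← Nat.card_eq_fintype_card, Nat.card_coe_set_eq]

theorem conjIn_two {T : Subgroup Gp} (hT : IsTor m T) : (conjIn (uS hS 0 1) T).ncard = Nat.card T := by
  haveI : Fact (Nat.Prime 2) := ⟨Nat.prime_two⟩
  rw [← (hT.card_involutions hS).1]
  congr 1
  ext y
  refine and_congr_right fun _ => ⟨fun h => ?_, exists_conj_of_order_two hS⟩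
  obtain ⟨c, rfl⟩ := isConj_iff.1 h
  rw [orderOf_conj' hS]
  exact orderOf_eq_prime (by rw [uS_sq, th_zero, zero_mul, uS_zero]) (uS_ne_one hS (by simp))

theorem orderOf_uS_one : orderOf (uS hS (1 : F) 0) = 4 := by
  haveI : Fact (Nat.Prime 2) := ⟨Nat.prime_two⟩
  refine orderOf_eq_prime_pow (p := 2) (n := 1) ?_ (pow_four_unip hS (uS_mem hS 1 0))
  rw [pow_one, uS_sq]
  exact uS_ne_one hS (by simp [th_one])

theorem conjIn_four {T : Subgroup Gp} (hT : IsTor m T) :
    (conjIn (uS hS 1 0) T).ncard * 2 = (torIdx m (Nat.card T) - 2) * Nat.card T := by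
  classical
  haveI : Fact (Nat.Prime 2) := ⟨Nat.prime_two⟩
  set N := Subgroup.normalizer (T : Set Gp) with hN
  set x := uS hS (1 : F) 0 with hx
  set Y := conjIn x T
  set Y' := conjIn x⁻¹ T
  have hinv : Y'.ncard = Y.ncard := by
    have : Y' = (fun y => y⁻¹) '' Y := by
      ext y
      constructor
      · rintro ⟨h1, h2⟩
        obtain ⟨c, hc⟩ := isConj_iff.1 h2
        exact ⟨y⁻¹, ⟨inv_mem h1, isConj_iff.2 ⟨c, by rw [← hc]; group⟩⟩, inv_inv y⟩
      · rintro ⟨y, ⟨h1, h2⟩, rfl⟩
        obtain ⟨c, hc⟩ := isConj_iff.1 h2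
        exact ⟨inv_mem h1, isConj_iff.2 ⟨c, by rw [← hc]; group⟩⟩
    rw [this, Set.ncard_image_of_injective _ inv_injective]
  have hord : ∀ y, IsConj x y ∨ IsConj x⁻¹ y → orderOf y = 4 := by
    rintro y (h | h) <;> obtain ⟨c, rfl⟩ := isConj_iff.1 h <;> rw [orderOf_conj' hS]
    · exact orderOf_uS_one hS
    · rw [orderOf_inv]; exact orderOf_uS_one hS
  have hdis : Disjoint Y Y' := by
    rw [Set.disjoint_left]
    rintro y ⟨-, h1⟩ ⟨-, h2⟩
    exact not_real hS (one_ne_zero (α := F)) (h1.trans h2.symm)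
  have hun : (N : Set Gp) = (T : Set Gp) ∪ {t | t ∈ N ∧ orderOf t = 2} ∪ (Y ∪ Y') := by
    ext n
    constructor
    · intro hn
      by_cases hnT : n ∈ T
      · exact Or.inl (Or.inl hnT)
      have h := orderOf_dvd_of_pow_eq_one (hT.pow_eq_one hS hn hnT)
      have h4 : orderOf n ∣ 4 := h.trans (by unfold torIdx; split_ifs <;> norm_num)
      have h1 : orderOf n ≠ 1 := fun e => hnT (orderOf_eq_one_iff.1 e ▸ one_mem T)
      have hle := Nat.le_of_dvd (by norm_num) h4
      interval_cases hk : orderOf n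
      · omega
      · omega
      · exact Or.inl (Or.inr ⟨hn, hk⟩)
      · omega
      · rcases exists_conj_of_order_four hS hk with h' | h'
        · exact Or.inr (Or.inl ⟨hn, h'⟩)
        · exact Or.inr (Or.inr ⟨hn, h'⟩)
    · rintro ((h | ⟨h, -⟩) | (⟨h, -⟩ | ⟨h, -⟩))
      · exact Subgroup.le_normalizer h
      all_goals exact h
  have h := congrArg Set.ncard hun
  rw [Set.ncard_union_eq (Set.disjoint_left.2 ?_), Set.ncard_union_eq (Set.disjoint_left.2 ?_),
    Set.ncard_union_eq hdis, (hT.card_involutions hS).1, hinv, ← Nat.card_coe_set_eq, ← Nat.card_coe_set_eq] at h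
  · change Nat.card N = Nat.card T + Nat.card T + _ at h
    rw [hT.card_normalizer hS] at h
    rw [Nat.sub_mul]; omega
  · rintro t ht ⟨-, ho⟩
    exact hT.not_mem_of_sq hS (Or.inl ho) ht
  · intro t ht hy
    have h4 := hord t (hy.imp And.right And.right)
    rcases ht with ht | ⟨-, ht⟩
    · exact hT.not_mem_of_sq hS (Or.inr h4) ht
    · omega

theorem sol_unip {x x₁ y₁ : Gp} (hx : x ∈ unip hS) (hx1 : x ≠ 1) (hx₁ : FPF m x₁) (hy₁ : FPF m y₁)
    (hall : ∀ z : Gp, FPF m z → z ∈ conjSet (Subgroup.centralizer ({x₁} : Set Gp)) ∨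
      z ∈ conjSet (Subgroup.centralizer ({y₁} : Set Gp))) :
    sol x = (borel m F : Set Gp) ∪ (outer x (torus hS) ∪ (outer x (Subgroup.centralizer {x₁}) ∪
      outer x (Subgroup.centralizer {y₁}))) := by
  ext y
  constructor
  · intro hy
    by_cases hyb : y ∈ borel m F
    · exact Or.inl hyb
    right
    rcases solvable_cases hS _ hy with ⟨o, ho⟩ | ⟨T, hT, hle⟩
    · obtain rfl := eq_none_of_fix hS hx hx1 (ho x (Subgroup.subset_closure (by simp)))
      exact absurd (ho y (Subgroup.subset_closure (by simp))) hyb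
    · have hxT : x ∈ Subgroup.normalizer (T : Set Gp) := hle (Subgroup.subset_closure (by simp))
      have hyT : y ∈ Subgroup.normalizer (T : Set Gp) := hle (Subgroup.subset_closure (by simp))
      obtain ⟨g, rfl | rfl | rfl⟩ := hT.classify hS hx₁ hy₁ hall <;>
        rw [mem_normalizer_map hS] at hxT hyT
      · exact Or.inl ⟨g, hxT, hyT, hyb⟩
      · exact Or.inr (Or.inl ⟨g, hxT, hyT, hyb⟩)
      · exact Or.inr (Or.inr ⟨g, hxT, hyT, hyb⟩)
  · have key : ∀ T, IsTor m T → y ∈ outer x T → y ∈ sol x := by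
      rintro T hT ⟨g, h1, h2, -⟩
      haveI := (hT.map hS g).isSolvable_normalizer hS
      exact mem_sol_of_le _ ((mem_normalizer_map hS).2 h1) ((mem_normalizer_map hS).2 h2)
    rintro (h | h | h | h)
    · haveI := isSolvable_borel hS
      exact mem_sol_of_le (borel m F) (unip_le_borel hS hx) h
    · exact key _ (isTor_torus hS) h
    · exact key _ (isTor_of_FPF hS hx₁) h
    · exact key _ (isTor_of_FPF hS hy₁) h

theorem outer_disjoint {x : Gp} (hx : x ∈ unip hS) (hx1 : x ≠ 1) {T T' : Subgroup Gp} (hT : IsTor m T)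
    (hT' : IsTor m T') (hne : Nat.card T ≠ Nat.card T') : Disjoint (outer x T) (outer x T') := by
  rw [Set.disjoint_left]
  rintro z ⟨g, h1, h2, hzb⟩ ⟨g', h3, h4, -⟩
  have h := IsTor.unique hS (hT.map hS g) (hT'.map hS g') hx hx1 hzb ((mem_normalizer_map hS).2 h1)
    ((mem_normalizer_map hS).2 h2) ((mem_normalizer_map hS).2 h3) ((mem_normalizer_map hS).2 h4)
  refine hne ?_
  have := congrArg (fun S : Subgroup Gp => Nat.card S) h
  have e1 : Nat.card (T.map (MulAut.conj g).toMonoidHom : Subgroup Gp) = Nat.card T :=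
    Subgroup.card_map_of_injective (MulAut.conj g).injective
  have e2 : Nat.card (T'.map (MulAut.conj g').toMonoidHom : Subgroup Gp) = Nat.card T' :=
    Subgroup.card_map_of_injective (MulAut.conj g').injective
  exact e1.symm.trans (this.trans e2)

theorem borel_outer_disjoint (x : Gp) (T : Subgroup Gp) : Disjoint (borel m F : Set Gp) (outer x T) := by
  rw [Set.disjoint_left]
  rintro z hz ⟨g, -, -, h⟩
  exact h hz

theorem sol_unip_card {x : Gp} (hx : x ∈ unip hS) (hx1 : x ≠ 1) :
    ∃ A B C : ℕ, (sol x).ncard = (2 ^ (2 * m + 1)) ^ 2 * (2 ^ (2 * m + 1) - 1) + (A + (B + C)) ∧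
      (∀ v w : Subgroup Gp → ℕ, (∀ T : Subgroup Gp, IsTor m T → (conjIn x T).ncard * v T = w T) →
        ∃ T₁ T₂ T₃ : Subgroup Gp, (IsTor m T₁ ∧ Nat.card T₁ = 2 ^ (2 * m + 1) - 1 ∧ torIdx m (Nat.card T₁) = 2) ∧
          (IsTor m T₂ ∧ Nat.card T₂ = 2 ^ (2 * m + 1) + 2 ^ (m + 1) + 1 ∧ torIdx m (Nat.card T₂) = 4) ∧
          (IsTor m T₃ ∧ Nat.card T₃ = 2 ^ (2 * m + 1) - 2 ^ (m + 1) + 1 ∧ torIdx m (Nat.card T₃) = 4) ∧
          A * (2 * Nat.card T₁) * v T₁ = w T₁ * Nat.card (Subgroup.centralizer ({x} : Set Gp)) * (2 * Nat.card T₁ - 2) ∧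
          B * (4 * Nat.card T₂) * v T₂ = w T₂ * Nat.card (Subgroup.centralizer ({x} : Set Gp)) * (4 * Nat.card T₂ - 4) ∧
          C * (4 * Nat.card T₃) * v T₃ = w T₃ * Nat.card (Subgroup.centralizer ({x} : Set Gp)) * (4 * Nat.card T₃ - 4)) := by
  obtain ⟨x₁, y₁, ⟨hx₁, hxc, hxn⟩, ⟨hy₁, hyc, hyn⟩, hall⟩ := exists_tori hS
  set T₁ := torus hS with hT₁def
  set T₂ := Subgroup.centralizer ({x₁} : Set Gp) with hT₂def
  set T₃ := Subgroup.centralizer ({y₁} : Set Gp) with hT₃def
  have hT₁ : IsTor m T₁ := isTor_torus hS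
  have hT₂ : IsTor m T₂ := isTor_of_FPF hS hx₁
  have hT₃ : IsTor m T₃ := isTor_of_FPF hS hy₁
  have i1 : torIdx m (Nat.card T₁) = 2 := by rw [hT₁def, card_torus hS, torIdx, if_pos rfl]
  have i2 : torIdx m (Nat.card T₂) = 4 := Nat.eq_of_mul_eq_mul_right Nat.card_pos ((hT₂.card_normalizer hS).symm.trans hxn)
  have i3 : torIdx m (Nat.card T₃) = 4 := Nat.eq_of_mul_eq_mul_right Nat.card_pos ((hT₃.card_normalizer hS).symm.trans hyn)
  have hd : ∀ {T T' : Subgroup Gp}, IsTor m T → IsTor m T' → Nat.card T ≠ Nat.card T' →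
      Disjoint (outer x T) (outer x T') := fun h h' => outer_disjoint hS hx hx1 h h'
  have n12 : Nat.card T₁ ≠ Nat.card T₂ := fun e => by rw [← e] at i2; omega
  have n13 : Nat.card T₁ ≠ Nat.card T₃ := fun e => by rw [← e] at i3; omega
  have n23 : Nat.card T₂ ≠ Nat.card T₃ := by
    rw [hxc, hyc]
    have : 0 < 2 ^ (m + 1) := Nat.two_pow_pos _
    generalize 2 ^ (m + 1) = r at *
    generalize 2 ^ (2 * m + 1) = q at *
    omega
  refine ⟨(outer x T₁).ncard, (outer x T₂).ncard, (outer x T₃).ncard, ?_, fun v w hvw => ⟨T₁, T₂, T₃, ⟨hT₁, card_torus hS, i1⟩, ⟨hT₂, hxc, i2⟩, ⟨hT₃, hyc, i3⟩, ?_, ?_, ?_⟩⟩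
  · rw [sol_unip hS hx hx1 hx₁ hy₁ hall, Set.ncard_union_eq (Set.disjoint_union_right.2 ⟨borel_outer_disjoint hS x _,
      Set.disjoint_union_right.2 ⟨borel_outer_disjoint hS x _, borel_outer_disjoint hS x _⟩⟩),
      Set.ncard_union_eq (Set.disjoint_union_right.2 ⟨hd hT₁ hT₂ n12, hd hT₁ hT₃ n13⟩),
      Set.ncard_union_eq (hd hT₂ hT₃ n23), ← Nat.card_coe_set_eq (borel m F : Set Gp)]
    congr 1
    exact card_borel hS
  · have h := card_outer hS hT₁ hx hx1
    rw [hT₁.card_normalizer hS, i1] at h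
    rw [h, ← hvw T₁ hT₁]; ring
  · have h := card_outer hS hT₂ hx hx1
    rw [hT₂.card_normalizer hS, i2] at h
    rw [h, ← hvw T₂ hT₂]; ring
  · have h := card_outer hS hT₃ hx hx1
    rw [hT₃.card_normalizer hS, i3] at h
    rw [h, ← hvw T₃ hT₃]; ring

theorem sol_order_two {x : Gp} (hx : orderOf x = 2) :
    (sol x).ncard = (2 ^ (2 * m + 1)) ^ 2 * (4 * 2 ^ (2 * m + 1) - 3) := by
  rw [ncard_sol_conj (exists_conj_of_order_two hS hx)]
  obtain ⟨A, B, C, hs, h⟩ := sol_unip_card hS (uS_mem hS 0 1) (uS_ne_one hS (by simp))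
  obtain ⟨T₁, T₂, T₃, ⟨hT₁, c1, -⟩, ⟨hT₂, c2, -⟩, ⟨hT₃, c3, -⟩, e1, e2, e3⟩ :=
    h (fun _ => 1) (fun T => Nat.card T) fun T hT => by rw [mul_one, conjIn_two hS hT]
  rw [centralizer_uS_zero hS 1 one_ne_zero, card_unip hS] at e1 e2 e3
  have hle : 2 ^ (m + 1) ≤ 2 ^ (2 * m + 1) := Nat.pow_le_pow_right (by omega) (by omega)
  have hq : 8 ≤ 2 ^ (2 * m + 1) := hS.card ▸ eight_le hS
  rw [hs]
  rw [c1] at e1; rw [c2] at e2; rw [c3] at e3
  generalize 2 ^ (m + 1) = r at *
  generalize 2 ^ (2 * m + 1) = q at *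
  obtain ⟨p, rfl⟩ : ∃ p, q = p + 2 := ⟨q - 2, by omega⟩
  obtain ⟨s, hs'⟩ : ∃ s, p + 2 = r + s := ⟨p + 2 - r, by omega⟩
  have f1 : A = (p + 2) ^ 2 * p := Nat.eq_of_mul_eq_mul_right (show 0 < 2 * (p + 1) by omega) (by
    rw [mul_one, show p + 2 - 1 = p + 1 by omega, show 2 * (p + 1) - 2 = 2 * p by omega] at e1
    rw [e1]; ring)
  have f2 : B = (p + 2) ^ 2 * (p + 2 + r) := Nat.eq_of_mul_eq_mul_right (show 0 < 4 * (p + 2 + r + 1) by omega) (by
    rw [mul_one, show 4 * (p + 2 + r + 1) - 4 = 4 * (p + 2 + r) by omega] at e2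
    rw [e2]; ring)
  have f3 : C = (p + 2) ^ 2 * s := Nat.eq_of_mul_eq_mul_right (show 0 < 4 * (s + 1) by omega) (by
    rw [mul_one, show p + 2 - r + 1 = s + 1 by omega, show 4 * (s + 1) - 4 = 4 * s by omega] at e3
    rw [e3]; ring)
  subst f1 f2 f3
  rw [← mul_add, ← mul_add, ← mul_add]
  congr 1
  omega

theorem sol_order_four {x : Gp} (hx : orderOf x = 4) :
    (sol x).ncard = (2 ^ (2 * m + 1)) ^ 2 * (2 ^ (2 * m + 1) + 3) := by
  have key : (sol (uS hS (1 : F) 0)).ncard = (2 ^ (2 * m + 1)) ^ 2 * (2 ^ (2 * m + 1) + 3) := by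
    obtain ⟨A, B, C, hs, h⟩ := sol_unip_card hS (uS_mem hS 1 0) (uS_ne_one hS (by simp))
    obtain ⟨T₁, T₂, T₃, ⟨hT₁, c1, i1⟩, ⟨hT₂, c2, i2⟩, ⟨hT₃, c3, i3⟩, e1, e2, e3⟩ :=
      h (fun _ => 2) (fun T => (torIdx m (Nat.card T) - 2) * Nat.card T) fun T hT => conjIn_four hS hT
    rw [card_centralizer_uS_one hS] at e1 e2 e3
    rw [i1] at e1; rw [i2] at e2; rw [i3] at e3
    have hle : 2 ^ (m + 1) ≤ 2 ^ (2 * m + 1) := Nat.pow_le_pow_right (by omega) (by omega)
    have hq : 8 ≤ 2 ^ (2 * m + 1) := hS.card ▸ eight_le hS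
    rw [hs]
    rw [c1] at e1; rw [c2] at e2; rw [c3] at e3
    generalize 2 ^ (m + 1) = r at *
    generalize 2 ^ (2 * m + 1) = q at *
    obtain ⟨p, rfl⟩ : ∃ p, q = p + 2 := ⟨q - 2, by omega⟩
    obtain ⟨s, hs'⟩ : ∃ s, p + 2 = r + s := ⟨p + 2 - r, by omega⟩
    have f1 : A = 0 := by
      simp only [Nat.sub_self, zero_mul] at e1
      rcases mul_eq_zero.1 e1 with h' | h'
      · rcases mul_eq_zero.1 h' with h'' | h'' <;> omega
      · omega
    have f2 : B = 2 * (p + 2) * (p + 2 + r) := Nat.eq_of_mul_eq_mul_right (show 0 < 4 * (p + 2 + r + 1) * 2 by omega) (by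
      rw [← mul_assoc, e2, show 4 * (p + 2 + r + 1) - 4 = 4 * (p + 2 + r) by omega]; ring)
    have f3 : C = 2 * (p + 2) * s := Nat.eq_of_mul_eq_mul_right (show 0 < 4 * (s + 1) * 2 by omega) (by
      rw [show p + 2 - r + 1 = s + 1 by omega, show 4 * (s + 1) - 4 = 4 * s by omega] at e3
      rw [← mul_assoc, e3]; ring)
    subst f1 f2 f3
    rw [zero_add, ← mul_add, show p + 2 + r + s = 2 * (p + 2) by omega, show p + 2 - 1 = p + 1 by omega]
    ring
  rcases exists_conj_of_order_four hS hx with h | h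
  · rw [ncard_sol_conj h, key]
  · rw [ncard_sol_conj h, sol_inv, key]

theorem sol_order_FPF {x : Gp} (hx1 : x ≠ 1) {k : ℕ}
    (hk : k = 2 ^ (2 * m + 1) + 2 ^ (m + 1) + 1 ∨ k = 2 ^ (2 * m + 1) - 2 ^ (m + 1) + 1) (hx : orderOf x ∣ k) :
    (sol x).ncard = 4 * k := by
  obtain ⟨hprod, hcop, -⟩ := ab_props hS
  have hkd : k ∣ (2 ^ (2 * m + 1)) ^ 2 + 1 := by
    rcases hk with rfl | rfl
    · exact hprod ▸ dvd_mul_right _ _
    · exact hprod ▸ dvd_mul_left _ _
  have hF := FPF_of_orderOf_dvd hS (hx.trans hkd) hx1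
  have hT := isTor_of_FPF hS hF
  set T := Subgroup.centralizer ({x} : Set Gp)
  have hxT : x ∈ T := self_mem_cs hS x
  have hcard : Nat.card T = k := by
    have hmem : k ∈ torusOrders m := by rcases hk with rfl | rfl; exacts [Or.inr (Or.inl rfl), Or.inr (Or.inr rfl)]
    by_contra hne
    exact hx1 (orderOf_eq_one_iff.1 (Nat.eq_one_of_dvd_coprimes ((torusOrders_props hS hT.card).2.2 _ hmem hne)
      (Subgroup.orderOf_dvd_natCard _ hxT) hx))
  have hidx : torIdx m (Nat.card T) = 4 := by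
    rw [hcard, torIdx, if_neg]
    intro e
    exact hx1 (orderOf_eq_one_iff.1 (Nat.eq_one_of_dvd_coprimes (dvd_coprime (hx.trans hkd)).2 dvd_rfl (e ▸ hx)))
  have hset : sol x = (Subgroup.normalizer (T : Set Gp) : Set Gp) := by
    ext y
    constructor
    · intro hy
      rcases solvable_cases hS _ hy with ⟨o, ho⟩ | ⟨T', hT', hle⟩
      · exact absurd (ho x (Subgroup.subset_closure (by simp))) (hF o)
      · have hxN : x ∈ Subgroup.normalizer (T' : Set Gp) := hle (Subgroup.subset_closure (by simp))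
        have hxT' : x ∈ T' := by
          by_contra hn
          have h := orderOf_dvd_of_pow_eq_one (hT'.pow_eq_one hS hxN hn)
          refine hx1 (orderOf_eq_one_iff.1 (Nat.eq_one_of_dvd_coprimes (a := 4) (b := orderOf x) ?_
            (h.trans (by unfold torIdx; split_ifs <;> norm_num)) dvd_rfl))
          exact Nat.Coprime.pow_left 2 (Nat.coprime_two_left.2 (dvd_coprime (hx.trans hkd)).1)
        show y ∈ Subgroup.normalizer (T : Set Gp)
        rw [show T = T' from hT'.cent x hxT' hx1]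
        exact hle (Subgroup.subset_closure (by simp))
    · intro hy
      haveI := hT.isSolvable_normalizer hS
      exact mem_sol_of_le _ (Subgroup.le_normalizer hxT) hy
  rw [hset, ← Nat.card_coe_set_eq]
  show Nat.card (Subgroup.normalizer (T : Set Gp)) = 4 * k
  rw [hT.card_normalizer hS, hidx, hcard]

theorem sol_order_split {x : Gp} (hx1 : x ≠ 1) (hx : orderOf x ∣ 2 ^ (2 * m + 1) - 1) :
    (sol x).ncard = 2 * (2 ^ (2 * m + 1)) ^ 2 * (2 ^ (2 * m + 1) - 1) := by
  classical
  have hqo : Odd (orderOf x) :=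
    (Nat.Even.sub_odd Nat.one_le_two_pow (Nat.even_pow.2 ⟨even_two, by omega⟩) odd_one).of_dvd_nat hx
  obtain ⟨c, z, hz, hc⟩ : ∃ c z, z ≠ 1 ∧ c * x * c⁻¹ = hTor hS z := by
    rcases trichotomy hS x with ⟨c, hc⟩ | h | h
    · exact absurd hc (not_conj_unip_of_odd hS hx1 hqo c)
    · exact h
    · exact absurd (orderOf_eq_one_iff.1 (Nat.eq_one_of_dvd_coprimes
        (dvd_coprime (FPF.orderOf_dvd hS h)).2 dvd_rfl hx)) hx1
  rw [← ncard_sol_conj (isConj_iff.2 ⟨c, hc⟩)]
  set H := torus hS with hH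
  set S0 := MulAction.stabilizer Gp (pt m (some ((0 : F), 0))) with hS0
  set N := Subgroup.normalizer (H : Set Gp) with hN
  have hzfix : hTor hS z • pt m (some ((0 : F), 0)) = pt m (some (0, 0)) := by rw [hTor_pt]; simp
  have hset : sol (hTor hS z) = (borel m F : Set Gp) ∪ ((S0 : Set Gp) ∪ (N : Set Gp)) := by
    ext y
    constructor
    · intro hy
      rcases solvable_cases hS _ hy with ⟨o, ho⟩ | ⟨T', hT', hle⟩
      · have hyo := ho y (Subgroup.subset_closure (by simp))
        rcases eq_one_or_of_fix hS hz (ho _ (Subgroup.subset_closure (by simp))) with rfl | rfl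
        · exact Or.inl hyo
        · exact Or.inr (Or.inl hyo)
      · refine Or.inr (Or.inr ?_)
        have hxN : hTor hS z ∈ Subgroup.normalizer (T' : Set Gp) := hle (Subgroup.subset_closure (by simp))
        have hz1 : hTor hS z ≠ 1 := fun e => hz (hTor_injective hS (e.trans (hTor_one hS).symm))
        have hxT' : hTor hS z ∈ T' := by
          by_contra hn
          have h := orderOf_dvd_of_pow_eq_one (hT'.pow_eq_one hS hxN hn)
          refine hz1 (orderOf_eq_one_iff.1 (Nat.eq_one_of_dvd_coprimes (a := 4) (b := orderOf x) ?_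
            (h.trans (by unfold torIdx; split_ifs <;> norm_num)) (by rw [← hc, orderOf_conj' hS])))
          exact Nat.Coprime.pow_left 2 (Nat.coprime_two_left.2 hqo)
        show y ∈ Subgroup.normalizer (H : Set Gp)
        rw [show H = T' from (centralizer_torus hS hz).symm.trans (hT'.cent _ hxT' hz1)]
        exact hle (Subgroup.subset_closure (by simp))
    · rintro (h | h | h)
      · haveI := isSolvable_borel hS
        exact mem_sol_of_le (borel m F) (hTor_mem_borel hS z) h
      · haveI : Group.IsSolvable S0 := isSolvable_stab hS _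
        exact mem_sol_of_le S0 hzfix h
      · haveI : Group.IsSolvable N := (isTor_torus hS).isSolvable_normalizer hS
        exact mem_sol_of_le N (Subgroup.le_normalizer (hTor_mem_torus hS z)) h
  have hH1 : (borel m F : Set Gp) ∩ (S0 : Set Gp) = (H : Set Gp) := by
    ext y
    constructor
    · rintro ⟨h1, h2⟩
      obtain ⟨z', rfl⟩ := fix_two hS h1 h2
      exact hTor_mem_torus hS z'
    · intro hy
      obtain ⟨z', rfl⟩ := mem_torus hS hy
      exact ⟨hTor_inf hS z', by show _ • _ = _; rw [hTor_pt]; simp⟩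
  have hH2 : ((borel m F : Set Gp) ∪ (S0 : Set Gp)) ∩ (N : Set Gp) = (H : Set Gp) := by
    ext y
    constructor
    · rintro ⟨h1, hyN⟩
      by_contra hyH
      have h2 := (isTor_torus hS).pow_eq_one hS hyN hyH
      rw [card_torus hS, torIdx, if_pos rfl] at h2
      have ho : orderOf y = 2 := by
        haveI : Fact (Nat.Prime 2) := ⟨Nat.prime_two⟩
        exact orderOf_eq_prime h2 fun e => hyH (e ▸ one_mem H)
      have hinv := (isTor_torus hS).invert hS hyN ho (hTor_mem_torus hS z)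
      have hz' : hTor hS z = (hTor hS z)⁻¹ := by
        have hcomm : ∀ w : Gp, w ∈ borel m F → orderOf w = 2 → w ∈ N → False := by
          intro w hw hwo hwN
          rcases borel_cases hS hw with hu | ⟨v, z', hz', hv⟩
          · exact (isTor_torus hS).not_unip hS (hTor_mem_torus hS z)
              (fun e => hz (hTor_injective hS (e.trans (hTor_one hS).symm))) 1
              (absurd ((isTor_torus hS).inter_borel hS hu (fun e => by rw [e, orderOf_one] at hwo; omega) hwN
                (hTor_mem_torus hS z) (hTor_mem_borel hS z))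
                (fun e => hz (hTor_injective hS (e.trans (hTor_one hS).symm))))
          · rw [hv, orderOf_conj' hS] at hwo
            have := orderOf_odd_of_cyclic hS (isTor_torus hS).card (hTor_mem_torus hS z')
            rw [hwo] at this
            exact absurd this (by decide)
        rcases h1 with hb | h0
        · exact (hcomm y hb ho hyN).elim
        · exfalso
          refine hcomm (wS hS * y * (wS hS)⁻¹) ?_ (by rw [orderOf_conj' hS, ho]) ?_
          · show (wS hS * y * (wS hS)⁻¹) • suzukiPointInfinity F = suzukiPointInfinity F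
            rw [inv_eq_of_mul_eq_one_right (wS_sq hS), mul_smul, mul_smul, wS_inf,
              show y • pt m (some ((0 : F), 0)) = _ from h0, wS_zero]
          · have hwN : wS hS ∈ N := by
              refine mem_normalizer_of_map_conj (Subgroup.eq_of_le_of_card_ge ?_
                (le_of_eq (Subgroup.card_map_of_injective (MulAut.conj _).injective).symm))
              rintro _ ⟨u, hu, rfl⟩
              obtain ⟨z', rfl⟩ := mem_torus hS hu
              show wS hS * hTor hS z' * (wS hS)⁻¹ ∈ H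
              rw [wS_hTor, mul_inv_cancel_right]; exact hTor_mem_torus hS _
            exact mul_mem (mul_mem hwN hyN) (inv_mem hwN)
      exact hz (hTor_eq_inv hS hz')
    · intro hy
      have h := hH1.ge hy
      exact ⟨Or.inl h.1, Subgroup.le_normalizer hy⟩
  have hBS := Set.ncard_union_add_ncard_inter (borel m F : Set Gp) (S0 : Set Gp)
  have hAll := Set.ncard_union_add_ncard_inter ((borel m F : Set Gp) ∪ (S0 : Set Gp)) (N : Set Gp)
  rw [hH1] at hBS
  rw [hH2, Set.union_assoc] at hAll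
  have cS0 : Nat.card S0 = Nat.card (borel m F) := by
    rw [hS0, ← wS_inf hS, MulAction.stabilizer_smul_eq_stabilizer_map_conj]
    exact Subgroup.card_map_of_injective (MulAut.conj (wS hS)).injective
  have e1 : (borel m F : Set Gp).ncard = Nat.card (borel m F) := (Nat.card_coe_set_eq _).symm
  have e2 : (S0 : Set Gp).ncard = Nat.card S0 := (Nat.card_coe_set_eq _).symm
  have e3 : (N : Set Gp).ncard = Nat.card N := (Nat.card_coe_set_eq _).symm
  have e4 : (H : Set Gp).ncard = Nat.card H := (Nat.card_coe_set_eq _).symm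
  rw [e1, e2, e4, cS0, card_borel hS, hH, card_torus hS] at hBS
  rw [e3, e4, hN, hH, card_normalizer_torus hS, card_torus hS, ← hH, ← hN] at hAll
  rw [hset, mul_assoc]
  omega

theorem solubilizer (x : Gp) :
    (orderOf x = 2 → (sol x).ncard = (2 ^ (2 * m + 1)) ^ 2 * (4 * 2 ^ (2 * m + 1) - 3)) ∧
    (orderOf x = 4 → (sol x).ncard = (2 ^ (2 * m + 1)) ^ 2 * (2 ^ (2 * m + 1) + 3)) ∧
    (x ≠ 1 → orderOf x ∣ 2 ^ (2 * m + 1) - 1 →
      (sol x).ncard = 2 * (2 ^ (2 * m + 1)) ^ 2 * (2 ^ (2 * m + 1) - 1)) ∧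
    (x ≠ 1 → orderOf x ∣ 2 ^ (2 * m + 1) + 2 ^ (m + 1) + 1 →
      (sol x).ncard = 4 * (2 ^ (2 * m + 1) + 2 ^ (m + 1) + 1)) ∧
    (x ≠ 1 → orderOf x ∣ 2 ^ (2 * m + 1) - 2 ^ (m + 1) + 1 →
      (sol x).ncard = 4 * (2 ^ (2 * m + 1) - 2 ^ (m + 1) + 1)) :=
  ⟨sol_order_two hS, sol_order_four hS, sol_order_split hS,
    fun h h' => sol_order_FPF hS h (Or.inl rfl) h', fun h h' => sol_order_FPF hS h (Or.inr rfl) h'⟩

end Cfsg.Agent.Suz
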