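import Cfsg.Agent.Lib.Lie.Sz.FieldMap
import Cfsg.Agent.Lib.Lie.Sz.Solubilizer

/-! The insoluble subgroups of the Suzuki group are the subfield subgroups. -/

set_option autoImplicit false

namespace Cfsg.Agent.Suz

open scoped Pointwise

variable {F : Type*} [Field F] {m : ℕ} [Fintype F] (hS : SzField F m)
include hS

local notation3 "Gp" => ↥(Cfsg.Sz F m)

/-- In a subgroup containing a torus element, unipotent parts of conjugates stay in the subgroup. -/
theorem exists_conj_torus (M : Subgroup Gp) {u : Gp} {z : Fˣ} (hu : u ∈ unip hS) (hz : z ≠ 1)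
    (huM : u ∈ M) (hzM : hTor hS z ∈ M) :
    ∃ v ∈ M ⊓ unip hS, v * hTor hS z * v⁻¹ = u * hTor hS z := by
  have hmem : ∀ v : (M ⊓ unip hS : Subgroup Gp),
      (v : Gp) * (hTor hS z * (v : Gp)⁻¹ * (hTor hS z)⁻¹) ∈ M ⊓ unip hS := fun v =>
    Subgroup.mem_inf.2 ⟨mul_mem v.2.1 (mul_mem (mul_mem hzM (inv_mem v.2.1)) (inv_mem hzM)), mul_mem v.2.2
      ((Subgroup.mem_normalizer_iff.1 (borel_le_normalizer hS (hTor_mem_borel hS z)) _).1 (inv_mem v.2.2))⟩
  let f : (M ⊓ unip hS : Subgroup Gp) → (M ⊓ unip hS : Subgroup Gp) := fun v => ⟨_, hmem v⟩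
  have hinj : Function.Injective f := by
    intro v w h
    have h' := congrArg Subtype.val h
    simp only [f] at h'
    have hx : (w : Gp)⁻¹ * v * hTor hS z = hTor hS z * ((w : Gp)⁻¹ * v) := by
      simp only [← mul_assoc, mul_left_inj] at h'
      calc (w : Gp)⁻¹ * v * hTor hS z
          = (w : Gp)⁻¹ * ((v : Gp) * hTor hS z * (v : Gp)⁻¹) * v := by group
        _ = (w : Gp)⁻¹ * ((w : Gp) * hTor hS z * (w : Gp)⁻¹) * v := by rw [h']
        _ = _ := by group
    by_contra hne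
    have hx1 : (w : Gp)⁻¹ * v ≠ 1 := fun e => hne (Subtype.ext (inv_mul_eq_one.1 e).symm)
    obtain ⟨c, d, hcd⟩ := (mem_unip hS).1 (centralizer_unip_le hS (mul_mem (inv_mem w.2.2) v.2.2) hx1
      (Subgroup.mem_centralizer_singleton_iff.2 hx.symm))
    have := uS_hTor_inj hS (a := (0 : F)) (b := 0) (a' := c) (b' := d) (z := z) (z' := 1)
      (by rw [uS_zero, one_mul, hTor_one, mul_one, hcd])
    exact hz this.2.2
  obtain ⟨v, hv⟩ := Finite.surjective_of_injective hinj ⟨u, huM, hu⟩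
  refine ⟨v, v.2, ?_⟩
  rw [← show (v : Gp) * (hTor hS z * (v : Gp)⁻¹ * (hTor hS z)⁻¹) = u from congrArg Subtype.val hv]
  group

theorem mem_unip_of_orderOf {g : Gp} (hb : g ∈ borel m F) (hg : orderOf g = 2) : ∃ b, g = uS hS 0 b := by
  rcases borel_cases hS hb with hu | ⟨v, z, hz, hv⟩
  · obtain ⟨a, b, rfl⟩ := (mem_unip hS).1 hu
    have h2 : uS hS a b ^ 2 = 1 := by rw [← hg, pow_orderOf_eq_one]
    rw [uS_sq] at h2
    by_cases ha : a = 0
    · exact ⟨b, by rw [ha]⟩
    · exact absurd h2 (uS_ne_one hS (by simp [mul_ne_zero (th_ne_zero (m := m) ha) ha]))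
  · rw [hv, orderOf_conj' hS] at hg
    have := orderOf_odd_of_cyclic hS (isTor_torus hS).card (hTor_mem_torus hS z)
    rw [hg] at this
    exact absurd this (by decide)

theorem isSolvable_of_cyclic_two (M : Subgroup Gp) (h : ∀ P : Sylow 2 M, IsCyclic P) : Group.IsSolvable M := by
  haveI : IsZGroup M := ⟨fun p hp P => by
    haveI := Fact.mk hp
    by_cases hp2 : p = 2
    · subst hp2; exact h P
    obtain ⟨Q, hQ⟩ := (P.2.map M.subtype).exists_le_sylow
    haveI := sylow_odd_cyclic hS hp2 Q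
    let e := (P : Subgroup M).equivMapOfInjective M.subtype M.subtype_injective
    exact isCyclic_of_injective ((Subgroup.inclusion hQ).comp e.toMonoidHom)
      ((Subgroup.inclusion_injective hQ).comp e.injective)⟩
  infer_instance

theorem exists_involution (M : Subgroup Gp) (hM : ¬ Group.IsSolvable M) : ∃ x ∈ M, orderOf x = 2 := by
  haveI : Fact (Nat.Prime 2) := ⟨Nat.prime_two⟩
  by_contra hcon
  push Not at hcon
  refine hM (isSolvable_of_cyclic_two hS M fun P => ?_)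
  have hP : (P : Subgroup M) = ⊥ := by
    rw [Subgroup.eq_bot_iff_forall]
    intro y hy
    by_contra hy1
    obtain ⟨k, hk⟩ := IsPGroup.iff_orderOf.1 P.2 ⟨y, hy⟩
    rw [← Subgroup.orderOf_coe, ← Subgroup.orderOf_coe] at hk
    rcases Nat.eq_zero_or_pos k with rfl | hk0
    · exact hy1 (Subtype.ext (orderOf_eq_one_iff.1 hk))
    refine hcon _ (pow_mem y.2 (2 ^ (k - 1))) ?_
    refine orderOf_eq_prime ?_ ?_
    · rw [← pow_mul, ← pow_succ, Nat.sub_add_cancel hk0, ← hk, pow_orderOf_eq_one]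
    · intro e
      have := Nat.le_of_dvd (Nat.two_pow_pos _) (orderOf_dvd_of_pow_eq_one e)
      rw [hk] at this
      have := (Nat.pow_le_pow_iff_right (by norm_num : 1 < 2)).1 this
      omega
  rw [hP]
  infer_instance

omit hS in
theorem closed_preimage (W : Set F) {f : F → F} (hf : Function.Injective f) (hW : ∀ x ∈ W, f x ∈ W)
    {a : F} (ha : f a ∈ W) : a ∈ W := by
  have hinj : Function.Injective fun x : W => (⟨f x, hW x x.2⟩ : W) := fun x y h =>
    Subtype.ext (hf (congrArg Subtype.val h))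
  obtain ⟨⟨x, hx⟩, hxa⟩ := Finite.surjective_of_injective hinj ⟨f a, ha⟩
  exact (hf (congrArg Subtype.val hxa)) ▸ hx

theorem th_mul_self_injective : Function.Injective fun k : F => th m k * k := by
  have hs : Function.Surjective fun k : F => th m k * k := exists_th_mul_self hS
  exact Finite.injective_iff_surjective.2 hs

theorem div_th_injective : Function.Injective fun x : F => x / th m x := by
  intro x y h
  simp only at h
  by_cases hy : y = 0
  · subst hy
    rw [zero_div] at h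
    rcases div_eq_zero_iff.1 h with e | e
    · exact e
    · exact th_eq_zero.1 e
  have hy' := th_ne_zero (m := m) hy
  have hx : x ≠ 0 := fun e => by
    rw [e, zero_div] at h
    exact div_ne_zero hy hy' h.symm
  have hx' := th_ne_zero (m := m) hx
  have h1 : th m (x / y) = x / y := by
    rw [th_div]
    field_simp at h ⊢
    linear_combination -h
  rcases th_fixed hS (m := m) h1 with e | e
  · exact absurd e (div_ne_zero hx hy)
  · exact (div_eq_one_iff_eq hy).1 e

set_option maxHeartbeats 2000000 in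
/-- A normalised insoluble subgroup. -/
theorem insoluble_normal_form (M : Subgroup Gp) (hM : ¬ Group.IsSolvable M) (h01 : uS hS 0 1 ∈ M) :
    ∃ g : Gp, ∃ k, 1 ≤ k ∧ 2 * k + 1 ∣ 2 * m + 1 ∧ ∃ W : Set F, W.ncard = 2 ^ (2 * k + 1) ∧
      (∀ x ∈ W, x ^ (2 ^ (2 * k + 1)) = x) ∧
      ∀ x, x ∈ M.map (MulAut.conj g).toMonoidHom ↔
        ((∃ a ∈ W, ∃ b ∈ W, ∃ z : Fˣ, (z : F) ∈ W ∧ x = uS hS a b * hTor hS z) ∨
          (∃ a ∈ W, ∃ b ∈ W, ∃ c ∈ W, ∃ d ∈ W, ∃ z : Fˣ, (z : F) ∈ W ∧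
            x = uS hS a b * wS hS * (uS hS c d * hTor hS z))) := by
  classical
  haveI : Fact (Nat.Prime 2) := ⟨Nat.prime_two⟩
  have h01' : orderOf (uS hS (0 : F) 1) = 2 :=
    orderOf_eq_prime (by rw [uS_sq, th_zero, zero_mul, uS_zero]) (uS_ne_one hS (by simp))
  have h1ne : uS hS (0 : F) 1 ≠ 1 := uS_ne_one hS (by simp)
  have hnb : ¬ M ≤ borel m F := fun h => hM (by
    haveI := isSolvable_borel hS
    exact Group.isSolvable_of_isSolvable_injective (f := Subgroup.inclusion h) (Subgroup.inclusion_injective h))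
  obtain ⟨g₀, hg₀M, hg₀⟩ := SetLike.not_le_iff_exists.1 hnb
  -- an involution moving infinity
  obtain ⟨y, hyM, hyb, hy2⟩ : ∃ y ∈ M, y ∉ borel m F ∧ orderOf y = 2 := by
    refine ⟨g₀ * uS hS 0 1 * g₀⁻¹, mul_mem (mul_mem hg₀M h01) (inv_mem hg₀M), fun hb => ?_, by rw [orderOf_conj' hS, h01']⟩
    obtain ⟨b, hb'⟩ := mem_unip_of_orderOf hS hb (by rw [orderOf_conj' hS, h01'])
    exact hg₀ (mem_borel_of_conj_mem hS (uS_mem hS 0 1) h1ne (by rw [hb']; exact uS_mem hS 0 b))
  have hfus : ∀ {x : Gp}, x ∈ M → x ∈ borel m F → orderOf x = 2 → ∀ {y : Gp}, y ∈ M → y ∉ borel m F →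
      orderOf y = 2 → ∃ g ∈ M, g * x * g⁻¹ = y := by
    intro x hx hxb hx2 y hy hyb hy2
    have hxx : x * x = 1 := by rw [← sq, ← hx2, pow_orderOf_eq_one]
    have hyy : y * y = 1 := by rw [← sq, ← hy2, pow_orderOf_eq_one]
    set r := x * y with hr
    have hinv : x * r * x⁻¹ = r⁻¹ := by
      rw [hr, _root_.mul_inv_rev, inv_eq_of_mul_eq_one_right hxx, inv_eq_of_mul_eq_one_right hyy, ← mul_assoc, hxx, one_mul]
    have hpow : ∀ i : ℕ, x * r ^ i * x⁻¹ = (r ^ i)⁻¹ := fun i => by rw [← conj_pow, hinv, inv_pow]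
    have hyxr : y = x * r := by rw [hr, ← mul_assoc, hxx, one_mul]
    rcases Nat.even_or_odd (orderOf r) with ⟨j, hj⟩ | ⟨j, hj⟩
    · exfalso
      have hrpos : 0 < orderOf r := orderOf_pos r
      have hj0 : r ^ j ≠ 1 := fun e => by
        have := Nat.le_of_dvd (by omega) (orderOf_dvd_of_pow_eq_one e)
        omega
      have ht : (r ^ j)⁻¹ = r ^ j := inv_eq_of_mul_eq_one_right (by rw [← pow_add, ← hj, pow_orderOf_eq_one])
      obtain ⟨b, hb⟩ := mem_unip_of_orderOf hS hxb hx2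
      have h1 : r ^ j ∈ unip hS := by
        refine centralizer_unip_le hS (hb ▸ uS_mem hS 0 b) (fun e => by rw [e, orderOf_one] at hx2; omega) ?_
        rw [Subgroup.mem_centralizer_singleton_iff]
        have := hpow j
        rw [ht, mul_inv_eq_iff_eq_mul] at this
        exact this.symm
      have h2 : y ∈ unip hS := by
        refine centralizer_unip_le hS h1 hj0 ?_
        rw [Subgroup.mem_centralizer_singleton_iff, hyxr]
        have := hpow j
        rw [ht, mul_inv_eq_iff_eq_mul] at this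
        rw [mul_assoc, ← pow_succ', pow_succ, ← mul_assoc, this, mul_assoc]
      exact hyb (unip_le_borel hS h2)
    · refine ⟨r ^ j, pow_mem (mul_mem hx hy) j, ?_⟩
      rw [hyxr]
      have h1 : r ^ j * x = x * (r ^ j)⁻¹ := by
        have h := congrArg (fun t => t⁻¹) (hpow j)
        simp only [_root_.mul_inv_rev, inv_inv] at h
        rw [inv_eq_of_mul_eq_one_right hxx] at h
        calc r ^ j * x = x * ((r ^ j)⁻¹ * x) * x := by rw [h]
          _ = x * (r ^ j)⁻¹ * (x * x) := by simp only [mul_assoc]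
          _ = _ := by rw [hxx, mul_one]
      rw [h1, mul_assoc]
      congr 1
      rw [← _root_.mul_inv_rev, inv_eq_iff_mul_eq_one, ← pow_add, ← pow_succ, ← show orderOf r = j + j + 1 by omega,
        pow_orderOf_eq_one]
  -- the parameters
  let μ : Subgroup Fˣ :=
    { carrier := {z | ∃ u ∈ unip hS, u * hTor hS z ∈ M}
      one_mem' := ⟨1, one_mem _, by rw [one_mul, hTor_one]; exact one_mem M⟩
      mul_mem' := fun {z z'} ⟨u, hu, h⟩ ⟨u', hu', h'⟩ => ⟨u * (hTor hS z * u' * (hTor hS z)⁻¹),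
        mul_mem hu ((Subgroup.mem_normalizer_iff.1 (borel_le_normalizer hS (hTor_mem_borel hS z)) _).1 hu'), by
        rw [← hTor_mul]
        convert mul_mem h h' using 1
        group⟩
      inv_mem' := fun {z} ⟨u, hu, h⟩ => ⟨(hTor hS z)⁻¹ * u⁻¹ * ((hTor hS z)⁻¹)⁻¹,
        (Subgroup.mem_normalizer_iff.1 (inv_mem (borel_le_normalizer hS (hTor_mem_borel hS z))) _).1 (inv_mem hu), by
        rw [← hTor_inv]
        convert inv_mem h using 1
        group⟩ }
  let W : AddSubgroup F :=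
    { carrier := {b | uS hS 0 b ∈ M}
      zero_mem' := by show uS hS 0 0 ∈ M; rw [uS_zero]; exact one_mem M
      add_mem' := fun {a b} ha hb => by
        have := mul_mem (show uS hS 0 a ∈ M from ha) (show uS hS 0 b ∈ M from hb)
        rw [uS_mul, th_zero, zero_mul, add_zero, add_zero] at this
        exact this
      neg_mem' := fun {a} ha => by rw [neg_eq hS]; exact ha }
  have hWdef : ∀ b, b ∈ W ↔ uS hS 0 b ∈ M := fun b => Iff.rfl
  have h1W : (1 : F) ∈ W := h01
  have hact : ∀ z ∈ μ, ∀ b ∈ W, th m (z : F) * b ∈ W := by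
    rintro z ⟨u, hu, h⟩ b hb
    obtain ⟨c, d, rfl⟩ := (mem_unip hS).1 hu
    have := mul_mem (mul_mem h ((hWdef b).1 hb)) (inv_mem h)
    rw [show uS hS c d * hTor hS z * uS hS 0 b * (uS hS c d * hTor hS z)⁻¹ =
      uS hS c d * (hTor hS z * uS hS 0 b * (hTor hS z)⁻¹) * (uS hS c d)⁻¹ by group, hTor_conj, mul_zero, uS_inv,
      uS_mul, uS_mul] at this
    simp only [mul_zero, add_zero] at this
    rw [hWdef]
    convert this using 2
    · linear_combination (-c) * two hS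
    · linear_combination (-(d + th m c * c)) * two hS
  have htrans : ∀ b ∈ W, b ≠ 0 → ∃ z ∈ μ, th m (z : F) = b := by
    intro b hb hb0
    have hb2 : orderOf (uS hS 0 b) = 2 :=
      orderOf_eq_prime (by rw [uS_sq, th_zero, zero_mul, uS_zero]) (uS_ne_one hS (by simp [hb0]))
    obtain ⟨g, hg, hgy⟩ := hfus h01 (uS_mem_borel hS 0 1) h01' hyM hyb hy2
    obtain ⟨g', hg', hgy'⟩ := hfus ((hWdef b).1 hb) (uS_mem_borel hS 0 b) hb2 hyM hyb hy2
    set n := g'⁻¹ * g with hn
    have hnc : n * uS hS 0 1 * n⁻¹ = uS hS 0 b := by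
      rw [hn, show g'⁻¹ * g * uS hS 0 1 * (g'⁻¹ * g)⁻¹ = g'⁻¹ * (g * uS hS 0 1 * g⁻¹) * g' by group, hgy, ← hgy']
      group
    obtain ⟨c, d, z, hz⟩ := borel_eq hS (mem_borel_of_conj_mem hS (uS_mem hS 0 1) h1ne (hnc ▸ uS_mem hS 0 b))
    refine ⟨z, ⟨_, uS_mem hS c d, hz ▸ mul_mem (inv_mem hg') hg⟩, ?_⟩
    rw [hz, show uS hS c d * hTor hS z * uS hS 0 1 * (uS hS c d * hTor hS z)⁻¹ =
      uS hS c d * (hTor hS z * uS hS 0 1 * (hTor hS z)⁻¹) * (uS hS c d)⁻¹ by group, hTor_conj, mul_zero, mul_one,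
      uS_inv, uS_mul, uS_mul] at hnc
    simp only [mul_zero, add_zero] at hnc
    have h2 := (uS_injective hS hnc).2
    linear_combination h2 - (d + th m c * c) * two hS
  have hμW : ∀ z ∈ μ, th m (z : F) ∈ W := fun z hz => by simpa using hact z hz 1 h1W
  have hWmul : ∀ a ∈ W, ∀ b ∈ W, a * b ∈ W := by
    intro a ha b hb
    by_cases ha0 : a = 0
    · rw [ha0, zero_mul]; exact W.zero_mem
    · obtain ⟨z, hz, rfl⟩ := htrans a ha ha0
      exact hact z hz b hb
  have hWinv : ∀ a ∈ W, a⁻¹ ∈ W := by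
    intro a ha
    by_cases ha0 : a = 0
    · rw [ha0, inv_zero]; exact W.zero_mem
    · obtain ⟨z, hz, rfl⟩ := htrans a ha ha0
      rw [← th_inv, ← Units.val_inv_eq_inv_val]; exact hμW _ (inv_mem hz)
  let L : Subfield F :=
    { carrier := W
      mul_mem' := fun {a b} ha hb => hWmul a ha b hb
      one_mem' := h1W
      add_mem' := fun {a b} => W.add_mem
      zero_mem' := W.zero_mem
      neg_mem' := fun {a} => W.neg_mem
      inv_mem' := hWinv }
  have hLW : ∀ x, x ∈ L ↔ x ∈ W := fun x => Iff.rfl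
  haveI := charP hS
  haveI : CharP L 2 := charP_of_injective_algebraMap (RingHom.injective (L.subtype)) 2 |> fun _ =>
    (RingHom.charP L.subtype L.subtype.injective 2)
  obtain ⟨n, -, hn⟩ := FiniteField.card L 2
  have hdvd : (n : ℕ) ∣ 2 * m + 1 := by
    have h := Module.card_eq_pow_finrank (K := L) (V := F)
    rw [hn, hS.card, ← pow_mul] at h
    exact ⟨_, Nat.pow_right_injective le_rfl h⟩
  obtain ⟨k, hk⟩ : Odd (n : ℕ) := Odd.of_dvd_nat (odd_two_mul_add_one m) hdvd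
  have hWpow : ∀ x ∈ W, x ^ (2 ^ (n : ℕ)) = x := by
    intro x hx
    have h := FiniteField.pow_card (⟨x, hx⟩ : L)
    rw [hn] at h
    exact congrArg Subtype.val h
  have hWth : ∀ x ∈ W, th m x ∈ W := fun x hx => pow_mem (show x ∈ L from hx) _
  have hWsq : ∀ x ∈ W, th m x * x ∈ W := fun x hx => hWmul _ (hWth x hx) x hx
  have hAW : ∀ a b, uS hS a b ∈ M → a ∈ W := by
    intro a b h
    refine closed_preimage (W : Set F) (th_mul_self_injective hS) hWsq ?_
    have := pow_mem h 2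
    rw [uS_sq] at this
    exact this
  have hμ' : ∀ z ∈ μ, (z : F) ∈ W := fun z hz =>
    closed_preimage (W : Set F) (fun x y h => th_inj hS h) hWth (hμW z hz)
  have hμconv : ∀ z : Fˣ, (z : F) ∈ W → z ∈ μ := by
    intro z hz
    obtain ⟨z', hz', he⟩ := htrans (th m (z : F)) (hWth _ hz) (th_ne_zero z.ne_zero)
    rwa [← Units.ext (th_inj hS he)]
  have hk1 : 1 ≤ k := by
    by_contra hk0
    have hn1 : (n : ℕ) = 1 := by omega
    rw [hn1, pow_one] at hWpow hn
    have hW01 : ∀ x ∈ W, x = 0 ∨ x = 1 := by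
      intro x hx
      have : x * (x - 1) = 0 := by linear_combination hWpow x hx
      rcases mul_eq_zero.1 this with e | e
      · exact Or.inl e
      · exact Or.inr (sub_eq_zero.1 e)
    refine hM (isSolvable_of_cyclic_two hS M fun P => ?_)
    -- a Sylow subgroup at the given involution
    obtain ⟨Q, hQ⟩ := (IsPGroup.of_card (n := 1) (G := ↥(Subgroup.zpowers (⟨uS hS 0 1, h01⟩ : M))) (by
      rw [Nat.card_zpowers, ← Subgroup.orderOf_coe, h01', pow_one])).exists_le_sylow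
    suffices hQc : IsCyclic Q by
      exact isCyclic_of_surjective (P.equiv Q).symm.toMonoidHom (P.equiv Q).symm.surjective
    have hQb : ∀ q : Q, ((q : M) : Gp) ∈ unip hS := by
      obtain ⟨S, hS'⟩ := (Q.2.map M.subtype).exists_le_sylow
      obtain ⟨c, hc⟩ := exists_conj_unip hS S
      rw [hc] at hS'
      have hxQ : uS hS 0 1 ∈ (Q : Subgroup M).map M.subtype := ⟨_, hQ (Subgroup.mem_zpowers _), rfl⟩
      obtain ⟨u, hu, hue⟩ := hS' hxQ
      have hue' : c * u * c⁻¹ = uS hS 0 1 := hue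
      have hcb : c ∈ borel m F := mem_borel_of_conj_mem hS hu (fun e => h1ne (by rw [← hue', e]; group))
        (by rw [hue']; exact uS_mem hS 0 1)
      intro q
      obtain ⟨w, hw, hwe⟩ := hS' ⟨_, q.2, rfl⟩
      have hwe' : c * w * c⁻¹ = ((q : M) : Gp) := hwe
      rw [← hwe']
      exact (Subgroup.mem_normalizer_iff.1 (borel_le_normalizer hS hcb) w).1 hw
    by_cases hex : ∃ q : Q, ((q : M) : Gp) ^ 2 ≠ 1
    · obtain ⟨q, hq⟩ := hex
      refine ⟨q, fun p => ?_⟩
      obtain ⟨a, b, hab⟩ := (mem_unip hS).1 (hQb q)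
      obtain ⟨a', b', hab'⟩ := (mem_unip hS).1 (hQb p)
      have ha : a = 1 := (hW01 a (hAW a b (hab ▸ (q : M).2))).resolve_left fun e => hq (by
        rw [hab, uS_sq, e, th_zero, zero_mul, uS_zero])
      have hzero : ∀ b'' : F, uS hS 0 b'' ∈ M → b'' = 0 ∨ b'' = 1 := fun b'' h => hW01 b'' h
      rcases hW01 a' (hAW a' b' (hab' ▸ (p : M).2)) with e | e
      · rcases hzero b' (e ▸ hab' ▸ (p : M).2) with e' | e'
        · refine ⟨0, Subtype.ext (Subtype.ext ?_)⟩
          simp [hab', e, e', uS_zero]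
        · refine ⟨2, Subtype.ext (Subtype.ext ?_)⟩
          show ((q : M) : Gp) ^ (2 : ℤ) = _
          rw [zpow_ofNat, hab, uS_sq, ha, th_one, one_mul, hab', e, e']
      · have hd : b + b' + th m a * a + th m a * a' = 0 ∨ b + b' + th m a * a + th m a * a' = 1 := by
          refine hzero _ ?_
          have := mul_mem (inv_mem (hab ▸ (q : M).2)) (hab' ▸ (p : M).2)
          rw [uS_inv, uS_mul] at this
          convert this using 2
          · rw [ha, e]; linear_combination (-1 : F) * two hS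
          · ring
        rw [ha, e, th_one, one_mul] at hd
        rcases hd with hd | hd
        · refine ⟨1, Subtype.ext (Subtype.ext ?_)⟩
          show ((q : M) : Gp) ^ (1 : ℤ) = _
          rw [_root_.zpow_one, hab, hab', ha, e]
          congr 1
          linear_combination hd - (b' + 1) * two hS
        · refine ⟨3, Subtype.ext (Subtype.ext ?_)⟩
          show ((q : M) : Gp) ^ (3 : ℤ) = _
          rw [zpow_ofNat, pow_succ, hab, uS_sq, ha, th_one, one_mul, uS_mul, hab', e, th_zero]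
          congr 1
          · ring
          · linear_combination hd - b' * two hS
    · push Not at hex
      refine ⟨⟨⟨uS hS 0 1, h01⟩, hQ (Subgroup.mem_zpowers _)⟩, fun p => ?_⟩
      obtain ⟨a, b, hab⟩ := (mem_unip hS).1 (hQb p)
      have h2 := hex p
      rw [hab, uS_sq] at h2
      have ha : a = 0 := by
        by_contra ha
        exact uS_ne_one hS (by simp [mul_ne_zero (th_ne_zero (m := m) ha) ha]) h2
      subst ha
      rcases hW01 b ((hWdef b).2 (hab ▸ (p : M).2)) with e | e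
      · exact ⟨0, Subtype.ext (Subtype.ext (by simp [hab, e, uS_zero]))⟩
      · refine ⟨1, Subtype.ext (Subtype.ext ?_)⟩
        show uS hS 0 1 ^ (1 : ℤ) = _
        rw [_root_.zpow_one, hab, e]
  -- a torus element of the subgroup after conjugation
  obtain ⟨w₀, hw₀, hw00, hw01⟩ : ∃ w ∈ W, w ≠ 0 ∧ w ≠ 1 := by
    by_contra hcon
    push Not at hcon
    have hle : Fintype.card L ≤ ({0, 1} : Finset F).card := by
      rw [← Finset.card_univ]
      refine Finset.card_le_card_of_injOn (fun x : L => (x : F)) (fun x _ => ?_) (fun x _ y _ h => Subtype.ext h)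
      rw [Finset.mem_coe, Finset.mem_insert, Finset.mem_singleton]
      exact or_iff_not_imp_left.2 (hcon x x.2)
    rw [hn] at hle
    have h8 : 2 ^ 3 ≤ 2 ^ (n : ℕ) := Nat.pow_le_pow_right (by omega) (by omega)
    have := Finset.card_le_two (a := (0 : F)) (b := 1)
    omega
  obtain ⟨ζ, hζ⟩ := IsCyclic.exists_generator (α := μ)
  have hζ1 : (ζ : Fˣ) ≠ 1 := by
    intro e
    obtain ⟨z, hz, hze⟩ := htrans w₀ hw₀ hw00
    obtain ⟨i, hi⟩ := Subgroup.mem_zpowers_iff.1 (hζ ⟨z, hz⟩)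
    rw [show ζ = 1 from Subtype.ext e, _root_.one_zpow] at hi
    have : z = 1 := (congrArg Subtype.val hi).symm
    rw [this, Units.val_one, th_one] at hze
    exact hw01 hze.symm
  obtain ⟨u₀, hu₀, hu₀M⟩ := ζ.2
  obtain ⟨v₀, ⟨-, hv₀⟩, hv₀e⟩ := exists_conj_torus hS ⊤ hu₀ hζ1 (Subgroup.mem_top _) (Subgroup.mem_top _)
  set M' := M.map (MulAut.conj v₀⁻¹).toMonoidHom with hM'
  have hmem' : ∀ x, x ∈ M' ↔ v₀ * x * v₀⁻¹ ∈ M := fun x => by
    rw [hM', Subgroup.mem_map_equiv, MulAut.conj_symm_apply, inv_inv]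
  have hζM : hTor hS (ζ : Fˣ) ∈ M' := by rw [hmem', hv₀e]; exact hu₀M
  have hμM : ∀ z ∈ μ, hTor hS z ∈ M' := fun z hz => by
    obtain ⟨i, hi⟩ := Subgroup.mem_zpowers_iff.1 (hζ ⟨z, hz⟩)
    have e : z = (ζ : Fˣ) ^ i := (congrArg Subtype.val hi).symm
    rw [e, show hTor hS ((ζ : Fˣ) ^ i) = hTor hS (ζ : Fˣ) ^ i from map_zpow (torHom hS) _ i]
    exact zpow_mem hζM i
  have hZ' : ∀ b, uS hS 0 b ∈ M' ↔ b ∈ W := fun b => by
    rw [hmem', hWdef]
    obtain ⟨c, d, rfl⟩ := (mem_unip hS).1 hv₀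
    rw [uS_inv, uS_mul, uS_mul]
    refine iff_of_eq (congrArg (· ∈ M) ?_)
    congr 1
    · linear_combination c * two hS
    · simp only [mul_zero, add_zero]
      linear_combination (d + th m c * c) * two hS
  have hA' : ∀ a b, uS hS a b ∈ M' → a ∈ W := by
    intro a b h
    refine closed_preimage (W : Set F) (th_mul_self_injective hS) hWsq ?_
    have := pow_mem h 2
    rw [uS_sq, hZ'] at this
    exact this
  have hB' : ∀ a b z, uS hS a b * hTor hS z ∈ M' → z ∈ μ ∧ uS hS a b ∈ M' := by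
    intro a b z h
    have hz : z ∈ μ := by
      rw [hmem'] at h
      refine ⟨v₀ * uS hS a b * (hTor hS z * v₀⁻¹ * (hTor hS z)⁻¹), mul_mem (mul_mem hv₀ (uS_mem hS a b))
        ((Subgroup.mem_normalizer_iff.1 (borel_le_normalizer hS (hTor_mem_borel hS z)) _).1 (inv_mem hv₀)), ?_⟩
      convert h using 1
      group
    refine ⟨hz, ?_⟩
    have := mul_mem h (inv_mem (hμM z hz))
    rwa [mul_inv_cancel_right] at this
  have h01M' : uS hS 0 1 ∈ M' := (hZ' 1).2 h1W
  -- counting the involutions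
  set U' := M' ⊓ unip hS with hU'def
  set B' := M' ⊓ borel m F with hB'def
  let Δ : Set (Option (F × F)) := {o | ∃ g ∈ M', g • pt m none = pt m o}
  have hnoneΔ : none ∈ Δ := ⟨1, one_mem _, one_smul _ _⟩
  let I : Set Gp := {x | x ∈ M' ∧ orderOf x = 2}
  have hcent : ∀ g : Gp, g * uS hS 0 1 * g⁻¹ = uS hS 0 1 ↔ g ∈ unip hS := by
    intro g
    rw [← centralizer_uS_zero hS (1 : F) one_ne_zero, Subgroup.mem_centralizer_singleton_iff, mul_inv_eq_iff_eq_mul]
  have hIconj : ∀ t ∈ I, ∃ g ∈ M', g * uS hS 0 1 * g⁻¹ = t := by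
    rintro t ⟨htM, ht2⟩
    by_cases htb : t ∈ borel m F
    · obtain ⟨b, rfl⟩ := mem_unip_of_orderOf hS htb ht2
      have hb := (hZ' b).1 htM
      have hb0 : b ≠ 0 := fun e => by rw [e, uS_zero, orderOf_one] at ht2; omega
      obtain ⟨z, hz, hze⟩ := htrans b hb hb0
      exact ⟨hTor hS z, hμM z hz, by rw [hTor_conj, mul_zero, hze, mul_one]⟩
    · have hv : ∀ x, x ∈ borel m F ↔ v₀ * x * v₀⁻¹ ∈ borel m F := fun x =>
        ⟨fun h => mul_mem (mul_mem (unip_le_borel hS hv₀) h) (inv_mem (unip_le_borel hS hv₀)), fun h => by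
          have := mul_mem (mul_mem (inv_mem (unip_le_borel hS hv₀)) h) (unip_le_borel hS hv₀)
          rwa [show v₀⁻¹ * (v₀ * x * v₀⁻¹) * v₀ = x by group] at this⟩
      obtain ⟨g, hg, hge⟩ := hfus h01 (uS_mem_borel hS 0 1) h01' ((hmem' t).1 htM)
        (fun h => htb ((hv t).2 h)) (by rw [orderOf_conj' hS, ht2])
      refine ⟨v₀⁻¹ * g * v₀, by rw [hmem', show v₀ * (v₀⁻¹ * g * v₀) * v₀⁻¹ = g by group]; exact hg, ?_⟩
      have hvfix : v₀ * uS hS 0 1 * v₀⁻¹ = uS hS 0 1 := (hcent v₀).2 hv₀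
      calc v₀⁻¹ * g * v₀ * uS hS 0 1 * (v₀⁻¹ * g * v₀)⁻¹ = v₀⁻¹ * (g * (v₀ * uS hS 0 1 * v₀⁻¹) * g⁻¹) * v₀ := by group
        _ = v₀⁻¹ * (v₀ * t * v₀⁻¹) * v₀ := by rw [hvfix, hge]
        _ = t := by group
  have hcardM : Nat.card M' = I.ncard * Nat.card U' := by
    let f : M' → I := fun g => ⟨(g : Gp) * uS hS 0 1 * (g : Gp)⁻¹,
      mul_mem (mul_mem g.2 h01M') (inv_mem g.2), by rw [orderOf_conj' hS, h01']⟩
    haveI : Fintype I := Fintype.ofFinite _
    have hfib : ∀ t, Nat.card {g // f g = t} = Nat.card U' := by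
      rintro ⟨t, ht⟩
      obtain ⟨g₁, hg₁, hge⟩ := hIconj t ht
      refine (Nat.card_eq_of_bijective (fun u : U' => (⟨⟨g₁ * (u : Gp), mul_mem hg₁ u.2.1⟩, Subtype.ext (by
        show g₁ * (u : Gp) * uS hS 0 1 * (g₁ * (u : Gp))⁻¹ = t
        rw [show g₁ * (u : Gp) * uS hS 0 1 * (g₁ * (u : Gp))⁻¹ = g₁ * ((u : Gp) * uS hS 0 1 * (u : Gp)⁻¹) * g₁⁻¹ by group,
          (hcent _).2 u.2.2, hge])⟩ : {g // f g = ⟨t, ht⟩}))
        ⟨fun u u' h => Subtype.ext (mul_left_cancel (congrArg (fun p => (p.1 : Gp)) h)), ?_⟩).symm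
      rintro ⟨⟨g, hg⟩, hgt⟩
      have hgt' : g * uS hS 0 1 * g⁻¹ = t := congrArg Subtype.val hgt
      refine ⟨⟨g₁⁻¹ * g, Subgroup.mem_inf.2 ⟨mul_mem (inv_mem hg₁) hg, (hcent _).1 ?_⟩⟩, Subtype.ext (Subtype.ext (mul_inv_cancel_left _ _))⟩
      rw [show g₁⁻¹ * g * uS hS 0 1 * (g₁⁻¹ * g)⁻¹ = g₁⁻¹ * (g * uS hS 0 1 * g⁻¹) * g₁ by group, hgt', ← hge]
      group
    rw [Nat.card_congr (Equiv.sigmaFiberEquiv f).symm, Nat.card_sigma, Finset.sum_congr rfl (fun t _ => hfib t),
      Finset.sum_const, Finset.card_univ, smul_eq_mul, ← Nat.card_eq_fintype_card, Nat.card_coe_set_eq]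
  have hcardB : Nat.card B' = Nat.card U' * Nat.card μ := by
    rw [← Nat.card_prod]
    refine (Nat.card_eq_of_bijective (fun p : U' × μ => (⟨(p.1 : Gp) * hTor hS (p.2 : Fˣ),
      mul_mem p.1.2.1 (hμM _ p.2.2), mul_mem (unip_le_borel hS p.1.2.2) (hTor_mem_borel hS _)⟩ : B'))
      ⟨fun p p' h => ?_, ?_⟩).symm
    · obtain ⟨a, b, hab⟩ := (mem_unip hS).1 p.1.2.2
      obtain ⟨a', b', hab'⟩ := (mem_unip hS).1 p'.1.2.2
      have h' := congrArg Subtype.val h
      simp only [hab, hab'] at h'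
      obtain ⟨e1, e2, e3⟩ := uS_hTor_inj hS h'
      exact Prod.ext (Subtype.ext (by rw [hab, hab', e1, e2])) (Subtype.ext e3)
    · rintro ⟨x, hxM, hxb⟩
      obtain ⟨a, b, z, rfl⟩ := borel_eq hS hxb
      obtain ⟨h1, h2⟩ := hB' a b z hxM
      exact ⟨(⟨_, h2, uS_mem hS a b⟩, ⟨z, h1⟩), rfl⟩
  have hcardMΔ : Nat.card M' = Δ.ncard * Nat.card B' := by
    let f : M' → Δ := fun g => ⟨(exists_pt_smul hS (g : Gp) none).choose, g, g.2,
      (exists_pt_smul hS (g : Gp) none).choose_spec⟩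
    have hf : ∀ (g : M') (o : Δ), f g = o ↔ (g : Gp) • pt m none = pt m (o : Option (F × F)) := by
      intro g o
      have := (exists_pt_smul hS (g : Gp) none).choose_spec
      constructor
      · intro h; rw [← h]; exact this
      · intro h; exact Subtype.ext (pt_injective (this.symm.trans h))
    haveI : Fintype Δ := Fintype.ofFinite _
    have hfib : ∀ t, Nat.card {g // f g = t} = Nat.card B' := by
      rintro ⟨t, g₁, hg₁, hge⟩
      refine (Nat.card_eq_of_bijective (fun u : B' => (⟨⟨g₁ * (u : Gp), mul_mem hg₁ u.2.1⟩, (hf _ _).2 (by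
        show (g₁ * (u : Gp)) • pt m none = pt m t
        rw [mul_smul, show (u : Gp) • pt m none = pt m none from u.2.2, hge])⟩ : {g // f g = ⟨t, g₁, hg₁, hge⟩}))
        ⟨fun u u' h => Subtype.ext (mul_left_cancel (congrArg (fun p => (p.1 : Gp)) h)), ?_⟩).symm
      rintro ⟨⟨g, hg⟩, hgt⟩
      refine ⟨⟨g₁⁻¹ * g, Subgroup.mem_inf.2 ⟨mul_mem (inv_mem hg₁) hg, ?_⟩⟩, Subtype.ext (Subtype.ext (mul_inv_cancel_left _ _))⟩
      show (g₁⁻¹ * g) • pt m none = pt m none
      rw [mul_smul, (hf _ _).1 hgt, ← hge, inv_smul_smul]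
    rw [Nat.card_congr (Equiv.sigmaFiberEquiv f).symm, Nat.card_sigma, Finset.sum_congr rfl (fun t _ => hfib t),
      Finset.sum_const, Finset.card_univ, smul_eq_mul, ← Nat.card_eq_fintype_card, Nat.card_coe_set_eq]
  have hI : I.ncard = Δ.ncard * Nat.card μ := by
    have h : I.ncard * Nat.card U' = Δ.ncard * Nat.card μ * Nat.card U' := by
      rw [← hcardM, hcardMΔ, hcardB]; ring
    exact Nat.eq_of_mul_eq_mul_right Nat.card_pos h
  -- each point carries a full torus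
  let D : Option (F × F) → Set Gp := fun o => {d | d ∈ M' ∧ d • pt m (none : Option (F × F)) = pt m none ∧ d • pt m o = pt m o}
  have hDle : ∀ o : Option (F × F), o ≠ none → ∃ f : D o → μ, Function.Injective f ∧ ∀ d : D o, ∃ u ∈ U', (d : Gp) = u * hTor hS (f d : Fˣ) := by
    intro o ho
    have h : ∀ d : D o, ∃ z : μ, ∃ u ∈ U', (d : Gp) = u * hTor hS (z : Fˣ) := by
      rintro ⟨d, hdM, hd0, -⟩
      obtain ⟨a, b, z, rfl⟩ := borel_eq hS (show d ∈ borel m F from hd0)
      obtain ⟨h1, h2⟩ := hB' a b z hdM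
      exact ⟨⟨z, h1⟩, _, ⟨h2, uS_mem hS a b⟩, rfl⟩
    choose f hf using h
    refine ⟨f, fun d d' e => ?_, hf⟩
    obtain ⟨u, hu, hd⟩ := hf d
    obtain ⟨u', hu', hd'⟩ := hf d'
    rw [← e] at hd'
    have hq : (d : Gp) * (d' : Gp)⁻¹ ∈ unip hS := by
      rw [hd, hd', _root_.mul_inv_rev, mul_assoc, mul_inv_cancel_left]
      exact mul_mem hu.2 (inv_mem hu'.2)
    refine Subtype.ext (mul_inv_eq_one.1 ?_)
    by_contra hne
    refine ho (eq_none_of_fix hS hq hne ?_)
    rw [mul_smul, inv_smul_eq_iff.2 d'.2.2.2.symm]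
    exact d.2.2.2
  have hfibY : ∀ o, o ≠ none → {t ∈ I | t • pt m none = pt m o}.ncard ≤ (D o).ncard := by
    intro o _
    by_cases hne : {t ∈ I | t • pt m none = pt m o}.Nonempty
    · obtain ⟨t₀, ⟨ht₀M, ht₀2⟩, ht₀o⟩ := hne
      have hswap : ∀ t : Gp, orderOf t = 2 → t • pt m none = pt m o → t • pt m o = pt m none := by
        intro t ht hto
        rw [← hto, ← mul_smul, ← sq, ← ht, pow_orderOf_eq_one, one_smul]
      refine Set.ncard_le_ncard_of_injOn (fun t => t₀ * t) ?_ (fun a _ b _ h => mul_left_cancel h) (Set.toFinite _)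
      rintro t ⟨⟨htM, ht2⟩, hto⟩
      refine ⟨mul_mem ht₀M htM, ?_, ?_⟩
      · rw [mul_smul, hto, hswap t₀ ht₀2 ht₀o]
      · rw [mul_smul, hswap t ht2 hto, ht₀o]
    · rw [Set.not_nonempty_iff_eq_empty.1 hne, Set.ncard_empty]; exact Nat.zero_le _
  have hDcard : ∀ o, o ≠ none → (D o).ncard ≤ Nat.card μ := by
    intro o ho
    obtain ⟨f, hf, -⟩ := hDle o ho
    rw [← Nat.card_coe_set_eq]
    exact Nat.card_le_card_of_injective f hf
  haveI : Fintype Δ := Fintype.ofFinite _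
  have hsplit : I.ncard = ∑ o : Δ, {t ∈ I | t • pt m none = pt m (o : Option (F × F))}.ncard := by
    haveI : Fintype I := Fintype.ofFinite _
    let f : I → Δ := fun t => ⟨(exists_pt_smul hS (t : Gp) none).choose, t, t.2.1,
      (exists_pt_smul hS (t : Gp) none).choose_spec⟩
    rw [← Nat.card_coe_set_eq, Nat.card_congr (Equiv.sigmaFiberEquiv f).symm, Nat.card_sigma]
    refine Finset.sum_congr rfl fun o _ => ?_
    rw [← Nat.card_coe_set_eq]
    refine Nat.card_congr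
      { toFun := fun t => ⟨t.1, t.1.2, (exists_pt_smul hS ((t.1 : I) : Gp) none).choose_spec.trans (congrArg (fun o' : Δ => pt m (o' : Option (F × F))) t.2)⟩
        invFun := fun t => ⟨⟨t, t.2.1⟩, Subtype.ext (pt_injective
          ((exists_pt_smul hS (t : Gp) none).choose_spec.symm.trans t.2.2))⟩
        left_inv := fun t => rfl
        right_inv := fun t => rfl }
  have hnone_le : {t ∈ I | t • pt m (none : Option (F × F)) = pt m none}.ncard ≤ Nat.card μ := by
    have hbd : ∀ t ∈ {t ∈ I | t • pt m (none : Option (F × F)) = pt m none}, ∃ z : μ, t = uS hS 0 (th m ((z : Fˣ) : F)) := by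
      rintro t ⟨⟨htM, ht2⟩, htb⟩
      obtain ⟨b, rfl⟩ := mem_unip_of_orderOf hS (show t ∈ borel m F from htb) ht2
      obtain ⟨z, hz, hze⟩ := htrans b ((hZ' b).1 htM) (fun e => by rw [e, uS_zero, orderOf_one] at ht2; omega)
      exact ⟨⟨z, hz⟩, by rw [hze]⟩
    choose f hf using hbd
    rw [← Nat.card_coe_set_eq]
    refine Nat.card_le_card_of_injective (fun t => f t t.2) fun t t' h => Subtype.ext ?_
    have h1 := hf t t.2
    have h2 := hf t' t'.2
    simp only at h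
    rw [h] at h1
    exact h1.trans h2.symm
  have hfull : ∀ o ∈ Δ, o ≠ none → {t ∈ I | t • pt m none = pt m o}.ncard = Nat.card μ := by
    intro o ho hon
    refine le_antisymm ((hfibY o hon).trans (hDcard o hon)) ?_
    by_contra hlt
    push Not at hlt
    have hsum : I.ncard < ∑ _o : Δ, Nat.card μ := by
      rw [hsplit]
      refine Finset.sum_lt_sum (fun o' _ => ?_) ⟨⟨o, ho⟩, Finset.mem_univ _, hlt⟩
      by_cases h : (o' : Option (F × F)) = none
      · rw [h]; exact hnone_le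
      · exact (hfibY _ h).trans (hDcard _ h)
    rw [Finset.sum_const, Finset.card_univ, smul_eq_mul, ← Nat.card_eq_fintype_card, Nat.card_coe_set_eq, ← hI] at hsum
    exact lt_irrefl _ hsum
  have hpts : ∀ x y, some (x, y) ∈ Δ → uS hS x y ∈ M' := by
    intro x y hxy
    obtain ⟨f, hf, hfd⟩ := hDle (some (x, y)) (Option.some_ne_none _)
    have hDeq : (D (some (x, y))).ncard = Nat.card μ := le_antisymm (hDcard _ (Option.some_ne_none _))
      ((hfull _ hxy (Option.some_ne_none _)).symm.le.trans (hfibY _ (Option.some_ne_none _)))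
    have hbij : Function.Bijective f := by
      rw [Nat.bijective_iff_injective_and_card, Nat.card_coe_set_eq]
      exact ⟨hf, hDeq⟩
    obtain ⟨d, hd⟩ := hbij.2 ζ
    obtain ⟨u, hu, hdu⟩ := hfd d
    rw [hd] at hdu
    obtain ⟨v, hv, hve⟩ := exists_conj_torus hS M' hu.2 hζ1 hu.1 hζM
    have hfix : hTor hS (ζ : Fˣ) • (v⁻¹ • pt m (some (x, y))) = v⁻¹ • pt m (some (x, y)) := by
      have h3 := d.2.2.2
      rw [hdu, ← hve, mul_smul, mul_smul] at h3
      exact eq_inv_smul_iff.2 h3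
    obtain ⟨a, b, rfl⟩ := (mem_unip hS).1 hv.2
    obtain ⟨o, ho⟩ := exists_pt_smul hS (uS hS a b)⁻¹ (some (x, y))
    rw [ho] at hfix
    rcases eq_one_or_of_fix hS hζ1 hfix with rfl | rfl
    · rw [inv_smul_eq_iff] at ho
      exact absurd (pt_injective (m := m) (ho.trans (show uS hS a b • pt m (none : Option (F × F)) = pt m none from uS_inf hS a b))) (Option.some_ne_none _)
    · rw [inv_smul_eq_iff, uS_pt_zero] at ho
      have h4 := Option.some.inj (pt_injective ho)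
      simp only [Prod.mk.injEq] at h4
      rw [h4.1, h4.2]; exact hv.1
  -- the exchanging element
  have h0Δ : some ((0 : F), (0 : F)) ∈ Δ := by
    obtain ⟨g, hg, hgb⟩ : ∃ g ∈ M', g ∉ borel m F := by
      refine ⟨v₀⁻¹ * g₀ * v₀, by rw [hmem', show v₀ * (v₀⁻¹ * g₀ * v₀) * v₀⁻¹ = g₀ by group]; exact hg₀M, fun h => hg₀ ?_⟩
      have := mul_mem (mul_mem (unip_le_borel hS hv₀) h) (inv_mem (unip_le_borel hS hv₀))
      rwa [show v₀ * (v₀⁻¹ * g₀ * v₀) * v₀⁻¹ = g₀ by group] at this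
    obtain ⟨o, ho⟩ := exists_pt_smul hS g none
    rcases o with _ | ⟨x, y⟩
    · exact absurd ho hgb
    refine ⟨(uS hS x y)⁻¹ * g, mul_mem (inv_mem (hpts x y ⟨g, hg, ho⟩)) hg, ?_⟩
    rw [mul_smul, ho, inv_smul_eq_iff, uS_pt_zero]
  obtain ⟨t, ⟨htM, ht2⟩, ht0⟩ : {t ∈ I | t • pt m none = pt m (some ((0 : F), (0 : F)))}.Nonempty := by
    rw [← Set.ncard_pos, hfull _ h0Δ (Option.some_ne_none _)]
    exact Nat.card_pos
  obtain ⟨l, hl⟩ := fix_two hS (g := wS hS * t)
    (by rw [mul_smul]; exact (congrArg _ ht0).trans (wS_zero hS))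
    (by
      rw [mul_smul, show t • pt m (some ((0 : F), (0 : F))) = pt m none by
        rw [← ht0, ← mul_smul, ← sq, ← ht2, pow_orderOf_eq_one, one_smul]]
      exact wS_inf hS)
  have htl : t = wS hS * hTor hS l := by rw [← hl, ← mul_assoc, wS_sq, one_mul]
  have hl' : l ∈ μ ∧ ∃ a ∈ W, a ≠ 0 ∧ ∃ b, uS hS a b ∈ M' := by
    have hx0 : th m (l : F) ≠ 0 := th_ne_zero l.ne_zero
    have hf : fo m (0 : F) (th m (l : F)) ≠ 0 := fun e => hx0 (fo_eq_zero hS e).2
    have hmove : (t * uS hS 0 1 * t) • pt m none =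
        pt m (some (th m (l : F) / fo m (0 : F) (th m (l : F)), 0 / fo m (0 : F) (th m (l : F)))) := by
      rw [mul_smul, mul_smul, ht0, uS_pt_zero, htl, mul_smul, hTor_pt, mul_zero, mul_one]
      exact wEl_pt hS hf
    have h1 := hpts _ _ ⟨_, mul_mem (mul_mem htM h01M') htM, hmove⟩
    have h2 := hA' _ _ h1
    have h2' : th m (l : F) / th m (th m (l : F)) ∈ W := by
      have e : fo m (0 : F) (th m (l : F)) = th m (th m (l : F)) := by simp [fo, th_zero]
      rwa [e] at h2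
    refine ⟨hμconv l (closed_preimage (W : Set F) (fun x y h => th_inj hS h) hWth
      (closed_preimage (W : Set F) (div_th_injective hS) (fun x hx => ?_) h2')), _, h2, div_ne_zero hx0 hf, _, h1⟩
    rw [div_eq_mul_inv]; exact hWmul _ hx _ (hWinv _ (hWth x hx))
  obtain ⟨hlμ, a₁, ha₁, ha₁0, b₁, hab₁⟩ := hl'
  have hwM : wS hS ∈ M' := by
    have := mul_mem htM (inv_mem (hμM l hlμ))
    rwa [htl, mul_inv_cancel_right] at this
  have hmulmem : ∀ a ∈ W, a ≠ 0 → ∃ z ∈ μ, par m (z : F) = a := by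
    intro a ha ha0
    obtain ⟨z, hz⟩ := exists_par hS (m := m) (Units.mk0 a ha0)
    rw [Units.val_mk0] at hz
    refine ⟨z, hμconv z (closed_preimage (W : Set F) (fun x y h => th_inj hS h) hWth ?_), hz⟩
    rw [← th_par hS z, hz]; exact hWsq a ha
  obtain ⟨e, he⟩ : ∃ e, uS hS 1 e ∈ M' := by
    obtain ⟨z, hz, hze⟩ := hmulmem a₁⁻¹ (hWinv _ ha₁) (inv_ne_zero ha₁0)
    refine ⟨th m (z : F) * b₁, ?_⟩
    have := mul_mem (mul_mem (hμM z hz) hab₁) (inv_mem (hμM z hz))
    rwa [hTor_conj, hze, inv_mul_cancel₀ ha₁0] at this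
  have hline : ∀ a ∈ W, uS hS a (e * (th m a * a)) ∈ M' := by
    intro a ha
    by_cases ha0 : a = 0
    · rw [ha0, th_zero, zero_mul, mul_zero, uS_zero]; exact one_mem M'
    obtain ⟨z, hz, hze⟩ := hmulmem a ha ha0
    have := mul_mem (mul_mem (hμM z hz) he) (inv_mem (hμM z hz))
    rw [hTor_conj, ← th_par hS z, hze, mul_one] at this
    rwa [mul_comm e]
  have heW : e ∈ W := by
    obtain ⟨c, hc, hc0⟩ : ∃ c ∈ W, th m c + c ≠ 0 := by
      refine ⟨w₀, hw₀, fun h => ?_⟩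
      rcases th_fixed hS (m := m) (show th m w₀ = w₀ by linear_combination h - w₀ * two hS) with h' | h'
      · exact hw00 h'
      · exact hw01 h'
    have h := mul_mem (mul_mem (hline 1 h1W) (hline c hc)) (inv_mem (hline (1 + c) (W.add_mem h1W hc)))
    rw [uS_inv, uS_mul, uS_mul] at h
    have h' : e * (th m c + c) + c ∈ W := by
      rw [← hZ']
      convert h using 2
      · linear_combination (-(1 + c)) * two hS
      · simp only [th_add hS, th_one]
        linear_combination (-(1 + c) * (1 + th m c) - e - e * (th m c * c)) * two hS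
    have h'' : e * (th m c + c) ∈ W := by
      have := W.sub_mem h' hc
      rwa [add_sub_cancel_right] at this
    have := hWmul _ h'' _ (hWinv _ (W.add_mem (hWth c hc) hc))
    rwa [mul_assoc, mul_inv_cancel₀ hc0, mul_one] at this
  have hUiff : ∀ a b, uS hS a b ∈ M' ↔ a ∈ W ∧ b ∈ W := by
    have hmk : ∀ a ∈ W, ∀ b ∈ W, uS hS a b ∈ M' := by
      intro a ha b hb
      have h := mul_mem (hline a ha) ((hZ' (b + e * (th m a * a))).2 (W.add_mem hb (hWmul _ heW _ (hWsq a ha))))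
      rw [uS_mul, add_zero, mul_zero, add_zero] at h
      convert h using 2
      linear_combination (-(e * (th m a * a))) * two hS
    intro a b
    refine ⟨fun h => ⟨hA' a b h, ?_⟩, fun ⟨ha, hb⟩ => hmk a ha b hb⟩
    have := mul_mem (inv_mem (hmk a (hA' a b h) 0 W.zero_mem)) h
    rw [uS_inv, uS_mul, zero_add] at this
    rw [← hZ']
    convert this using 2
    · linear_combination (-a) * two hS
    · linear_combination (-(th m a * a)) * two hS
  refine ⟨v₀⁻¹, k, hk1, hk ▸ hdvd, (W : Set F), ?_, hk ▸ hWpow, fun x => ?_⟩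
  · rw [← hk, ← hn, ← Nat.card_eq_fintype_card, ← Nat.card_coe_set_eq]; rfl
  show x ∈ M' ↔ _
  constructor
  · intro hx
    by_cases hxb : x ∈ borel m F
    · obtain ⟨a, b, z, rfl⟩ := borel_eq hS hxb
      obtain ⟨hz, hab⟩ := hB' a b z hx
      exact Or.inl ⟨a, ((hUiff a b).1 hab).1, b, ((hUiff a b).1 hab).2, z, hμ' z hz, rfl⟩
    · obtain ⟨a, b, kk, hkk, rfl⟩ := big_cell hS hxb
      have hab : uS hS a b ∈ M' := hpts a b ⟨_, hx, by
        rw [mul_smul, mul_smul, show kk • pt m none = pt m none from hkk]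
        rw [show pt m none = suzukiPointInfinity F from rfl, wS_inf, uS_pt_zero]⟩
      obtain ⟨c, d, z, rfl⟩ := borel_eq hS hkk
      have hkM : uS hS c d * hTor hS z ∈ M' := by
        have := mul_mem (inv_mem (mul_mem hab hwM)) hx
        rwa [inv_mul_cancel_left] at this
      obtain ⟨hz, hcd⟩ := hB' c d z hkM
      exact Or.inr ⟨a, ((hUiff a b).1 hab).1, b, ((hUiff a b).1 hab).2, c, ((hUiff c d).1 hcd).1, d,
        ((hUiff c d).1 hcd).2, z, hμ' z hz, rfl⟩
  · rintro (⟨a, ha, b, hb, z, hz, rfl⟩ | ⟨a, ha, b, hb, c, hc, d, hd, z, hz, rfl⟩)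
    · exact mul_mem ((hUiff a b).2 ⟨ha, hb⟩) (hμM z (hμconv z hz))
    · exact mul_mem (mul_mem ((hUiff a b).2 ⟨ha, hb⟩) hwM)
        (mul_mem ((hUiff c d).2 ⟨hc, hd⟩) (hμM z (hμconv z hz)))

omit hS in
theorem ι_th {K : Type*} [Field K] [Fintype K] {k : ℕ} (hK : SzField K k) (hd : 2 * k + 1 ∣ 2 * m + 1)
    (ι : K →+* F) (x : K) : ι (th k x) = th m (ι x) := by
  obtain ⟨d, hd⟩ := hd
  obtain ⟨j, hj⟩ : Odd d := Odd.of_dvd_nat (odd_two_mul_add_one m) (hd ▸ dvd_mul_left _ _)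
  have hm : m + 1 = (k + 1) + (2 * k + 1) * j := by rw [hj] at hd; nlinarith
  show ι (x ^ (2 ^ (k + 1))) = ι x ^ (2 ^ (m + 1))
  rw [show (2 : ℕ) ^ (m + 1) = 2 ^ (k + 1) * (2 ^ (2 * k + 1)) ^ j by rw [hm, pow_add, pow_mul], pow_mul (ι x),
    ← map_pow, ← map_pow, ← hK.card, FiniteField.pow_card_pow]

theorem exists_embedding {K : Type*} [Field K] [Fintype K] {k : ℕ} (hK : SzField K k)
    (hd : 2 * k + 1 ∣ 2 * m + 1) : Nonempty (K →+* F) := by
  haveI := charP hS
  haveI := charP hK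
  haveI : Fact (Nat.Prime 2) := ⟨Nat.prime_two⟩
  letI := ZMod.algebra F 2
  letI := ZMod.algebra K 2
  have hf : ∀ (L : Type _) [Field L] [Fintype L] [Algebra (ZMod 2) L] (n : ℕ), Fintype.card L = 2 ^ n →
      Module.finrank (ZMod 2) L = n := by
    intro L _ _ _ n h
    have h' := Module.card_eq_pow_finrank (K := ZMod 2) (V := L)
    rw [ZMod.card, h] at h'
    exact (Nat.pow_right_injective le_rfl h').symm
  have h1 : Module.finrank (ZMod 2) K = 2 * k + 1 := by
    have h' := Module.card_eq_pow_finrank (K := ZMod 2) (V := K)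
    rw [ZMod.card, hK.card] at h'
    exact (Nat.pow_right_injective le_rfl h').symm
  obtain ⟨f⟩ := FiniteField.nonempty_algHom_of_finrank_dvd (F := ZMod 2) (K := K) (L := F)
    (by rw [h1, hf F _ hS.card]; exact hd)
  exact ⟨f.toRingHom⟩

/-- The defining data of a subfield subgroup. -/
def SubfieldForm (M : Subgroup Gp) (k : ℕ) : Prop :=
  ∃ g : Gp, ∃ W : Set F, W.ncard = 2 ^ (2 * k + 1) ∧ (∀ x ∈ W, x ^ (2 ^ (2 * k + 1)) = x) ∧
    ∀ x, x ∈ M.map (MulAut.conj g).toMonoidHom ↔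
      ((∃ a ∈ W, ∃ b ∈ W, ∃ z : Fˣ, (z : F) ∈ W ∧ x = uS hS a b * hTor hS z) ∨
        (∃ a ∈ W, ∃ b ∈ W, ∃ c ∈ W, ∃ d ∈ W, ∃ z : Fˣ, (z : F) ∈ W ∧
          x = uS hS a b * wS hS * (uS hS c d * hTor hS z)))

theorem map_conj_map_conj (M : Subgroup Gp) (g h : Gp) :
    (M.map (MulAut.conj h).toMonoidHom).map (MulAut.conj g).toMonoidHom = M.map (MulAut.conj (g * h)).toMonoidHom := by
  rw [Subgroup.map_map]
  congr 1
  refine MonoidHom.ext fun x => ?_
  show (g * (h * x * h⁻¹) * g⁻¹ : Gp) = g * h * x * (g * h)⁻¹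
  group

theorem exists_subfieldForm (M : Subgroup Gp) (hM : ¬ Group.IsSolvable M) :
    ∃ k, 1 ≤ k ∧ 2 * k + 1 ∣ 2 * m + 1 ∧ SubfieldForm hS M k := by
  classical
  obtain ⟨x, hxM, hx2⟩ := exists_involution hS M hM
  obtain ⟨c, hc⟩ := isConj_iff.1 (exists_conj_of_order_two hS hx2)
  set M₁ := M.map (MulAut.conj c⁻¹).toMonoidHom with hM₁
  have hM₁' : ¬ Group.IsSolvable M₁ := fun h => hM (by
    haveI := h
    exact Group.isSolvable_of_surjective
      (f := (M.equivMapOfInjective (MulAut.conj c⁻¹).toMonoidHom (MulAut.conj c⁻¹).injective).symm.toMonoidHom)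
      (M.equivMapOfInjective (MulAut.conj c⁻¹).toMonoidHom (MulAut.conj c⁻¹).injective).symm.surjective)
  have h01 : uS hS 0 1 ∈ M₁ := ⟨x, hxM, by
    show c⁻¹ * x * c⁻¹⁻¹ = _
    rw [← hc]; group⟩
  obtain ⟨g, k, hk1, hkd, W, hWc, hWp, hW⟩ := insoluble_normal_form hS M₁ hM₁' h01
  rw [hM₁, map_conj_map_conj hS] at hW
  exact ⟨k, hk1, hkd, g * c⁻¹, W, hWc, hWp, hW⟩

theorem SubfieldForm.eq_range {M : Subgroup Gp} {k : ℕ} (h : SubfieldForm hS M k)
    {K : Type*} [Field K] [Fintype K] (hK : SzField K k) (ι : K →+* F) (hι : ∀ x, ι (th k x) = th m (ι x)) :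
    ∃ g, M = (fieldHom hS hK ι hι).range.map (MulAut.conj g).toMonoidHom := by
  classical
  obtain ⟨g, W, hWc, hWp, hW⟩ := h
  have hrange : Set.range ι = W := by
    symm
    refine Set.eq_of_subset_of_ncard_le ?_ ?_ (Set.toFinite _)
    · intro y hy
      have hsub : Set.range ι ⊆ {y : F | y ^ (2 ^ (2 * k + 1)) = y} := by
        rintro _ ⟨a, rfl⟩
        show ι a ^ _ = ι a
        rw [← map_pow, ← hK.card, FiniteField.pow_card]
      have hle : {y : F | y ^ (2 ^ (2 * k + 1)) = y}.ncard ≤ 2 ^ (2 * k + 1) := by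
        have hs : {y : F | y ^ (2 ^ (2 * k + 1)) = y} ⊆
            ((Polynomial.X ^ (2 ^ (2 * k + 1)) - Polynomial.X : Polynomial F).roots.toFinset : Set F) := by
          intro y hy
          have h1 : 1 < 2 ^ (2 * k + 1) := Nat.one_lt_two_pow (by omega)
          rw [Finset.mem_coe, Multiset.mem_toFinset, Polynomial.mem_roots (FiniteField.X_pow_card_sub_X_ne_zero F h1)]
          simp only [Polynomial.IsRoot, Polynomial.eval_sub, Polynomial.eval_pow, Polynomial.eval_X]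
          exact sub_eq_zero.2 hy
        refine (Set.ncard_le_ncard hs (Finset.finite_toSet _)).trans ?_
        rw [Set.ncard_coe_finset]
        exact (Multiset.toFinset_card_le _).trans ((Polynomial.card_roots' _).trans
          (le_of_eq (FiniteField.X_pow_card_sub_X_natDegree_eq F (Nat.one_lt_two_pow (by omega)))))
      have he := Set.eq_of_subset_of_ncard_le hsub (by
        rw [← Nat.card_coe_set_eq (Set.range ι), Nat.card_range_of_injective ι.injective, Nat.card_eq_fintype_card,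
          hK.card]
        exact hle) (Set.toFinite _)
      rw [he]; exact hWp y hy
    · rw [← Nat.card_coe_set_eq (Set.range ι), Nat.card_range_of_injective ι.injective, Nat.card_eq_fintype_card,
        hK.card, hWc]
  have hS₂ : (fieldHom hS hK ι hι).range = M.map (MulAut.conj g).toMonoidHom := by
    ext y
    rw [hW, ← hrange]
    constructor
    · rintro ⟨y, rfl⟩
      by_cases hy : y ∈ borel k K
      · obtain ⟨a, b, z, rfl⟩ := borel_eq hK hy
        exact Or.inl ⟨_, ⟨a, rfl⟩, _, ⟨b, rfl⟩, Units.map ι.toMonoidHom z, ⟨(z : K), rfl⟩,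
          by rw [map_mul, fieldHom_uS, fieldHom_hTor]⟩
      · obtain ⟨a, b, l, hl, rfl⟩ := big_cell hK hy
        obtain ⟨c', d', z, rfl⟩ := borel_eq hK hl
        exact Or.inr ⟨_, ⟨a, rfl⟩, _, ⟨b, rfl⟩, _, ⟨c', rfl⟩, _, ⟨d', rfl⟩, Units.map ι.toMonoidHom z, ⟨(z : K), rfl⟩,
          by simp only [map_mul, fieldHom_uS, fieldHom_hTor, fieldHom_wS]⟩
    · have hz : ∀ z : Fˣ, (z : F) ∈ Set.range ι → ∃ z' : Kˣ, Units.map ι.toMonoidHom z' = z := by
        rintro z ⟨z', hz'⟩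
        exact ⟨Units.mk0 z' (fun e => z.ne_zero (by rw [← hz', e, map_zero])), Units.ext hz'⟩
      rintro (⟨_, ⟨a, rfl⟩, _, ⟨b, rfl⟩, z, hzW, rfl⟩ |
        ⟨_, ⟨a, rfl⟩, _, ⟨b, rfl⟩, _, ⟨c', rfl⟩, _, ⟨d', rfl⟩, z, hzW, rfl⟩)
      · obtain ⟨z', rfl⟩ := hz z hzW
        exact ⟨uS hK a b * hTor hK z', by rw [map_mul, fieldHom_uS, fieldHom_hTor]⟩
      · obtain ⟨z', rfl⟩ := hz z hzW
        exact ⟨uS hK a b * wS hK * (uS hK c' d' * hTor hK z'), by
          simp only [map_mul, fieldHom_uS, fieldHom_hTor, fieldHom_wS]⟩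
  refine ⟨g⁻¹, ?_⟩
  rw [hS₂, map_conj_map_conj hS, inv_mul_cancel, map_one]
  exact (Subgroup.map_id M).symm

end Cfsg.Agent.Suz
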