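import Cfsg.Agent.Lib.Lie.Sz.Subgroups
import Mathlib.FieldTheory.Finite.GaloisField

/-! The maximal subgroups and the subfield subgroups of the Suzuki group. -/

set_option autoImplicit false

namespace Cfsg.Agent.Suz

open scoped Pointwise

variable {F : Type*} [Field F] {m : ℕ} [Fintype F] (hS : SzField F m)
include hS

local notation3 "Gp" => ↥(Cfsg.Sz F m)

theorem not_solvable : ¬ Group.IsSolvable Gp := by
  intro h
  haveI := isSimple hS
  have hc := (IsSimpleGroup.comm_iff_isSolvable (G := Gp)).2 h (uS hS 0 1) (wS hS)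
  have h' := congrArg (· • suzukiPointInfinity F) hc
  simp only [mul_smul, wS_inf, uS_inf, uS_pt_zero] at h'
  have := pt_injective (m := m) h'
  simp at this

omit hS in
theorem card_strictMono {k l : ℕ}
    (h : (2 ^ (2 * k + 1)) ^ 2 * ((2 ^ (2 * k + 1)) ^ 2 + 1) * (2 ^ (2 * k + 1) - 1) =
      (2 ^ (2 * l + 1)) ^ 2 * ((2 ^ (2 * l + 1)) ^ 2 + 1) * (2 ^ (2 * l + 1) - 1)) : k = l := by
  have key : ∀ a b : ℕ, a < b → (2 ^ (2 * a + 1)) ^ 2 * ((2 ^ (2 * a + 1)) ^ 2 + 1) * (2 ^ (2 * a + 1) - 1) <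
      (2 ^ (2 * b + 1)) ^ 2 * ((2 ^ (2 * b + 1)) ^ 2 + 1) * (2 ^ (2 * b + 1) - 1) := by
    intro a b hab
    have h1 : 2 ^ (2 * a + 1) < 2 ^ (2 * b + 1) := Nat.pow_lt_pow_right (by omega) (by omega)
    have h2 : 2 ≤ 2 ^ (2 * a + 1) := le_self_pow (by omega) (by omega)
    have h3 : (2 ^ (2 * a + 1)) ^ 2 < (2 ^ (2 * b + 1)) ^ 2 := Nat.pow_lt_pow_left h1 two_ne_zero
    refine Nat.mul_lt_mul'' (Nat.mul_lt_mul'' h3 (by omega)) (by omega)
  rcases lt_trichotomy k l with h' | h' | h'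
  · exact absurd h (key k l h').ne
  · exact h'
  · exact absurd h (key l k h').ne'

theorem subfield_subgroups {K : Type*} [Field K] [Fintype K] {k : ℕ} (hK : SzField K k)
    (hd : 2 * k + 1 ∣ 2 * m + 1) :
    (∃ S : Subgroup Gp, Nonempty (↥S ≃* ↥(Cfsg.Sz K k))) ∧
      ∀ S₁ S₂ : Subgroup Gp, Nonempty (↥S₁ ≃* ↥(Cfsg.Sz K k)) → Nonempty (↥S₂ ≃* ↥(Cfsg.Sz K k)) →
        ∃ g, S₂ = S₁.map (MulAut.conj g).toMonoidHom := by
  obtain ⟨ι⟩ := exists_embedding hS hK hd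
  have hι := ι_th (m := m) hK hd ι
  refine ⟨⟨_, ⟨(MonoidHom.ofInjective (fieldHom_injective hS hK ι hι)).symm⟩⟩, ?_⟩
  have key : ∀ S : Subgroup Gp, Nonempty (↥S ≃* ↥(Cfsg.Sz K k)) →
      ∃ g, S = (fieldHom hS hK ι hι).range.map (MulAut.conj g).toMonoidHom := by
    rintro S ⟨e⟩
    have hns : ¬ Group.IsSolvable S := fun h => not_solvable hK (by
      haveI := h
      exact Group.isSolvable_of_surjective (f := e.toMonoidHom) e.surjective)
    obtain ⟨k', hk'1, hk'd, hform⟩ := exists_subfieldForm hS S hns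
    let K' := GaloisField 2 (2 * k' + 1)
    letI : Fintype K' := Fintype.ofFinite _
    have hK' : SzField K' k' := ⟨hk'1, by rw [← Nat.card_eq_fintype_card]; exact GaloisField.card 2 _ (by omega)⟩
    obtain ⟨ι'⟩ := exists_embedding hS hK' hk'd
    obtain ⟨g, hg⟩ := hform.eq_range hS hK' ι' (ι_th (m := m) hK' hk'd ι')
    have hkk : k = k' := by
      refine card_strictMono ?_
      rw [← card_Sz hK, ← card_Sz hK', ← Nat.card_congr e.toEquiv, hg,
        Subgroup.card_map_of_injective (MulAut.conj g).injective]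
      exact Nat.card_congr (MonoidHom.ofInjective (fieldHom_injective hS hK' ι' (ι_th (m := m) hK' hk'd ι'))).symm.toEquiv
    subst hkk
    exact hform.eq_range hS hK ι hι
  intro S₁ S₂ h₁ h₂
  obtain ⟨g₁, hg₁⟩ := key S₁ h₁
  obtain ⟨g₂, hg₂⟩ := key S₂ h₂
  refine ⟨g₂ * g₁⁻¹, ?_⟩
  rw [hg₁, hg₂, Subgroup.map_map]
  congr 1
  refine MonoidHom.ext fun x => ?_
  show g₂ * x * g₂⁻¹ = ((g₂ * g₁⁻¹) * (g₁ * x * g₁⁻¹) * (g₂ * g₁⁻¹)⁻¹ : Gp)
  group

theorem maximal_subgroups (M : Subgroup Gp) (hM : M ≠ ⊤) :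
    (∃ P : Sylow 2 Gp, M ≤ Subgroup.normalizer ((P : Subgroup Gp) : Set Gp)) ∨
    (∃ U : Subgroup Gp, IsCyclic ↥U ∧ Nat.card ↥U ∈ torusOrders m ∧ M ≤ Subgroup.normalizer (U : Set Gp)) ∨
    (∃ (K : Type) (_ : Field K) (_ : Fintype K) (k : ℕ), 1 ≤ k ∧ k < m ∧ Fintype.card K = 2 ^ (2 * k + 1) ∧
      2 * k + 1 ∣ 2 * m + 1 ∧ ∃ S : Subgroup Gp, Nonempty (↥S ≃* ↥(Cfsg.Sz K k)) ∧ M ≤ S) := by
  haveI : Fact (Nat.Prime 2) := ⟨Nat.prime_two⟩
  by_cases hsol : Group.IsSolvable M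
  · rcases solvable_cases hS M hsol with ⟨o, ho⟩ | ⟨T, hT, hle⟩
    · left
      obtain ⟨c, hc⟩ := (orbit_inf hS).symm ▸ (mem_ovoid_iff (m := m) (p := pt m o)).2 ⟨o, rfl⟩
      refine ⟨c • sylowU hS, fun k hk => ?_⟩
      show k ∈ Subgroup.normalizer ((((unip hS).map (MulAut.conj c).toMonoidHom : Subgroup Gp)) : Set Gp)
      rw [mem_normalizer_map hS, normalizer_unip hS]
      show (c⁻¹ * k * c) • suzukiPointInfinity F = suzukiPointInfinity F
      rw [mul_smul, mul_smul, show c • suzukiPointInfinity F = pt m o from hc, ho k hk, inv_smul_eq_iff]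
      exact hc.symm
    · exact Or.inr (Or.inl ⟨T, hT.cyc, hT.card, hle⟩)
  · right; right
    obtain ⟨k, hk1, hkd, hform⟩ := exists_subfieldForm hS M hsol
    let K := GaloisField 2 (2 * k + 1)
    letI : Fintype K := Fintype.ofFinite _
    have hK : SzField K k := ⟨hk1, by rw [← Nat.card_eq_fintype_card]; exact GaloisField.card 2 _ (by omega)⟩
    obtain ⟨ι⟩ := exists_embedding hS hK hkd
    obtain ⟨g, hg⟩ := hform.eq_range hS hK ι (ι_th (m := m) hK hkd ι)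
    have e : ↥M ≃* ↥(Cfsg.Sz K k) := (MulEquiv.subgroupCongr hg).trans
      ((Subgroup.equivMapOfInjective _ _ (MulAut.conj g).injective).symm.trans
        (MonoidHom.ofInjective (fieldHom_injective hS hK ι (ι_th (m := m) hK hkd ι))).symm)
    refine ⟨K, inferInstance, inferInstance, k, hk1, ?_, hK.card, hkd, M, ⟨e⟩, le_rfl⟩
    have hle := Nat.le_of_dvd (by omega) hkd
    refine lt_of_le_of_ne (by omega) fun hkm => hM ?_
    subst hkm
    refine Subgroup.eq_top_of_card_eq _ ?_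
    rw [Nat.card_congr e.toEquiv, card_Sz hK, card_Sz hS]

end Cfsg.Agent.Suz
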