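import Cfsg.Agent.Lib.Lie.Sz.Classes
import Cfsg.Agent.Lib.Lie.Sz.LieEquiv

/-! A fixed-point-free element generates a field of degree four inside the matrix algebra. -/

set_option autoImplicit false

namespace Cfsg.Agent.Suz

open Matrix Polynomial

variable {F : Type*} [Field F] {m : ℕ} [Fintype F] (hS : SzField F m)

/-- The underlying matrix. -/
def mat (g : ↥(Cfsg.Sz F m)) : Matrix (Fin 4) (Fin 4) F := ((g : SpecialLinearGroup (Fin 4) F) : Matrix (Fin 4) (Fin 4) F)

omit [Fintype F] in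
theorem mat_mul (g h : ↥(Cfsg.Sz F m)) : mat (g * h) = mat g * mat h := rfl

omit [Fintype F] in
theorem mat_one : mat (1 : ↥(Cfsg.Sz F m)) = 1 := rfl

omit [Fintype F] in
theorem mat_injective : Function.Injective (mat : ↥(Cfsg.Sz F m) → Matrix (Fin 4) (Fin 4) F) :=
  fun _ _ h => Subtype.ext (Subtype.ext h)

omit [Fintype F] in
theorem mat_pow (g : ↥(Cfsg.Sz F m)) (k : ℕ) : mat (g ^ k) = mat g ^ k := by
  induction k with
  | zero => rw [pow_zero, pow_zero, mat_one]
  | succ k ih => rw [pow_succ, pow_succ, mat_mul, ih]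

/-- The characteristic polynomial attached to a trace. -/
noncomputable def szPoly (m : ℕ) (t : F) : F[X] :=
  X ^ 4 + C t * X ^ 3 + C (th m t) * X ^ 2 + C t * X + 1

include hS

theorem charpoly_mat (g : ↥(Cfsg.Sz F m)) : (mat g).charpoly = szPoly m (mat g).trace := by
  haveI := charP hS
  obtain ⟨hsp, hstar⟩ := SzFix.mem_Sz_spec (toGL_mem hS g)
  have hcoe : ((SpecialLinearGroup.toGL g.1 : GL (Fin 4) F) : Matrix (Fin 4) (Fin 4) F) = mat g := rfl
  have hdet : (mat g).det = 1 := g.1.2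
  have he2 : SzFix.e2 (mat g) = th m (mat g).trace := by
    have h := SzFix.trace_star4 hsp
    rw [hstar, hcoe] at h
    rw [← h, th, ← iterateFrobenius_def, Matrix.trace, Matrix.trace, map_sum]
    rfl
  have hadj : (mat g).adjugate.trace = (mat g).trace := by
    have h1 := SzFix.J_inv hsp
    have h2 : (((SpecialLinearGroup.toGL g.1)⁻¹ : GL (Fin 4) F) : Matrix (Fin 4) (Fin 4) F) = (mat g).adjugate := by
      rw [← map_inv]; rfl
    rw [← h2, h1, hcoe, Matrix.trace_mul_cycle]
    have hJJ : (SzFix.J : Matrix (Fin 4) (Fin 4) F) * SzFix.J = 1 := by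
      ext i j; fin_cases i <;> fin_cases j <;> simp [SzFix.J, Matrix.mul_apply, Fin.sum_univ_four]
    rw [hJJ, one_mul, Matrix.trace_transpose]
  rw [SzFix.charpoly_four, hdet, he2, hadj, szPoly, map_one]
  simp only [CharTwo.sub_eq_add]

theorem no_fixed_vector {g : ↥(Cfsg.Sz F m)} (hg : FPF m g) {v : Fin 4 → F} (hv : v ≠ 0) :
    mat g *ᵥ v ≠ v := by
  intro h
  haveI := charP hS
  refine hg.ne_one ?_
  have hodd : Odd (orderOf (SpecialLinearGroup.toGL g.1 : GL (Fin 4) F)) := by
    rw [orderOf_injective _ SpecialLinearGroup.toGL_injective, Subgroup.orderOf_coe]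
    exact (dvd_coprime (FPF.orderOf_dvd hS hg)).1
  have h1 := SzFix.eq_one_of_fixed (toGL_mem hS g) hodd hv h
  exact Subtype.ext (SpecialLinearGroup.toGL_injective (h1.trans (map_one _).symm))

theorem root_order {g : ↥(Cfsg.Sz F m)} (hg : FPF m g) {K : Type*} [Field K] [Algebra F K] {l : K}
    (hl : aeval l (minpoly F (mat g)) = 0) :
    l ≠ 1 ∧ orderOf l ∣ (2 ^ (2 * m + 1)) ^ 2 + 1 := by
  constructor
  · rintro rfl
    have h1 : aeval (algebraMap F K 1) ((mat g).charpoly) = 0 := by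
      obtain ⟨c, hc⟩ := Matrix.minpoly_dvd_charpoly (mat g)
      rw [map_one, hc, map_mul, hl, zero_mul]
    rw [aeval_algebraMap_apply, map_eq_zero_iff _ (algebraMap F K).injective, coe_aeval_eq_eval,
      Matrix.eval_charpoly] at h1
    obtain ⟨v, hv, hv'⟩ := Matrix.exists_mulVec_eq_zero_iff.2 h1
    refine no_fixed_vector hS hg hv ?_
    rw [map_one, Matrix.sub_mulVec, Matrix.one_mulVec, sub_eq_zero] at hv'
    exact hv'.symm
  · refine (orderOf_dvd_of_pow_eq_one ?_).trans (FPF.orderOf_dvd hS hg)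
    have hdvd : minpoly F (mat g) ∣ X ^ orderOf g - 1 := by
      refine minpoly.dvd F _ ?_
      rw [map_sub, map_pow, aeval_X, map_one, ← mat_pow, pow_orderOf_eq_one, mat_one, sub_self]
    obtain ⟨c, hc⟩ := hdvd
    have h1 := congrArg (aeval l) hc
    rw [map_mul, hl, zero_mul, map_sub, map_pow, aeval_X, map_one, sub_eq_zero] at h1
    exact h1

theorem irreducible_charpoly {g : ↥(Cfsg.Sz F m)} (hg : FPF m g) : Irreducible (mat g).charpoly := by
  classical
  have hint : IsIntegral F (mat g) := Matrix.isIntegral _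
  obtain ⟨f, hf, hfm⟩ := WfDvdMonoid.exists_irreducible_factor (minpoly.not_isUnit F (mat g)) (minpoly.ne_zero hint)
  have hfc : f ∣ (mat g).charpoly := hfm.trans (Matrix.minpoly_dvd_charpoly _)
  have hdeg : f.natDegree ≤ 4 := by
    have := natDegree_le_of_dvd hfc (mat g).charpoly_monic.ne_zero
    rwa [Matrix.charpoly_natDegree_eq_dim, Fintype.card_fin] at this
  haveI : Fact (Irreducible f) := ⟨hf⟩
  haveI : Module.Finite F (AdjoinRoot f) := (AdjoinRoot.powerBasis hf.ne_zero).finite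
  haveI : Finite (AdjoinRoot f) := Module.finite_of_finite F
  letI : Fintype (AdjoinRoot f) := Fintype.ofFinite _
  have hK : Fintype.card (AdjoinRoot f) = Fintype.card F ^ f.natDegree := by
    rw [Module.card_eq_pow_finrank (K := F), (AdjoinRoot.powerBasis hf.ne_zero).finrank]
    rfl
  have hroot : aeval (AdjoinRoot.root f) (minpoly F (mat g)) = 0 := by
    rw [AdjoinRoot.aeval_eq, AdjoinRoot.mk_eq_zero]
    exact hfm
  obtain ⟨hl1, hl2⟩ := root_order hS hg hroot
  suffices h4 : f.natDegree = 4 by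
    refine (associated_of_dvd_of_natDegree_le hfc (mat g).charpoly_monic.ne_zero ?_).irreducible hf
    rw [Matrix.charpoly_natDegree_eq_dim, Fintype.card_fin, h4]
  by_contra h4
  have he : f.natDegree ∣ 6 := by
    have := hf.natDegree_pos
    interval_cases f.natDegree <;> omega
  set d := orderOf (AdjoinRoot.root f) with hd
  have hl0 : AdjoinRoot.root f ≠ 0 := by
    intro e
    obtain ⟨k, hk⟩ : ∃ k, (AdjoinRoot.root f) ^ (k + 1) = 1 :=
      ⟨(2 ^ (2 * m + 1)) ^ 2, by
        have := orderOf_dvd_iff_pow_eq_one.1 hl2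
        exact this⟩
    rw [e, zero_pow (Nat.succ_ne_zero k)] at hk
    exact zero_ne_one hk
  have h6 : d ∣ Fintype.card F ^ 6 - 1 := by
    have h1 : d ∣ Fintype.card F ^ f.natDegree - 1 := by
      rw [← hK, hd]
      exact orderOf_dvd_of_pow_eq_one (FiniteField.pow_card_sub_one_eq_one _ hl0)
    exact h1.trans (Nat.pow_sub_one_dvd_pow_sub_one _ he)
  have h4' : d ∣ Fintype.card F ^ 4 - 1 := by
    refine hl2.trans ⟨(Fintype.card F) ^ 2 - 1, ?_⟩
    rw [hS.card, show (2 ^ (2 * m + 1)) ^ 4 = ((2 ^ (2 * m + 1)) ^ 2) ^ 2 by ring, ← Nat.sq_sub_sq,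
      one_pow]
  have h2 := Nat.dvd_gcd h6 h4'
  rw [Nat.pow_sub_one_gcd_pow_sub_one, show Nat.gcd 6 4 = 2 from rfl, hS.card] at h2
  have h3 : d ∣ 2 := by
    have h := Nat.dvd_sub hl2 h2
    have : 1 ≤ (2 ^ (2 * m + 1)) ^ 2 := Nat.one_le_pow _ _ (Nat.two_pow_pos _)
    rwa [show (2 ^ (2 * m + 1)) ^ 2 + 1 - ((2 ^ (2 * m + 1)) ^ 2 - 1) = 2 by omega] at h
  rcases (Nat.dvd_prime Nat.prime_two).1 h3 with e | e
  · exact hl1 (orderOf_eq_one_iff.1 e)
  · have := (dvd_coprime (m := m) hl2).1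
    rw [e] at this
    exact absurd this (by decide)

/-- The field generated by a fixed-point-free element. -/
theorem exists_field {g : ↥(Cfsg.Sz F m)} (hg : FPF m g) :
    Fact (Irreducible (mat g).charpoly) ∧ ∃ φ : AdjoinRoot (mat g).charpoly →ₐ[F] Matrix (Fin 4) (Fin 4) F,
      φ (AdjoinRoot.root _) = mat g ∧ Function.Injective φ ∧
        ∀ B, Commute B (mat g) → ∃ k, φ k = B := by
  classical
  have hf := irreducible_charpoly hS hg
  haveI : Fact (Irreducible (mat g).charpoly) := ⟨hf⟩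
  refine ⟨inferInstance, ?_⟩
  set f := (mat g).charpoly with hfdef
  have hker : ∀ a, a ∈ Ideal.span {f} → aeval (mat g) a = 0 := fun a ha => by
    obtain ⟨c, rfl⟩ := Ideal.mem_span_singleton'.1 ha
    rw [map_mul, hfdef, Matrix.aeval_self_charpoly, mul_zero]
  let φ : AdjoinRoot f →ₐ[F] Matrix (Fin 4) (Fin 4) F := Ideal.Quotient.liftₐ (Ideal.span {f}) (aeval (mat g)) hker
  have hφ : φ (AdjoinRoot.root f) = mat g := (Ideal.Quotient.lift_mk _ _ _).trans (aeval_X _)
  have hinj : Function.Injective φ := φ.toRingHom.injective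
  refine ⟨φ, hφ, hinj, fun B hB => ?_⟩
  haveI : Module.Finite F (AdjoinRoot f) := (AdjoinRoot.powerBasis hf.ne_zero).finite
  haveI : Finite (AdjoinRoot f) := Module.finite_of_finite F
  letI : Fintype (AdjoinRoot f) := Fintype.ofFinite _
  set v : Fin 4 → F := Pi.single 0 1 with hvdef
  have hv : v ≠ 0 := by rw [hvdef]; simp
  have hψ : Function.Injective fun k => φ k *ᵥ v := by
    intro k k' h
    by_contra hne
    have h' : φ (k - k') *ᵥ v = 0 := by
      rw [map_sub, Matrix.sub_mulVec, sub_eq_zero]; exact h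
    have h2 := congrArg (fun w => φ (k - k')⁻¹ *ᵥ w) h'
    simp only [Matrix.mulVec_zero, Matrix.mulVec_mulVec, ← map_mul,
      inv_mul_cancel₀ (sub_ne_zero.2 hne), map_one, Matrix.one_mulVec] at h2
    exact hv h2
  have hbij : Function.Bijective fun k => φ k *ᵥ v := by
    refine (Fintype.bijective_iff_injective_and_card _).2 ⟨hψ, ?_⟩
    rw [Module.card_eq_pow_finrank (K := F), (AdjoinRoot.powerBasis hf.ne_zero).finrank,
      AdjoinRoot.powerBasis_dim, Fintype.card_pi, Finset.prod_const, Finset.card_univ,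
      Fintype.card_fin, hfdef, Matrix.charpoly_natDegree_eq_dim, Fintype.card_fin]
  obtain ⟨k, hk⟩ := hbij.2 (B *ᵥ v)
  refine ⟨k, Matrix.toLin'.injective (LinearMap.ext fun w => ?_)⟩
  obtain ⟨j, rfl⟩ := hbij.2 w
  simp only [Matrix.toLin'_apply, Matrix.mulVec_mulVec]
  have hc : B * φ j = φ j * B := by
    obtain ⟨p, rfl⟩ := AdjoinRoot.mk_surjective j
    have : φ (AdjoinRoot.mk f p) = aeval (mat g) p := Ideal.Quotient.lift_mk _ _ _
    rw [this]
    clear this
    have hp : Commute B (aeval (mat g) p) := by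
      induction p using Polynomial.induction_on' with
      | add a b ha hb => rw [map_add]; exact ha.add_right hb
      | monomial k c =>
        rw [aeval_monomial]
        exact (Algebra.commute_algebraMap_right c B).mul_right (hB.pow_right k)
    exact hp.eq
  rw [hc, ← Matrix.mulVec_mulVec v (φ j) B, ← hk, Matrix.mulVec_mulVec, ← map_mul, ← map_mul, mul_comm]

theorem isCyclic_centralizer {g : ↥(Cfsg.Sz F m)} (hg : FPF m g) :
    IsCyclic (Subgroup.centralizer ({g} : Set ↥(Cfsg.Sz F m))) := by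
  classical
  obtain ⟨hirr, φ, -, hinj, hsurj⟩ := exists_field hS hg
  have hc : ∀ y : Subgroup.centralizer ({g} : Set ↥(Cfsg.Sz F m)), ∃ k, φ k = mat (y : ↥(Cfsg.Sz F m)) :=
    fun y => hsurj _ (by
      show _ = _
      rw [← mat_mul, ← mat_mul, Subgroup.mem_centralizer_singleton_iff.1 y.2])
  choose e he using hc
  let χ : Subgroup.centralizer ({g} : Set ↥(Cfsg.Sz F m)) →* AdjoinRoot (mat g).charpoly :=
    { toFun := e
      map_one' := hinj (by rw [he, map_one, OneMemClass.coe_one, mat_one])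
      map_mul' := fun y y' => hinj (by rw [he, map_mul, he, he, Subgroup.coe_mul, mat_mul]) }
  refine isCyclic_of_subgroup_isDomain χ fun y y' h => Subtype.ext (mat_injective ?_)
  rw [← he y, ← he y', show e y = e y' from h]

theorem FPF.cent {g y : ↥(Cfsg.Sz F m)} (hg : FPF m g)
    (hy : y ∈ Subgroup.centralizer ({g} : Set ↥(Cfsg.Sz F m))) (hy1 : y ≠ 1) :
    Subgroup.centralizer ({y} : Set ↥(Cfsg.Sz F m)) = Subgroup.centralizer {g} := by
  have key : ∀ a b : ↥(Cfsg.Sz F m), FPF m a → b ∈ Subgroup.centralizer ({a} : Set ↥(Cfsg.Sz F m)) →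
      Subgroup.centralizer ({a} : Set ↥(Cfsg.Sz F m)) ≤ Subgroup.centralizer {b} := by
    intro a b ha hb z hz
    haveI := isCyclic_centralizer hS ha
    letI := IsCyclic.commGroup (α := Subgroup.centralizer ({a} : Set ↥(Cfsg.Sz F m)))
    rw [Subgroup.mem_centralizer_singleton_iff]
    exact congrArg Subtype.val (mul_comm (⟨z, hz⟩ : Subgroup.centralizer ({a} : Set ↥(Cfsg.Sz F m))) ⟨b, hb⟩)
  have hcomm : y * g = g * y := Subgroup.mem_centralizer_singleton_iff.1 hy
  refine le_antisymm (key y g (FPF.of_comm hS hg hcomm hy1) ?_) (key g y hg hy)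
  exact Subgroup.mem_centralizer_singleton_iff.2 hcomm.symm

/-- At most four conjugates of a fixed-point-free element commute with it. -/
theorem card_conj_le_four {g : ↥(Cfsg.Sz F m)} (hg : FPF m g) :
    Nat.card {y : ↥(Cfsg.Sz F m) // IsConj g y ∧ y * g = g * y} ≤ 4 := by
  classical
  obtain ⟨hirr, φ, -, hinj, hsurj⟩ := exists_field hS hg
  have hk : ∀ y : {y : ↥(Cfsg.Sz F m) // IsConj g y ∧ y * g = g * y},
      ∃ k, φ k = mat (y : ↥(Cfsg.Sz F m)) ∧ k ∈ (mat g).charpoly.rootSet (AdjoinRoot (mat g).charpoly) := by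
    rintro ⟨y, hy, hc⟩
    obtain ⟨k, hk⟩ := hsurj (mat y) (by show _ = _; rw [← mat_mul, ← mat_mul, hc])
    refine ⟨k, hk, (mem_rootSet.2 ⟨(mat g).charpoly_monic.ne_zero, hinj ?_⟩)⟩
    have htr : (mat y).trace = (mat g).trace := by
      obtain ⟨c, hcy⟩ := isConj_iff.1 hy
      rw [← hcy, mat_mul, Matrix.trace_mul_comm, ← mat_mul, ← mul_assoc, inv_mul_cancel, one_mul]
    rw [map_zero, ← aeval_algHom_apply, hk, charpoly_mat hS g, ← htr, ← charpoly_mat hS y,
      Matrix.aeval_self_charpoly]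
  choose e he using hk
  have hle : Nat.card {y : ↥(Cfsg.Sz F m) // IsConj g y ∧ y * g = g * y} ≤
      Nat.card ((mat g).charpoly.rootSet (AdjoinRoot (mat g).charpoly)) :=
    Nat.card_le_card_of_injective (fun y => (⟨e y, (he y).2⟩ : (mat g).charpoly.rootSet (AdjoinRoot (mat g).charpoly))) fun y y' h => by
      refine Subtype.ext (mat_injective ?_)
      rw [← (he y).1, ← (he y').1, show e y = e y' from congrArg Subtype.val h]
  refine hle.trans ?_
  rw [rootSet_def, Nat.card_coe_set_eq, Set.ncard_coe_finset]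
  refine (Multiset.toFinset_card_le _).trans ((card_roots' _).trans ?_)
  rw [natDegree_map, Matrix.charpoly_natDegree_eq_dim, Fintype.card_fin]

/-- The two possible orders. -/
theorem FPF.orderOf_cases {g : ↥(Cfsg.Sz F m)} (hg : FPF m g) :
    orderOf g ∣ 2 ^ (2 * m + 1) + 2 ^ (m + 1) + 1 ∨ orderOf g ∣ 2 ^ (2 * m + 1) - 2 ^ (m + 1) + 1 := by
  classical
  obtain ⟨hirr, φ, hφ, hinj, -⟩ := exists_field hS hg
  have hpol := fun x : AdjoinRoot (mat g).charpoly => congrArg (aeval x) (charpoly_mat hS g)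
  generalize hfdef : (mat g).charpoly = f at *
  haveI : Module.Finite F (AdjoinRoot f) := (AdjoinRoot.powerBasis hirr.out.ne_zero).finite
  haveI : Finite (AdjoinRoot f) := Module.finite_of_finite F
  haveI := charP hS
  haveI : CharP (AdjoinRoot f) 2 := charP_of_injective_algebraMap (algebraMap F _).injective 2
  haveI : Fact (Nat.Prime 2) := ⟨Nat.prime_two⟩
  set l := AdjoinRoot.root f with hldef
  have hord : orderOf l = orderOf g := by
    rw [← orderOf_injective φ.toMonoidHom hinj l]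
    show orderOf (φ l) = orderOf g
    rw [hφ]
    exact orderOf_injective
      ({ toFun := mat, map_one' := mat_one, map_mul' := mat_mul } : ↥(Cfsg.Sz F m) →* Matrix (Fin 4) (Fin 4) F)
      mat_injective g
  have hn := FPF.orderOf_dvd hS hg
  obtain ⟨hodd, -⟩ := dvd_coprime (m := m) hn
  set q := 2 ^ (2 * m + 1) with hq
  set r := 2 ^ (m + 1) with hr
  rw [← hord] at hn hodd ⊢
  set n := orderOf l with hndef
  have hn1 : n ≠ 1 := by
    rw [hord]; exact fun e => hg.ne_one (orderOf_eq_one_iff.1 e)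
  have hl0 : l ≠ 0 := by
    intro e
    have h := pow_orderOf_eq_one l
    rw [e, zero_pow (by rw [← e]; exact orderOf_pos_iff.1 (by rw [← hndef]; exact Odd.pos hodd) |>.orderOf_pos.ne')] at h
    exact zero_ne_one h
  have hq2 : q ^ 2 - 1 + 2 = q ^ 2 + 1 := by
    have : 1 ≤ q ^ 2 := Nat.one_le_pow _ _ (Nat.two_pow_pos _)
    omega
  have hnq : ¬ n ∣ q ^ 2 - 1 := fun h => by
    have h2 : n ∣ 2 := (Nat.dvd_add_right h).1 (hq2 ▸ hn)
    rcases (Nat.dvd_prime Nat.prime_two).1 h2 with e | e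
    · exact hn1 e
    · rw [e] at hodd; exact absurd hodd (by decide)
  set u := l ^ q with hu
  have hu0 : u ≠ 0 := pow_ne_zero _ hl0
  have hfl : aeval l f = 0 := by rw [AdjoinRoot.aeval_eq, AdjoinRoot.mk_self]
  have hfu : aeval u f = 0 := by
    have h := aeval_algHom_apply (FiniteField.frobeniusAlgHom F (AdjoinRoot f)) l f
    rw [hfl, map_zero] at h
    rwa [FiniteField.coe_frobeniusAlgHom, hS.card] at h
  set t := (mat g).trace with ht
  rw [hpol l] at hfl
  rw [hpol u] at hfu
  simp only [szPoly, map_add, map_mul, map_pow, aeval_X, aeval_C, map_one] at hfl hfu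
  set T := algebraMap F (AdjoinRoot f) t with hT
  set S := algebraMap F (AdjoinRoot f) (th m t) with hSdef
  have two' : (2 : AdjoinRoot f) = 0 := CharTwo.two_eq_zero
  set A := l + l⁻¹ with hA
  set B := u + u⁻¹ with hB
  have qA : A ^ 2 + T * A + S = 0 := by
    have : (A ^ 2 + T * A + S) * l ^ 2 = 0 := by
      rw [hA]; field_simp
      linear_combination hfl + l ^ 2 * two'
    exact (mul_eq_zero.1 this).resolve_right (pow_ne_zero _ hl0)
  have qB : B ^ 2 + T * B + S = 0 := by
    have : (B ^ 2 + T * B + S) * u ^ 2 = 0 := by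
      rw [hB]; field_simp
      linear_combination hfu + u ^ 2 * two'
    exact (mul_eq_zero.1 this).resolve_right (pow_ne_zero _ hu0)
  have hAB : A ≠ B := by
    intro e
    have : (u - l) * (u * l - 1) = 0 := by
      rw [hA, hB] at e; field_simp at e
      linear_combination (-1 : AdjoinRoot f) * e
    rcases mul_eq_zero.1 this with h | h
    · have h' : l ^ q = l := sub_eq_zero.1 h
      refine hnq ((orderOf_dvd_of_pow_eq_one ?_).trans (Nat.pow_sub_one_dvd_pow_sub_one q (one_dvd 2)))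
      rw [pow_one]
      refine mul_right_cancel₀ hl0 ?_
      rw [← pow_succ, Nat.sub_add_cancel (Nat.one_le_two_pow), one_mul]; exact h'
    · have h' : l ^ (q + 1) = 1 := by rw [pow_succ]; exact sub_eq_zero.1 h
      refine hnq ((orderOf_dvd_of_pow_eq_one h').trans ?_)
      rw [show q ^ 2 - 1 = (q + 1) * (q - 1) by rw [← Nat.sq_sub_sq, one_pow]]
      exact dvd_mul_right _ _
  have hTAB : T = A + B := by
    have h := mul_left_cancel₀ (sub_ne_zero.2 hAB)
      (show (A - B) * (A + B + T) = (A - B) * 0 by linear_combination qA - qB)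
    linear_combination h - (A + B) * two'
  have hSAB : S = A * B := by
    rw [hTAB] at qA
    linear_combination qA - (A ^ 2 + A * B) * two'
  set y := l * u with hy
  have hy0 : y ≠ 0 := mul_ne_zero hl0 hu0
  have qC : (y + y⁻¹) ^ 2 + A * B * (y + y⁻¹) + (A + B) ^ 2 = 0 := by
    rw [hy, hA, hB]
    field_simp
    ring_nf
    simp [two', show (4 : AdjoinRoot f) = 0 by linear_combination (2 : AdjoinRoot f) * two',
      show (6 : AdjoinRoot f) = 0 by linear_combination (3 : AdjoinRoot f) * two',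
      show (8 : AdjoinRoot f) = 0 by linear_combination (4 : AdjoinRoot f) * two']
  let σ := iterateFrobenius (AdjoinRoot f) 2 (m + 1)
  obtain ⟨z, hz⟩ : ∃ z, σ z = y := Finite.surjective_of_injective σ.injective y
  have hz0 : z ≠ 0 := fun e => hy0 (by rw [← hz, e, map_zero])
  have hST : σ T = S := by
    rw [hT, hSdef, th, map_pow, iterateFrobenius_def]
  have hSS : σ S = T ^ 2 := by
    rw [hT, hSdef, iterateFrobenius_def, ← map_pow, ← map_pow]
    congr 1
    exact th_th hS t
  have hZ : σ ((z + z⁻¹) ^ 2 + T * (z + z⁻¹) + S) = 0 := by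
    rw [map_add, map_add, map_mul, map_pow, map_add, map_inv₀, hz, hST, hSS, hTAB, hSAB]
    exact qC
  have hZ' := (map_eq_zero σ).1 hZ
  rw [hTAB, hSAB] at hZ'
  have hZ'' : (z + z⁻¹ + A) * (z + z⁻¹ + B) = 0 := by linear_combination hZ'
  have key : ∀ w : AdjoinRoot f, w ≠ 0 → z + z⁻¹ + (w + w⁻¹) = 0 → y = w ^ r ∨ y * w ^ r = 1 := by
    intro w hw h
    have : (z + w) * (z * w + 1) = 0 := by
      field_simp at h
      linear_combination h
    rcases mul_eq_zero.1 this with e | e
    · left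
      rw [← hz, show z = w by linear_combination e - w * two', iterateFrobenius_def]
    · right
      rw [← hz, iterateFrobenius_def, ← mul_pow, show z * w = 1 by linear_combination e - two', one_pow]
  have hy' : y = l ^ (q + 1) := by rw [hy, hu, pow_succ]; ring
  have hrq : r ≤ q + 1 := le_add_right (Nat.pow_le_pow_right (by omega) (by omega))
  have hr2 : r ^ 2 = 2 * q := by rw [hr, hq, ← pow_mul, ← pow_succ']; ring_nf
  have hrq' : r ≤ q := Nat.pow_le_pow_right (by omega) (by omega)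
  have hn' : (n : ℤ) ∣ (q : ℤ) ^ 2 + 1 := by exact_mod_cast hn
  have hr2' : (r : ℤ) ^ 2 = 2 * q := by exact_mod_cast hr2
  have hcop : Nat.Coprime n 2 := Nat.coprime_two_right.2 hodd
  rcases mul_eq_zero.1 hZ'' with e | e
  · rcases key l hl0 e with h | h
    · right
      refine orderOf_dvd_of_pow_eq_one (mul_right_cancel₀ (pow_ne_zero r hl0) ?_)
      rw [← pow_add, one_mul, ← h, hy']
      congr 1; omega
    · left
      refine orderOf_dvd_of_pow_eq_one ?_
      rw [← h, hy', ← pow_add]; congr 1; omega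
  · rcases key u hu0 e with h | h
    · right
      rw [hy', hu, ← pow_mul] at h
      have h1 : (n : ℤ) ∣ (q * r : ℕ) - (q + 1 : ℕ) := by
        rw [← Int.modEq_iff_dvd, Int.natCast_modEq_iff]
        have h' : Units.mk0 l hl0 ^ (q + 1) = Units.mk0 l hl0 ^ (q * r) := Units.ext (by simpa using h)
        rw [pow_eq_pow_iff_modEq, ← orderOf_units, Units.val_mk0] at h'
        exact h'
      have h2 : (n : ℤ) ∣ (q : ℤ) + r - 1 := by
        have := dvd_add (h1.mul_left (-(q : ℤ))) (hn'.mul_left ((r : ℤ) - 1))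
        rwa [show -(q : ℤ) * (((q * r : ℕ) : ℤ) - ((q + 1 : ℕ) : ℤ)) + ((r : ℤ) - 1) * ((q : ℤ) ^ 2 + 1) =
          (q : ℤ) + r - 1 by push_cast; ring] at this
      have h3 : (n : ℤ) ∣ ((2 * (q - r + 1) : ℕ) : ℤ) := by
        have := dvd_sub hn' (h2.mul_right ((q : ℤ) - r + 1))
        rwa [show (q : ℤ) ^ 2 + 1 - ((q : ℤ) + r - 1) * ((q : ℤ) - r + 1) = ((2 * (q - r + 1) : ℕ) : ℤ) by
          push_cast [Nat.cast_sub hrq']; linear_combination hr2'] at this
      exact hcop.dvd_of_dvd_mul_left (Int.natCast_dvd_natCast.1 h3)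
    · left
      rw [hy', hu, ← pow_mul, ← pow_add] at h
      have h1 : (n : ℤ) ∣ ((q + 1 + q * r : ℕ) : ℤ) := Int.natCast_dvd_natCast.2 (orderOf_dvd_of_pow_eq_one h)
      have h2 : (n : ℤ) ∣ (q : ℤ) - r - 1 := by
        have := dvd_sub (h1.mul_left (q : ℤ)) (hn'.mul_left ((r : ℤ) + 1))
        rwa [show (q : ℤ) * ((q + 1 + q * r : ℕ) : ℤ) - ((r : ℤ) + 1) * ((q : ℤ) ^ 2 + 1) =
          (q : ℤ) - r - 1 by push_cast; ring] at this
      have h3 : (n : ℤ) ∣ ((2 * (q + r + 1) : ℕ) : ℤ) := by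
        have := dvd_sub hn' (h2.mul_right ((q : ℤ) + r + 1))
        rwa [show (q : ℤ) ^ 2 + 1 - ((q : ℤ) - r - 1) * ((q : ℤ) + r + 1) = ((2 * (q + r + 1) : ℕ) : ℤ) by
          push_cast; linear_combination hr2'] at this
      exact hcop.dvd_of_dvd_mul_left (Int.natCast_dvd_natCast.1 h3)

end Cfsg.Agent.Suz
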