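import Cfsg.Agent.Lib.Lie.Sz.Partition

/-! Solvable subgroups of the Suzuki group and the structure of the torus normalisers. -/

set_option autoImplicit false

namespace Cfsg.Agent.Suz

open scoped Pointwise

section general

variable {G : Type*} [Group G]

theorem solvable_of_quotient_two {T : Subgroup G} [IsCyclic T] [Finite G] {k : ℕ}
    (h : Nat.card (Subgroup.normalizer (T : Set G)) = 2 ^ k * Nat.card T) :
    Group.IsSolvable (Subgroup.normalizer (T : Set G)) := by
  haveI : Fact (Nat.Prime 2) := ⟨Nat.prime_two⟩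
  set N := Subgroup.normalizer (T : Set G)
  haveI : (T.subgroupOf N).Normal := Subgroup.normal_in_normalizer
  letI := IsCyclic.commGroup (α := T)
  haveI : Group.IsSolvable (T.subgroupOf N) :=
    Group.isSolvable_of_isSolvable_injective (f := (Subgroup.subgroupOfEquivOfLe (Subgroup.le_normalizer : T ≤ N)).toMonoidHom)
      (Subgroup.subgroupOfEquivOfLe (Subgroup.le_normalizer : T ≤ N)).injective
  haveI : Group.IsSolvable (N ⧸ T.subgroupOf N) := by
    have hc : Nat.card (N ⧸ T.subgroupOf N) = 2 ^ k := by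
      have h1 := Subgroup.card_eq_card_quotient_mul_card_subgroup (T.subgroupOf N)
      rw [h, Nat.card_congr (Subgroup.subgroupOfEquivOfLe (Subgroup.le_normalizer : T ≤ N)).toEquiv] at h1
      exact Nat.eq_of_mul_eq_mul_right Nat.card_pos h1.symm
    haveI := (IsPGroup.of_card hc).isNilpotent
    infer_instance
  exact Group.isSolvable_of_ker_le_range (T.subgroupOf N).subtype (QuotientGroup.mk' (T.subgroupOf N))
    (by rw [QuotientGroup.ker_mk', Subgroup.range_subtype])

theorem exists_abelian_normal [Finite G] (K : Subgroup G) (hK : Group.IsSolvable K) (h1 : K ≠ ⊥) :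
    ∃ A : Subgroup G, A ≤ K ∧ A ≠ ⊥ ∧ (∀ k ∈ K, ∀ a ∈ A, k * a * k⁻¹ ∈ A) ∧ ∀ a ∈ A, ∀ b ∈ A, a * b = b * a := by
  classical
  obtain ⟨hex⟩ := hK
  have hpos : Nat.find hex ≠ 0 := by
    intro e
    have h := Nat.find_spec hex
    rw [e, derivedSeries_zero] at h
    refine h1 (eq_bot_iff.2 fun x hx => ?_)
    have := (h ▸ Subgroup.mem_top (⟨x, hx⟩ : K) : (⟨x, hx⟩ : K) ∈ (⊥ : Subgroup K))
    exact Subgroup.mem_bot.2 (congrArg Subtype.val (Subgroup.mem_bot.1 this))
  obtain ⟨n, hn⟩ := Nat.exists_eq_succ_of_ne_zero hpos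
  have hne : derivedSeries K n ≠ ⊥ := Nat.find_min hex (by omega)
  have hbot : derivedSeries K (n + 1) = ⊥ := by
    have := Nat.find_spec hex; rwa [hn] at this
  refine ⟨(derivedSeries K n).map K.subtype, Subgroup.map_subtype_le _, ?_, ?_, ?_⟩
  · rwa [Ne, Subgroup.map_eq_bot_iff_of_injective _ K.subtype_injective]
  · rintro k hk _ ⟨a, ha, rfl⟩
    exact ⟨⟨k, hk⟩ * a * ⟨k, hk⟩⁻¹, (derivedSeries_normal (G := K) n).conj_mem a ha ⟨k, hk⟩, rfl⟩
  · rintro _ ⟨a, ha, rfl⟩ _ ⟨b, hb, rfl⟩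
    have hc := Subgroup.commutator_mem_commutator ha hb
    rw [← derivedSeries_succ, hbot, Subgroup.mem_bot] at hc
    rw [← map_mul, ← map_mul, commutatorElement_eq_one_iff_mul_comm.1 hc]

end general

variable {F : Type*} [Field F] {m : ℕ} [Fintype F] (hS : SzField F m)

/-- A torus: a cyclic self-centralising subgroup of one of the three orders. -/
structure IsTor (m : ℕ) (T : Subgroup ↥(Cfsg.Sz F m)) : Prop where
  cyc : IsCyclic T
  card : Nat.card T ∈ torusOrders m
  cent : ∀ u ∈ T, u ≠ 1 → Subgroup.centralizer ({u} : Set ↥(Cfsg.Sz F m)) = T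

/-- The index of a torus in its normaliser. -/
def torIdx (m : ℕ) (c : ℕ) : ℕ := if c = 2 ^ (2 * m + 1) - 1 then 2 else 4

include hS

theorem isTor_centralizer {g : ↥(Cfsg.Sz F m)} (hg : g ≠ 1) (h : ∀ c, c * g * c⁻¹ ∉ unip hS) :
    IsTor m (Subgroup.centralizer ({g} : Set ↥(Cfsg.Sz F m))) := by
  rcases cent_cases hS hg with ⟨c, hc⟩ | ⟨h1, h2, h3⟩
  · exact absurd hc (h c)
  · exact ⟨h1, h2, h3⟩

theorem isTor_torus : IsTor m (torus hS) :=
  ⟨isCyclic_torus hS, by rw [card_torus hS]; exact Or.inl rfl, fun u hu hu1 => by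
    obtain ⟨z, rfl⟩ := mem_torus hS hu
    exact centralizer_torus hS fun e => hu1 (by rw [e, hTor_one])⟩

theorem isTor_of_FPF {x : ↥(Cfsg.Sz F m)} (hx : FPF m x) :
    IsTor m (Subgroup.centralizer ({x} : Set ↥(Cfsg.Sz F m))) :=
  isTor_centralizer hS hx.ne_one fun c h => (FPF.conj hS hx c) none (unip_le_borel hS h)

theorem IsTor.exists_ne_one {T : Subgroup ↥(Cfsg.Sz F m)} (hT : IsTor m T) : ∃ u ∈ T, u ≠ 1 := by
  refine (Subgroup.bot_or_exists_ne_one T).resolve_left fun e => ?_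
  have := (torusOrders_props hS hT.card).1
  rw [e, Subgroup.card_bot] at this
  omega

theorem IsTor.odd {T : Subgroup ↥(Cfsg.Sz F m)} (hT : IsTor m T) : Odd (Nat.card T) :=
  (torusOrders_props hS hT.card).2.1

theorem IsTor.not_unip {T : Subgroup ↥(Cfsg.Sz F m)} (hT : IsTor m T) {u : ↥(Cfsg.Sz F m)}
    (hu : u ∈ T) (hu1 : u ≠ 1) (c : ↥(Cfsg.Sz F m)) : c * u * c⁻¹ ∉ unip hS :=
  not_conj_unip_of_odd hS hu1 (orderOf_odd_of_cyclic hS hT.card hu) c

/-- Every torus is conjugate to one of three. -/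
theorem IsTor.classify {T : Subgroup ↥(Cfsg.Sz F m)} (hT : IsTor m T) {x y : ↥(Cfsg.Sz F m)}
    (hx : FPF m x) (hy : FPF m y)
    (hall : ∀ z : ↥(Cfsg.Sz F m), FPF m z → z ∈ conjSet (Subgroup.centralizer ({x} : Set ↥(Cfsg.Sz F m))) ∨
      z ∈ conjSet (Subgroup.centralizer ({y} : Set ↥(Cfsg.Sz F m)))) :
    ∃ g, T = (torus hS).map (MulAut.conj g).toMonoidHom ∨
      T = (Subgroup.centralizer ({x} : Set ↥(Cfsg.Sz F m))).map (MulAut.conj g).toMonoidHom ∨
      T = (Subgroup.centralizer ({y} : Set ↥(Cfsg.Sz F m))).map (MulAut.conj g).toMonoidHom := by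
  obtain ⟨u, hu, hu1⟩ := hT.exists_ne_one hS
  rw [← hT.cent u hu hu1]
  rcases trichotomy hS u with ⟨c, hc⟩ | ⟨c, z, hz, hc⟩ | h
  · exact absurd hc (hT.not_unip hS hu hu1 c)
  · refine ⟨c⁻¹, Or.inl ?_⟩
    rw [show u = c⁻¹ * hTor hS z * c⁻¹⁻¹ by rw [← hc]; group, centralizer_conj, centralizer_torus hS hz]
  · rcases hall u h with h' | h'
    · obtain ⟨g, hg⟩ := FPF.eq_of_mem_conjSet hS hx h'
      exact ⟨g, Or.inr (Or.inl hg)⟩
    · obtain ⟨g, hg⟩ := FPF.eq_of_mem_conjSet hS hy h'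
      exact ⟨g, Or.inr (Or.inr hg)⟩

theorem IsTor.map {T : Subgroup ↥(Cfsg.Sz F m)} (hT : IsTor m T) (g : ↥(Cfsg.Sz F m)) :
    IsTor m (T.map (MulAut.conj g).toMonoidHom) := by
  refine ⟨?_, ?_, ?_⟩
  · haveI := hT.cyc
    exact isCyclic_of_surjective (Subgroup.equivMapOfInjective _ _ (MulAut.conj g).injective).toMonoidHom
      (Subgroup.equivMapOfInjective _ _ (MulAut.conj g).injective).surjective
  · rw [Subgroup.card_map_of_injective (MulAut.conj g).injective]; exact hT.card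
  · rintro _ ⟨u, hu, rfl⟩ hu1
    show Subgroup.centralizer ({g * u * g⁻¹} : Set ↥(Cfsg.Sz F m)) = _
    rw [centralizer_conj, hT.cent u hu fun e => hu1 (by rw [e, map_one])]

theorem card_normalizer_map (T : Subgroup ↥(Cfsg.Sz F m)) (g : ↥(Cfsg.Sz F m)) :
    Nat.card (Subgroup.normalizer ((T.map (MulAut.conj g).toMonoidHom : Subgroup ↥(Cfsg.Sz F m)) : Set ↥(Cfsg.Sz F m))) =
      Nat.card (Subgroup.normalizer (T : Set ↥(Cfsg.Sz F m))) := by
  rw [← Subgroup.map_equiv_normalizer_eq T (MulAut.conj g)]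
  exact Subgroup.card_map_of_injective (MulAut.conj g).injective

theorem IsTor.card_normalizer {T : Subgroup ↥(Cfsg.Sz F m)} (hT : IsTor m T) :
    Nat.card (Subgroup.normalizer (T : Set ↥(Cfsg.Sz F m))) = torIdx m (Nat.card T) * Nat.card T := by
  obtain ⟨x, y, ⟨hx, hxc, hxn⟩, ⟨hy, hyc, hyn⟩, hall⟩ := exists_tori hS
  have hne : ∀ c, c ∈ torusOrders m → c ≠ 2 ^ (2 * m + 1) - 1 → torIdx m c = 4 := fun c _ h => if_neg h
  have hq8 : 8 ≤ 2 ^ (2 * m + 1) := hS.card ▸ eight_le hS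
  have hle : 2 ^ (m + 1) ≤ 2 ^ (2 * m + 1) := Nat.pow_le_pow_right (by omega) (by omega)
  obtain ⟨hprod, -, hb5⟩ := ab_props hS
  obtain ⟨g, rfl | rfl | rfl⟩ := hT.classify hS hx hy hall <;>
    rw [card_normalizer_map hS, Subgroup.card_map_of_injective (MulAut.conj g).injective]
  · rw [card_normalizer_torus hS, card_torus hS, torIdx, if_pos rfl]
  · rw [hxn, hxc, torIdx, if_neg]
    generalize 2 ^ (m + 1) = r at *
    generalize 2 ^ (2 * m + 1) = q at *
    omega
  · rw [hyn, hyc, torIdx, if_neg]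
    have h4 : 4 ≤ 2 ^ (m + 1) := by
      calc 4 = 2 ^ 2 := rfl
        _ ≤ _ := Nat.pow_le_pow_right (by omega) (by have := hS.one_le; omega)
    generalize 2 ^ (m + 1) = r at *
    generalize 2 ^ (2 * m + 1) = q at *
    omega

theorem isSolvable_borel : Group.IsSolvable (borel m F) := by
  haveI : Fact (Nat.Prime 2) := ⟨Nat.prime_two⟩
  have hle := unip_le_borel hS
  haveI hN : ((unip hS).subgroupOf (borel m F)).Normal := by
    refine ⟨fun n hn g => ?_⟩
    rw [Subgroup.mem_subgroupOf] at hn ⊢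
    exact (Subgroup.mem_normalizer_iff.1 (borel_le_normalizer hS g.2) _).1 hn
  haveI : Group.IsSolvable ((unip hS).subgroupOf (borel m F)) := by
    haveI := (isPGroup_unip hS).isNilpotent
    exact Group.isSolvable_of_isSolvable_injective (f := (Subgroup.subgroupOfEquivOfLe hle).toMonoidHom)
      (Subgroup.subgroupOfEquivOfLe hle).injective
  haveI : Group.IsSolvable (borel m F ⧸ (unip hS).subgroupOf (borel m F)) := by
    refine Group.isSolvable_of_surjective (f := (QuotientGroup.mk' _).comp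
      ((torHom hS).codRestrict (borel m F) (hTor_mem_borel hS))) fun b => ?_
    obtain ⟨b, rfl⟩ := QuotientGroup.mk_surjective b
    obtain ⟨a, c, z, hz⟩ := borel_eq hS b.2
    refine ⟨z, (QuotientGroup.eq.2 ?_)⟩
    rw [Subgroup.mem_subgroupOf]
    show (hTor hS z)⁻¹ * (b : ↥(Cfsg.Sz F m)) ∈ unip hS
    rw [hz, ← mul_assoc]
    have h := (Subgroup.mem_normalizer_iff.1 (borel_le_normalizer hS (hTor_mem_borel hS z⁻¹)) _).1 (uS_mem hS a c)
    rwa [← hTor_inv, inv_inv] at h
  exact Group.isSolvable_of_ker_le_range ((unip hS).subgroupOf (borel m F)).subtype (QuotientGroup.mk' ((unip hS).subgroupOf (borel m F)))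
    (by rw [QuotientGroup.ker_mk', Subgroup.range_subtype])

theorem IsTor.isSolvable_normalizer {T : Subgroup ↥(Cfsg.Sz F m)} (hT : IsTor m T) :
    Group.IsSolvable (Subgroup.normalizer (T : Set ↥(Cfsg.Sz F m))) := by
  haveI := hT.cyc
  by_cases h : Nat.card T = 2 ^ (2 * m + 1) - 1
  · exact solvable_of_quotient_two (k := 1) (by rw [hT.card_normalizer hS, torIdx, if_pos h, pow_one])
  · exact solvable_of_quotient_two (k := 2) (by rw [hT.card_normalizer hS, torIdx, if_neg h]; norm_num)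

theorem isSolvable_stab (o : Option (F × F)) :
    Group.IsSolvable (MulAction.stabilizer ↥(Cfsg.Sz F m) (pt m o)) := by
  obtain ⟨g, hg⟩ := (orbit_inf hS).symm ▸ (mem_ovoid_iff (m := m) (p := pt m o)).2 ⟨o, rfl⟩
  have hg' : g • suzukiPointInfinity F = pt m o := hg
  rw [← hg', MulAction.stabilizer_smul_eq_stabilizer_map_conj]
  haveI := isSolvable_borel hS
  exact Group.isSolvable_of_surjective (f := (Subgroup.equivMapOfInjective (borel m F) _ (MulAut.conj g).injective).toMonoidHom)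
    (Subgroup.equivMapOfInjective (borel m F) _ (MulAut.conj g).injective).surjective

/-- A solvable subgroup fixes a point or normalises a torus. -/
theorem solvable_cases (K : Subgroup ↥(Cfsg.Sz F m)) (hK : Group.IsSolvable K) :
    (∃ o : Option (F × F), ∀ k ∈ K, k • pt m o = pt m o) ∨
      ∃ T : Subgroup ↥(Cfsg.Sz F m), IsTor m T ∧ K ≤ Subgroup.normalizer (T : Set ↥(Cfsg.Sz F m)) := by
  by_cases hbot : K = ⊥
  · refine Or.inl ⟨none, fun k hk => ?_⟩
    rw [hbot, Subgroup.mem_bot] at hk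
    rw [hk, one_smul]
  obtain ⟨A, -, hA1, hnorm, habel⟩ := exists_abelian_normal K hK hbot
  obtain ⟨a, ha, ha1⟩ := A.bot_or_exists_ne_one.resolve_left hA1
  by_cases hu : ∃ c, c * a * c⁻¹ ∈ unip hS
  · left
    obtain ⟨c, hc⟩ := hu
    obtain ⟨o, ho⟩ := exists_pt_smul hS c⁻¹ none
    refine ⟨o, fun k hk => ?_⟩
    have hb : c * (k * a * k⁻¹) * c⁻¹ ∈ unip hS := by
      refine centralizer_unip_le hS hc (fun e => ha1 (conj_eq_one_iff.1 e)) (Subgroup.mem_centralizer_singleton_iff.2 ?_)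
      calc c * (k * a * k⁻¹) * c⁻¹ * (c * a * c⁻¹) = c * ((k * a * k⁻¹) * a) * c⁻¹ := by group
        _ = c * (a * (k * a * k⁻¹)) * c⁻¹ := by rw [habel _ (hnorm k hk a ha) a ha]
        _ = _ := by group
    have hkb : c * k * c⁻¹ ∈ borel m F := mem_borel_of_conj_mem hS hc (fun e => ha1 (conj_eq_one_iff.1 e))
      (by rw [show c * k * c⁻¹ * (c * a * c⁻¹) * (c * k * c⁻¹)⁻¹ = c * (k * a * k⁻¹) * c⁻¹ by group]; exact hb)
    have h2 : (c * k * c⁻¹) • suzukiPointInfinity F = suzukiPointInfinity F := hkb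
    rw [← ho, show pt m none = suzukiPointInfinity F from rfl, ← mul_smul]
    conv_rhs => rw [← h2, ← mul_smul, mul_assoc, inv_mul_cancel_left]
  · right
    push Not at hu
    refine ⟨_, isTor_centralizer hS ha1 hu, fun k hk => ?_⟩
    refine mem_normalizer_of_map_conj ?_
    rw [← centralizer_conj]
    exact (isTor_centralizer hS ha1 hu).cent _ (Subgroup.mem_centralizer_singleton_iff.2 (habel _ (hnorm k hk a ha) a ha))
      fun e => ha1 (conj_eq_one_iff.1 e)

/-- A torus normalised by a non-trivial unipotent element meets the stabiliser of infinity trivially. -/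
theorem IsTor.inter_borel {T : Subgroup ↥(Cfsg.Sz F m)} (hT : IsTor m T) {x h : ↥(Cfsg.Sz F m)}
    (hx : x ∈ unip hS) (hx1 : x ≠ 1) (hxN : x ∈ Subgroup.normalizer (T : Set ↥(Cfsg.Sz F m)))
    (hh : h ∈ T) (hb : h ∈ borel m F) : h = 1 := by
  by_contra h1
  rcases borel_cases hS hb with hu | ⟨v, z, hz, hv⟩
  · exact hT.not_unip hS hh h1 1 (by simpa using hu)
  have hC : T = (torus hS).map (MulAut.conj v).toMonoidHom := by
    rw [← hT.cent h hh h1, hv, centralizer_conj, centralizer_torus hS hz]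
  have hmem := (Subgroup.mem_normalizer_iff.1 hxN h).1 hh
  rw [hC] at hmem
  obtain ⟨w, hw, hw'⟩ := hmem
  obtain ⟨z', rfl⟩ := mem_torus hS hw
  have hw'' : v * hTor hS z' * v⁻¹ = x * h * x⁻¹ := hw'
  have hvb : v • suzukiPointInfinity F = suzukiPointInfinity F ∨ v • pt m (some ((0 : F), 0)) = suzukiPointInfinity F := by
    obtain ⟨o, ho⟩ := exists_pt_smul hS v⁻¹ none
    have : hTor hS z • pt m o = pt m o := by
      rw [← ho, show hTor hS z = v⁻¹ * h * v by rw [hv]; group, mul_smul, mul_smul, smul_inv_smul,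
        show h • pt m none = pt m none from hb]
    rcases eq_one_or_of_fix hS hz this with rfl | rfl
    · exact Or.inl (inv_smul_eq_iff.1 ho).symm
    · exact Or.inr (inv_smul_eq_iff.1 ho).symm
  have hxfix : ∀ o : Option (F × F), x • pt m o = pt m o → o = none := fun o => eq_none_of_fix hS hx hx1
  have hother : ∀ o : Option (F × F), h • pt m o = pt m o → o ≠ none → False := by
    intro o ho hne
    obtain ⟨o', ho'⟩ := exists_pt_smul hS x o
    have hfix : (v * hTor hS z' * v⁻¹) • pt m o' = pt m o' := by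
      rw [hw'', ← ho', ← mul_smul, inv_mul_cancel_right, mul_smul, ho]
    obtain ⟨p, hp⟩ := exists_pt_smul hS v⁻¹ o'
    obtain ⟨p₀, hp₀⟩ := exists_pt_smul hS v⁻¹ o
    obtain ⟨pn, hpn⟩ := exists_pt_smul hS v⁻¹ none
    have hz' : z' ≠ 1 := fun e => h1 (by
      rw [e, hTor_one, mul_one, mul_inv_cancel] at hw''
      exact conj_eq_one_iff.1 hw''.symm)
    have f1 : hTor hS z' • pt m p = pt m p := by
      rw [← hp]; rw [mul_smul, mul_smul] at hfix
      exact eq_inv_smul_iff.2 hfix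
    have f2 : hTor hS z • pt m p₀ = pt m p₀ := by
      rw [← hp₀, show hTor hS z = v⁻¹ * h * v by rw [hv]; group, mul_smul, mul_smul, smul_inv_smul, ho]
    have f3 : hTor hS z • pt m pn = pt m pn := by
      rw [← hpn, show hTor hS z = v⁻¹ * h * v by rw [hv]; group, mul_smul, mul_smul, smul_inv_smul,
        show h • pt m none = pt m none from hb]
    have hne0 : p₀ ≠ pn := fun e => hne (pt_injective (m := m) (MulAction.injective v⁻¹ (hp₀.trans (e ▸ hpn).symm)))
    have hne' : p ≠ pn := fun e => hne (hxfix o (by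
      have h' : pt m o' = pt m none := MulAction.injective v⁻¹ (hp.trans (e ▸ hpn).symm)
      have h'' : x • pt m o = x • pt m none := ho'.trans (h'.trans (unip_le_borel hS hx).symm)
      exact absurd (pt_injective (MulAction.injective x h'')) hne))
    have : p = p₀ := by
      rcases eq_one_or_of_fix hS hz' f1 with rfl | rfl <;> rcases eq_one_or_of_fix hS hz f2 with rfl | rfl <;>
        rcases eq_one_or_of_fix hS hz f3 with rfl | rfl <;> first | rfl | exact absurd rfl hne0 | exact absurd rfl hne'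
    refine hne (hxfix o (ho'.trans (MulAction.injective v⁻¹ ?_)))
    show v⁻¹ • pt m o' = v⁻¹ • pt m o
    rw [hp, hp₀, this]
  rcases hvb with hv1 | hv1
  · refine hother _ (?_ : h • pt m ((exists_pt_smul hS v (some (0, 0))).choose) = _) ?_
    · rw [← (exists_pt_smul hS v (some (0, 0))).choose_spec, hv, ← mul_smul, inv_mul_cancel_right, mul_smul, hTor_pt]
      simp
    · intro e
      have := (exists_pt_smul hS v (some (0, 0))).choose_spec
      rw [e] at this
      exact Option.some_ne_none _ (pt_injective (MulAction.injective v (this.trans hv1.symm)))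
  · refine hother _ (?_ : h • pt m ((exists_pt_smul hS v none).choose) = _) ?_
    · rw [← (exists_pt_smul hS v none).choose_spec, hv, ← mul_smul, inv_mul_cancel_right, mul_smul]
      exact congrArg _ (hTor_inf hS z)
    · intro e
      have := (exists_pt_smul hS v none).choose_spec
      rw [e] at this
      exact Option.some_ne_none ((0 : F), (0 : F)) (pt_injective (m := m) (MulAction.injective v (hv1.trans this.symm)))

theorem IsTor.pow_mem {T : Subgroup ↥(Cfsg.Sz F m)} (hT : IsTor m T) {n : ↥(Cfsg.Sz F m)}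
    (hn : n ∈ Subgroup.normalizer (T : Set ↥(Cfsg.Sz F m))) : n ^ torIdx m (Nat.card T) ∈ T := by
  set N := Subgroup.normalizer (T : Set ↥(Cfsg.Sz F m)) with hNdef
  haveI : (T.subgroupOf N).Normal := Subgroup.normal_in_normalizer
  have hidx : (T.subgroupOf N).index = torIdx m (Nat.card T) := by
    have h := (T.subgroupOf N).card_mul_index
    rw [Nat.card_congr (Subgroup.subgroupOfEquivOfLe (Subgroup.le_normalizer : T ≤ N)).toEquiv,
      hT.card_normalizer hS, mul_comm (torIdx m _)] at h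
    exact Nat.eq_of_mul_eq_mul_left Nat.card_pos h
  have h := Subgroup.pow_index_mem (T.subgroupOf N) ⟨n, hn⟩
  rw [hidx, Subgroup.mem_subgroupOf] at h
  exact h

theorem IsTor.pow_eq_one {T : Subgroup ↥(Cfsg.Sz F m)} (hT : IsTor m T) {n : ↥(Cfsg.Sz F m)}
    (hn : n ∈ Subgroup.normalizer (T : Set ↥(Cfsg.Sz F m))) (hnT : n ∉ T) : n ^ torIdx m (Nat.card T) = 1 := by
  by_contra h
  refine hnT (hT.cent _ (hT.pow_mem hS hn) h ▸ ?_)
  exact Subgroup.mem_centralizer_singleton_iff.2 ((Commute.refl n).pow_right _).eq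

theorem IsTor.invert {T : Subgroup ↥(Cfsg.Sz F m)} (hT : IsTor m T) {t h : ↥(Cfsg.Sz F m)}
    (ht : t ∈ Subgroup.normalizer (T : Set ↥(Cfsg.Sz F m))) (ht2 : orderOf t = 2) (hh : h ∈ T) :
    t * h * t⁻¹ = h⁻¹ := by
  haveI := hT.cyc
  letI := IsCyclic.commGroup (α := T)
  have htt : t * t = 1 := by rw [← sq, ← ht2, pow_orderOf_eq_one]
  have hti : t⁻¹ = t := inv_eq_of_mul_eq_one_right htt
  have hk := (Subgroup.mem_normalizer_iff.1 ht h).1 hh
  rw [hti] at hk ⊢
  have hcomm : t * h * t * h = h * (t * h * t) := congrArg Subtype.val (mul_comm (⟨_, hk⟩ : T) ⟨h, hh⟩)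
  by_contra hne
  have hk1 : h * (t * h * t) ≠ 1 := fun e => hne (eq_inv_of_mul_eq_one_right e)
  have htT : t ∈ T := by
    rw [← hT.cent _ (mul_mem hh hk) hk1, Subgroup.mem_centralizer_singleton_iff]
    calc t * (h * (t * h * t)) = t * h * t * h * (t * 1) := by rw [mul_one]; simp only [mul_assoc]
      _ = h * (t * h * t) * t := by rw [hcomm, mul_one]
  have := orderOf_odd_of_cyclic hS hT.card htT
  rw [ht2] at this
  exact absurd this (by decide)

theorem IsTor.not_mem_of_sq {T : Subgroup ↥(Cfsg.Sz F m)} (hT : IsTor m T) {t : ↥(Cfsg.Sz F m)}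
    (ht : orderOf t = 2 ∨ orderOf t = 4) : t ∉ T := by
  intro h
  have := orderOf_odd_of_cyclic hS hT.card h
  rcases ht with e | e <;> rw [e] at this <;> exact absurd this (by decide)

theorem IsTor.card_involutions {T : Subgroup ↥(Cfsg.Sz F m)} (hT : IsTor m T) :
    {t : ↥(Cfsg.Sz F m) | t ∈ Subgroup.normalizer (T : Set ↥(Cfsg.Sz F m)) ∧ orderOf t = 2}.ncard = Nat.card T ∧
    ∀ t₁ t₂ : ↥(Cfsg.Sz F m), t₁ ∈ Subgroup.normalizer (T : Set ↥(Cfsg.Sz F m)) → orderOf t₁ = 2 →
      t₂ ∈ Subgroup.normalizer (T : Set ↥(Cfsg.Sz F m)) → orderOf t₂ = 2 →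
      ∃ h ∈ T, h * t₁ * h⁻¹ = t₂ := by
  classical
  haveI : Fact (Nat.Prime 2) := ⟨Nat.prime_two⟩
  have h2N : 2 ∣ Nat.card (Subgroup.normalizer (T : Set ↥(Cfsg.Sz F m))) := by
    rw [hT.card_normalizer hS]
    refine Dvd.dvd.mul_right ?_ _
    unfold torIdx; split_ifs <;> norm_num
  obtain ⟨⟨t, htN⟩, ht⟩ := exists_prime_orderOf_dvd_card' 2 h2N
  rw [← Subgroup.orderOf_coe] at ht
  have hconj : ∀ t' : ↥(Cfsg.Sz F m), t' ∈ Subgroup.normalizer (T : Set ↥(Cfsg.Sz F m)) → orderOf t' = 2 →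
      t * t' ∈ T := by
    intro t' ht'N ht'
    obtain ⟨u, hu, hu1⟩ := hT.exists_ne_one hS
    rw [← hT.cent u hu hu1, Subgroup.mem_centralizer_singleton_iff]
    have e1 := hT.invert hS ht'N ht' hu
    have e2 := hT.invert hS htN ht (inv_mem hu)
    rw [inv_inv] at e2
    calc t * t' * u = t * (t' * u * t'⁻¹) * t' := by group
      _ = (t * u⁻¹ * t⁻¹) * t * t' := by rw [e1]; group
      _ = u * (t * t') := by rw [e2, mul_assoc]
  have hset : {t' : ↥(Cfsg.Sz F m) | t' ∈ Subgroup.normalizer (T : Set ↥(Cfsg.Sz F m)) ∧ orderOf t' = 2} =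
      (fun h => t⁻¹ * h) '' (T : Set ↥(Cfsg.Sz F m)) := by
    ext t'
    constructor
    · rintro ⟨h1, h2⟩
      exact ⟨t * t', hconj t' h1 h2, inv_mul_cancel_left _ _⟩
    · rintro ⟨h, hh, rfl⟩
      have htt : t * t = 1 := by rw [← sq, ← ht, pow_orderOf_eq_one]
      have hti : t⁻¹ = t := inv_eq_of_mul_eq_one_right htt
      refine ⟨mul_mem (inv_mem htN) (Subgroup.le_normalizer hh), orderOf_eq_prime ?_ ?_⟩
      · show (t⁻¹ * h) ^ 2 = 1
        rw [sq, show t⁻¹ * h * (t⁻¹ * h) = (t * h * t⁻¹) * h by rw [hti]; simp only [mul_assoc],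
          hT.invert hS htN ht hh, inv_mul_cancel]
      · intro e
        exact hT.not_mem_of_sq hS (Or.inl ht) (inv_mul_eq_one.1 e ▸ hh)
  refine ⟨?_, ?_⟩
  · rw [hset, Set.ncard_image_of_injective _ (mul_right_injective _), ← Nat.card_coe_set_eq]
    rfl
  · intro t₁ t₂ h1 o1 h2 o2
    have hmem : t₁ * t₂ ∈ T := by
      have := mul_mem (inv_mem (hconj t₁ h1 o1)) (hconj t₂ h2 o2)
      rwa [_root_.mul_inv_rev, mul_assoc, inv_mul_cancel_left, inv_eq_of_mul_eq_one_right
        (show t₁ * t₁ = 1 by rw [← sq, ← o1, pow_orderOf_eq_one])] at this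
    have hsq : Function.Surjective fun h : T => h ^ 2 := by
      have : Nat.Coprime (Nat.card T) 2 := Nat.coprime_two_right.2 (hT.odd hS)
      exact (powCoprime this).surjective
    obtain ⟨h, hh⟩ := hsq ⟨t₁ * t₂, hmem⟩
    refine ⟨(h : ↥(Cfsg.Sz F m))⁻¹, inv_mem h.2, ?_⟩
    have e := hT.invert hS h1 o1 h.2
    have hh' : (h : ↥(Cfsg.Sz F m)) ^ 2 = t₁ * t₂ := congrArg Subtype.val hh
    rw [inv_inv]
    calc (h : ↥(Cfsg.Sz F m))⁻¹ * t₁ * h = (t₁ * h * t₁⁻¹) * t₁ * h := by rw [e]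
      _ = t₁ * (h : ↥(Cfsg.Sz F m)) ^ 2 := by rw [sq]; group
      _ = t₂ := by rw [hh', ← mul_assoc, ← sq, ← o1, pow_orderOf_eq_one, one_mul]

end Cfsg.Agent.Suz
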