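import Cfsg.Agent.Lib.Lie.Sz.Sylow

/-! Elements of the Suzuki group sorted by their fixed points, and the centralisers of those that have one. -/

set_option autoImplicit false

namespace Cfsg.Agent.Suz

open scoped Pointwise

variable {F : Type*} [Field F] {m : ℕ} [Fintype F] (hS : SzField F m)

/-- An element moving every point of the ovoid. -/
def FPF (m : ℕ) (g : ↥(Cfsg.Sz F m)) : Prop := ∀ o : Option (F × F), g • pt m o ≠ pt m o

/-- The diagonal torus. -/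
def torus : Subgroup ↥(Cfsg.Sz F m) := (torHom hS).range

include hS

theorem hTor_mem_torus (z : Fˣ) : hTor hS z ∈ torus hS := ⟨z, rfl⟩

theorem mem_torus {g : ↥(Cfsg.Sz F m)} (h : g ∈ torus hS) : ∃ z, g = hTor hS z := by
  obtain ⟨z, rfl⟩ := h
  exact ⟨z, rfl⟩

theorem card_torus : Nat.card (torus hS) = 2 ^ (2 * m + 1) - 1 := by
  show Nat.card (Set.range (hTor hS)) = _
  rw [Nat.card_range_of_injective (hTor_injective hS), Nat.card_units, Nat.card_eq_fintype_card,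
    hS.card]

theorem isCyclic_torus : IsCyclic (torus hS) :=
  isCyclic_of_surjective (torHom hS).rangeRestrict (torHom hS).rangeRestrict_surjective

theorem uS_mem (a b : F) : uS hS a b ∈ unip hS := (mem_unip hS).2 ⟨a, b, rfl⟩

theorem centralizer_unip_le {x : ↥(Cfsg.Sz F m)} (hx : x ∈ unip hS) (hx1 : x ≠ 1) :
    Subgroup.centralizer ({x} : Set ↥(Cfsg.Sz F m)) ≤ unip hS := by
  intro g hg
  rw [Subgroup.mem_centralizer_singleton_iff] at hg
  have hgx : g * x * g⁻¹ = x := by rw [hg, mul_inv_cancel_right]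
  obtain ⟨c, d, z, rfl⟩ := borel_eq hS (mem_borel_of_conj_mem hS hx hx1 (by rw [hgx]; exact hx))
  obtain ⟨a, b, rfl⟩ := (mem_unip hS).1 hx
  suffices hz : z = 1 by rw [hz, hTor_one, mul_one]; exact uS_mem hS c d
  rw [show uS hS c d * hTor hS z * uS hS a b * (uS hS c d * hTor hS z)⁻¹ =
    uS hS c d * (hTor hS z * uS hS a b * (hTor hS z)⁻¹) * (uS hS c d)⁻¹ by group, hTor_conj,
    uS_inv, uS_mul, uS_mul] at hgx
  obtain ⟨e1, e2⟩ := uS_injective hS hgx
  by_cases ha : a = 0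
  · subst ha
    have hb : b ≠ 0 := fun e => hx1 (by rw [e, uS_zero])
    simp only [mul_zero, add_zero] at e2
    have h2 : th m (z : F) * b = b := by
      linear_combination e2 - (d + th m c * c) * two hS
    refine Units.ext (th_inj hS (m := m) ?_)
    rw [Units.val_one, th_one]
    exact mul_right_cancel₀ hb (h2.trans (one_mul b).symm)
  · have h1 : par m (z : F) * a = a := by linear_combination e1 - c * two hS
    exact par_eq_one hS (mul_right_cancel₀ ha (h1.trans (one_mul a).symm))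

theorem eq_one_or_of_fix {z : Fˣ} (hz : z ≠ 1) {o : Option (F × F)}
    (h : hTor hS z • pt m o = pt m o) : o = none ∨ o = some (0, 0) := by
  rcases o with _ | ⟨x, y⟩
  · exact Or.inl rfl
  right
  by_contra hne
  have hxy : ¬ (x = 0 ∧ y = 0) := fun e => hne (by rw [e.1, e.2])
  have h0 := eq_one_of_fix_three hS hxy (hTor_inf hS z) (by rw [hTor_pt]; simp) h
  rw [← hTor_one hS] at h0
  exact hz (hTor_injective hS h0)

theorem hTor_eq_inv {z : Fˣ} (h : hTor hS z = (hTor hS z)⁻¹) : z = 1 := by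
  rw [hTor_inv] at h
  have h' : (z : F) ^ 2 = (1 : F) ^ 2 := by
    rw [sq, one_pow, ← Units.val_mul]
    nth_rw 2 [hTor_injective hS h]
    rw [mul_inv_cancel, Units.val_one]
  exact Units.ext (sq_inj hS h')

theorem centralizer_torus {z : Fˣ} (hz : z ≠ 1) :
    Subgroup.centralizer ({hTor hS z} : Set ↥(Cfsg.Sz F m)) = torus hS := by
  refine le_antisymm (fun g hg => ?_) (fun g hg => ?_)
  · rw [Subgroup.mem_centralizer_singleton_iff] at hg
    obtain ⟨o, ho⟩ := exists_pt_smul hS g none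
    have hfix : hTor hS z • pt m o = pt m o := by
      rw [← ho, ← mul_smul, ← hg, mul_smul]; exact congrArg _ (hTor_inf hS z)
    obtain ⟨o', ho'⟩ := exists_pt_smul hS g (some (0, 0))
    have hfix' : hTor hS z • pt m o' = pt m o' := by
      rw [← ho', ← mul_smul, ← hg, mul_smul, hTor_pt]; simp
    have hne : o ≠ o' := fun e => Option.some_ne_none ((0 : F), (0 : F))
      (pt_injective (m := m) (MulAction.injective g (ho'.trans (e ▸ ho).symm)))
    rcases eq_one_or_of_fix hS hz hfix with rfl | rfl <;>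
      rcases eq_one_or_of_fix hS hz hfix' with rfl | rfl
    · exact absurd rfl hne
    · obtain ⟨z', rfl⟩ := fix_two hS ho ho'
      exact hTor_mem_torus hS z'
    · exfalso
      obtain ⟨z', hz'⟩ := fix_two hS (g := wS hS * g)
        (by rw [mul_smul]; exact (congrArg _ ho).trans (wS_zero hS))
        (by rw [mul_smul, ho']; exact wS_inf hS)
      have hg' : g = wS hS * hTor hS z' := by rw [← hz', ← mul_assoc, wS_sq, one_mul]
      subst hg'
      rw [mul_assoc, hTor_mul, ← mul_assoc, mul_comm z', ← hTor_mul, ← mul_assoc, wS_hTor] at hg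
      have h2 := mul_left_injective _ (mul_left_injective _ hg)
      rw [← hTor_inv] at h2
      exact hz (hTor_eq_inv hS h2.symm)
    · exact absurd rfl hne
  · obtain ⟨z', rfl⟩ := mem_torus hS hg
    rw [Subgroup.mem_centralizer_singleton_iff, hTor_mul, hTor_mul, mul_comm]

theorem borel_cases {g : ↥(Cfsg.Sz F m)} (hg : g ∈ borel m F) :
    g ∈ unip hS ∨ ∃ v z, z ≠ 1 ∧ g = v * hTor hS z * v⁻¹ := by
  obtain ⟨a, b, z, rfl⟩ := borel_eq hS hg
  by_cases hz : z = 1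
  · exact Or.inl (by rw [hz, hTor_one, mul_one]; exact uS_mem hS a b)
  right
  have hmem : ∀ v : unip hS, (v : ↥(Cfsg.Sz F m)) * (hTor hS z * (v : ↥(Cfsg.Sz F m))⁻¹ * (hTor hS z)⁻¹) ∈ unip hS :=
    fun v => mul_mem v.2
      ((Subgroup.mem_normalizer_iff.1 (borel_le_normalizer hS (hTor_mem_borel hS z)) _).1 (inv_mem v.2))
  let f : unip hS → unip hS := fun v => ⟨_, hmem v⟩
  have hinj : Function.Injective f := by
    intro v w h
    have h' := congrArg Subtype.val h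
    simp only [f] at h'
    have hx : (w : ↥(Cfsg.Sz F m))⁻¹ * v * hTor hS z = hTor hS z * ((w : ↥(Cfsg.Sz F m))⁻¹ * v) := by
      simp only [← mul_assoc, mul_left_inj] at h'
      calc (w : ↥(Cfsg.Sz F m))⁻¹ * v * hTor hS z
          = (w : ↥(Cfsg.Sz F m))⁻¹ * ((v : ↥(Cfsg.Sz F m)) * hTor hS z * (v : ↥(Cfsg.Sz F m))⁻¹) * v := by group
        _ = (w : ↥(Cfsg.Sz F m))⁻¹ * ((w : ↥(Cfsg.Sz F m)) * hTor hS z * (w : ↥(Cfsg.Sz F m))⁻¹) * v := by rw [h']
        _ = _ := by group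
    by_contra hne
    have hx1 : (w : ↥(Cfsg.Sz F m))⁻¹ * v ≠ 1 := fun e => hne (Subtype.ext (inv_mul_eq_one.1 e).symm)
    obtain ⟨c, d, hcd⟩ := (mem_unip hS).1 (centralizer_unip_le hS (mul_mem (inv_mem w.2) v.2) hx1
      (Subgroup.mem_centralizer_singleton_iff.2 hx.symm))
    have := uS_hTor_inj hS (a := (0 : F)) (b := 0) (a' := c) (b' := d) (z := z) (z' := 1)
      (by rw [uS_zero, one_mul, hTor_one, mul_one, hcd])
    exact hz this.2.2
  obtain ⟨v, hv⟩ := Finite.surjective_of_injective hinj ⟨uS hS a b, uS_mem hS a b⟩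
  refine ⟨v, z, hz, ?_⟩
  rw [← show (v : ↥(Cfsg.Sz F m)) * (hTor hS z * (v : ↥(Cfsg.Sz F m))⁻¹ * (hTor hS z)⁻¹) = uS hS a b from
    congrArg Subtype.val hv]
  group

theorem exists_conj_of_fix {g : ↥(Cfsg.Sz F m)} {o : Option (F × F)} (h : g • pt m o = pt m o) :
    ∃ c, c * g * c⁻¹ ∈ unip hS ∨ ∃ z, z ≠ 1 ∧ c * g * c⁻¹ = hTor hS z := by
  obtain ⟨c, hc⟩ := (orbit_inf hS).symm ▸ (mem_ovoid_iff (m := m) (p := pt m o)).2 ⟨o, rfl⟩
  have hb : c⁻¹ * g * c⁻¹⁻¹ ∈ borel m F := by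
    show (c⁻¹ * g * c⁻¹⁻¹) • suzukiPointInfinity F = suzukiPointInfinity F
    rw [inv_inv, mul_smul, show c • suzukiPointInfinity F = pt m o from hc, mul_smul, h,
      inv_smul_eq_iff]
    exact hc.symm
  rcases borel_cases hS hb with hu | ⟨v, z, hz, hv⟩
  · exact ⟨c⁻¹, Or.inl hu⟩
  · refine ⟨v⁻¹ * c⁻¹, Or.inr ⟨z, hz, ?_⟩⟩
    calc v⁻¹ * c⁻¹ * g * (v⁻¹ * c⁻¹)⁻¹ = v⁻¹ * (c⁻¹ * g * c⁻¹⁻¹) * v := by group
      _ = _ := by rw [hv]; group

/-- Every element either has a conjugate in the radical or the torus, or moves every point. -/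
theorem trichotomy (g : ↥(Cfsg.Sz F m)) :
    (∃ c, c * g * c⁻¹ ∈ unip hS) ∨ (∃ c z, z ≠ 1 ∧ c * g * c⁻¹ = hTor hS z) ∨ FPF m g := by
  by_cases h : ∃ o : Option (F × F), g • pt m o = pt m o
  · obtain ⟨o, ho⟩ := h
    obtain ⟨c, hc | ⟨z, hz, hc⟩⟩ := exists_conj_of_fix hS ho
    · exact Or.inl ⟨c, hc⟩
    · exact Or.inr (Or.inl ⟨c, z, hz, hc⟩)
  · push Not at h
    exact Or.inr (Or.inr h)

omit [Fintype F] hS in
theorem FPF.ne_one {g : ↥(Cfsg.Sz F m)} (h : FPF m g) : g ≠ 1 :=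
  fun e => h none (by rw [e, one_smul])

theorem FPF.conj {g : ↥(Cfsg.Sz F m)} (h : FPF m g) (c : ↥(Cfsg.Sz F m)) : FPF m (c * g * c⁻¹) := by
  intro o ho
  obtain ⟨o', ho'⟩ := exists_pt_smul hS c⁻¹ o
  refine h o' ?_
  rw [← ho', ← mul_smul, inv_smul_eq_iff.2]
  rw [smul_smul, ← mul_assoc, ho]

theorem FPF.of_comm {g y : ↥(Cfsg.Sz F m)} (h : FPF m g) (hy : y * g = g * y) (hy1 : y ≠ 1) :
    FPF m y := by
  intro o ho
  obtain ⟨c, hc⟩ := exists_conj_of_fix hS ho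
  have hg : c * g * c⁻¹ ∈ Subgroup.centralizer ({c * y * c⁻¹} : Set ↥(Cfsg.Sz F m)) := by
    rw [Subgroup.mem_centralizer_singleton_iff]
    calc c * g * c⁻¹ * (c * y * c⁻¹) = c * (g * y) * c⁻¹ := by group
      _ = c * (y * g) * c⁻¹ := by rw [hy]
      _ = _ := by group
  rcases hc with hu | ⟨z, hz, hcz⟩
  · exact FPF.conj hS h c none (unip_le_borel hS
      (centralizer_unip_le hS hu (fun e => hy1 (conj_eq_one_iff.1 e)) hg))
  · rw [hcz, centralizer_torus hS hz] at hg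
    obtain ⟨z', hz'⟩ := mem_torus hS hg
    exact FPF.conj hS h c none (by rw [hz']; exact hTor_inf hS z')

theorem FPF.pow {g : ↥(Cfsg.Sz F m)} (h : FPF m g) {k : ℕ} (hk : g ^ k ≠ 1) : FPF m (g ^ k) :=
  FPF.of_comm hS h ((Commute.refl g).pow_left k).eq hk

/-- A subgroup of fixed-point-free elements has order dividing the number of points. -/
theorem card_dvd_of_FPF (K : Subgroup ↥(Cfsg.Sz F m)) (hK : ∀ k ∈ K, k ≠ 1 → FPF m k) :
    Nat.card K ∣ (2 ^ (2 * m + 1)) ^ 2 + 1 := by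
  classical
  rw [← card_ovoid hS]
  haveI : Fintype (Quotient (MulAction.orbitRel K (suzukiOvoid F m))) := Fintype.ofFinite _
  have hfree : ∀ x : suzukiOvoid F m, MulAction.stabilizer K x = ⊥ := by
    intro x
    rw [eq_bot_iff]
    rintro ⟨k, hk⟩ hkx
    rw [Subgroup.mem_bot]
    by_contra hne
    obtain ⟨o, ho⟩ := mem_ovoid_iff.1 x.2
    refine hK k hk (fun e => hne (Subtype.ext e)) o ?_
    rw [ho]
    exact congrArg Subtype.val hkx
  rw [Nat.card_congr (MulAction.selfEquivSigmaOrbitsQuotientStabilizer K (suzukiOvoid F m)), Nat.card_sigma]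
  refine Finset.dvd_sum fun ω _ => ?_
  rw [hfree, Nat.card_congr (QuotientGroup.quotientBot (G := ↥K)).toEquiv]

omit [Field F] [Fintype F] hS in
theorem dvd_coprime {n : ℕ} (hn : n ∣ (2 ^ (2 * m + 1)) ^ 2 + 1) :
    Odd n ∧ Nat.Coprime n (2 ^ (2 * m + 1) - 1) := by
  have h2 : Even (2 ^ (2 * m + 1)) := Nat.even_pow.2 ⟨even_two, by omega⟩
  have hodd : Odd ((2 ^ (2 * m + 1)) ^ 2 + 1) := (h2.pow_of_ne_zero two_ne_zero).add_one
  have hno : Odd n := hodd.of_dvd_nat hn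
  refine ⟨hno, Nat.coprime_of_dvd fun p hp hpn hpq => ?_⟩
  have hp2 : p ≠ 2 := by rintro rfl; exact (Nat.not_even_iff_odd.2 hno) (even_iff_two_dvd.2 hpn)
  have hq : 1 ≤ 2 ^ (2 * m + 1) := Nat.one_le_two_pow
  have h1 : p ∣ (2 ^ (2 * m + 1)) ^ 2 - 1 := by
    rw [show (2 ^ (2 * m + 1)) ^ 2 - 1 = (2 ^ (2 * m + 1) + 1) * (2 ^ (2 * m + 1) - 1) by
      rw [← Nat.sq_sub_sq, one_pow]]
    exact hpq.mul_left _
  have h3 := Nat.dvd_sub (hpn.trans hn) h1
  rw [show (2 ^ (2 * m + 1)) ^ 2 + 1 - ((2 ^ (2 * m + 1)) ^ 2 - 1) = 2 by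
    have : 1 ≤ (2 ^ (2 * m + 1)) ^ 2 := Nat.one_le_pow _ _ hq
    omega] at h3
  exact hp2 ((Nat.prime_dvd_prime_iff_eq hp Nat.prime_two).1 h3)

theorem FPF.orderOf_dvd {g : ↥(Cfsg.Sz F m)} (h : FPF m g) :
    orderOf g ∣ (2 ^ (2 * m + 1)) ^ 2 + 1 := by
  rw [← Nat.card_zpowers]
  refine card_dvd_of_FPF hS _ fun k hk hk1 => ?_
  obtain ⟨i, rfl⟩ := (mem_powers_iff_mem_zpowers (G := ↥(Cfsg.Sz F m))).2 hk
  exact FPF.pow hS h hk1

end Cfsg.Agent.Suz
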