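import Cfsg.Prelude.Def_LieExceptional

/-! The Suzuki–Tits ovoid: the quadratic-exponential form, and the elements of the Suzuki group
fixing the point at infinity, fixing both base points, and exchanging them. -/

set_option autoImplicit false

namespace Cfsg.Agent.Suz

open Matrix

/-- The standing hypothesis: the field has `2 ^ (2 m + 1)` elements, `m ≥ 1`. -/
structure SzField (F : Type*) [Field F] [Fintype F] (m : ℕ) : Prop where
  one_le : 1 ≤ m
  card : Fintype.card F = 2 ^ (2 * m + 1)

variable {F : Type*} [Field F] {m : ℕ}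

/-- The map `x ↦ x ^ σ`. -/
def th (m : ℕ) (x : F) : F := x ^ (2 ^ (m + 1))

/-- The defining function of the ovoid. -/
def fo (m : ℕ) (x y : F) : F := x * y + th m x * x ^ 2 + th m y

section

variable [Fintype F] (hS : SzField F m)
include hS

theorem charP : CharP F 2 := by
  haveI : Fact (Nat.Prime 2) := ⟨Nat.prime_two⟩
  exact charP_of_card_eq_prime_pow (f := 2 * m + 1) hS.card

theorem two : (2 : F) = 0 := by
  haveI := charP hS
  exact CharTwo.two_eq_zero

theorem eight_le : 8 ≤ Fintype.card F := by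
  rw [hS.card]
  calc 8 = 2 ^ 3 := rfl
    _ ≤ _ := Nat.pow_le_pow_right (by omega) (by have := hS.one_le; omega)

theorem neg_eq (x : F) : -x = x := by linear_combination (-x) * two hS

theorem th_add (x y : F) : th m (x + y) = th m x + th m y := by
  haveI := charP hS
  haveI : Fact (Nat.Prime 2) := ⟨Nat.prime_two⟩
  exact add_pow_char_pow x y 2 (m + 1)

theorem th_th (x : F) : th m (th m x) = x ^ 2 := by
  unfold th
  rw [← pow_mul, ← pow_add, show m + 1 + (m + 1) = 2 * m + 1 + 1 by ring, pow_succ, pow_mul,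
    ← hS.card, FiniteField.pow_card]

omit [Fintype F] hS in
theorem th_mul (x y : F) : th m (x * y) = th m x * th m y := mul_pow x y _

omit [Fintype F] hS in
theorem th_pow (x : F) (k : ℕ) : th m (x ^ k) = th m x ^ k := by
  unfold th; rw [← pow_mul, ← pow_mul, mul_comm]

omit [Fintype F] hS in
theorem th_one : th m (1 : F) = 1 := one_pow _

omit [Fintype F] hS in
theorem th_zero : th m (0 : F) = 0 := zero_pow (pow_ne_zero _ two_ne_zero)

omit [Fintype F] hS in
theorem th_ne_zero {x : F} (hx : x ≠ 0) : th m x ≠ 0 := pow_ne_zero _ hx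

omit [Fintype F] hS in
theorem th_eq_zero {x : F} : th m x = 0 ↔ x = 0 :=
  ⟨fun h => by_contra fun hx => th_ne_zero hx h, fun h => by rw [h, th_zero]⟩

omit [Fintype F] hS in
theorem th_inv (x : F) : th m x⁻¹ = (th m x)⁻¹ := inv_pow x _

omit [Fintype F] hS in
theorem th_div (x y : F) : th m (x / y) = th m x / th m y := div_pow x y _

theorem sq_inj {x y : F} (h : x ^ 2 = y ^ 2) : x = y := by
  have : (x + y) ^ 2 = 0 := by linear_combination h + (x * y + y ^ 2) * two hS
  have h' := (pow_eq_zero_iff two_ne_zero).1 this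
  linear_combination h' - y * two hS

theorem th_inj {x y : F} (h : th m x = th m y) : x = y :=
  sq_inj hS (by rw [← th_th hS x, h, th_th hS])

/-- Only `0` and `1` are fixed by `σ`. -/
theorem th_fixed {x : F} (h : th m x = x) : x = 0 ∨ x = 1 := by
  have h2 := th_th hS x
  rw [h, h] at h2
  have : x * (x - 1) = 0 := by linear_combination (-1 : F) * h2
  rcases mul_eq_zero.1 this with e | e
  · exact Or.inl e
  · exact Or.inr (sub_eq_zero.1 e)

/-- `t ^ σ + t` never equals one. -/
theorem th_add_self_ne_one (t : F) : th m t + t ≠ 1 := by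
  intro h
  have h2 : th m t = t + 1 := by linear_combination h - t * two hS
  have h3 := th_th hS t
  rw [h2, th_add hS, th_one, h2] at h3
  have : t * (t - 1) = 0 := by linear_combination (-1 : F) * h3 + two hS
  rcases mul_eq_zero.1 this with e | e
  · subst e; rw [th_zero, zero_add] at h; exact zero_ne_one h
  · obtain rfl := sub_eq_zero.1 e
    rw [th_one] at h
    exact one_ne_zero (α := F) (by linear_combination two hS - h)

theorem pow_succ_th_inj {k : F} (hk : k ≠ 0) (h : th m k * k = 1) : k = 1 := by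
  have h1 := congrArg (th m) h
  rw [th_mul, th_th hS, th_one] at h1
  refine mul_left_cancel₀ (mul_ne_zero (th_ne_zero (m := m) hk) hk) ?_
  linear_combination h1 - h

/-- The map `k ↦ k ^ (σ + 1)` is onto. -/
theorem exists_th_mul_self (c : F) : ∃ k, th m k * k = c := by
  have hinj : Function.Injective fun k : F => th m k * k := by
    intro a b h
    simp only at h
    by_cases hb : b = 0
    · subst hb
      rcases mul_eq_zero.1 (h.trans (mul_zero _)) with e | e
      · exact th_eq_zero.1 e
      · exact e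
    have ha : a ≠ 0 := by
      rintro rfl
      rw [mul_zero] at h
      exact mul_ne_zero (th_ne_zero hb) hb h.symm
    have h' : th m (a / b) * (a / b) = 1 := by
      rw [th_div, div_mul_div_comm, h, div_self (mul_ne_zero (th_ne_zero hb) hb)]
    exact (div_eq_one_iff_eq hb).1 (pow_succ_th_inj hS (div_ne_zero ha hb) h')
  exact Finite.surjective_of_injective hinj c

theorem fo_zero : fo m (0 : F) 0 = 0 := by simp [fo, th_zero]

theorem fo_add (a b x y : F) :
    fo m (x + a) (y + th m a * x + b) =
      fo m x y + (b + th m a * a) * x + a * y + fo m a b := by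
  simp only [fo, th_add hS, th_mul, th_th hS]
  linear_combination (th m a * x ^ 2 + th m x * a ^ 2 + th m x * x * a + th m a * x * a) * two hS

theorem fo_eq_zero {x y : F} (h : fo m x y = 0) : x = 0 ∧ y = 0 := by
  by_cases hx : x = 0
  · subst hx
    simp [fo, th_zero] at h
    exact ⟨rfl, th_eq_zero.1 h⟩
  exfalso
  have hc : th m x * x ≠ 0 := mul_ne_zero (th_ne_zero hx) hx
  set t := y / (th m x * x) with ht
  have hy : y = th m x * x * t := by rw [ht, mul_div_cancel₀ _ hc]
  have h1 : x ^ 2 * th m x * (t + 1 + th m t) = 0 := by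
    rw [← h, fo, hy, th_mul, th_mul, th_th hS]
    ring
  rcases mul_eq_zero.1 h1 with e | e
  · exact mul_ne_zero (pow_ne_zero _ hx) (th_ne_zero hx) e
  · exact th_add_self_ne_one hS t (by linear_combination e - two hS)

theorem fo_inv {x y : F} (h : fo m x y ≠ 0) :
    fo m (y / fo m x y) (x / fo m x y) = 1 / fo m x y := by
  have key : th m (fo m x y) * (fo m x y + x * y) = th m y * y ^ 2 + th m x * fo m x y ^ 2 := by
    simp only [fo, th_add hS, th_mul, th_pow, th_th hS]
    linear_combination (x * y ^ 3) * two hS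
  set f := fo m x y
  have hf := th_ne_zero (m := m) h
  simp only [fo, th_div]
  field_simp
  linear_combination (-1 : F) * key + (th m f * x * y) * two hS

end

/-- The affine points of the ovoid, as vectors. -/
def vv (m : ℕ) (x y : F) : Fin 4 → F := ![fo m x y, y, x, 1]

theorem vv_ne_zero (x y : F) : vv m x y ≠ 0 := fun h => by
  have := congrFun h 3
  simp [vv] at this

/-- The points of the ovoid, parametrised. -/
def pt (m : ℕ) : Option (F × F) → Projectivization F (Fin 4 → F)
  | none => suzukiPointInfinity F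
  | some p => Projectivization.mk F (vv m p.1 p.2) (vv_ne_zero p.1 p.2)

theorem fo_def (x y : F) :
    x * y + x ^ (2 ^ (m + 1) + 2) + y ^ (2 ^ (m + 1)) = fo m x y := by
  simp [fo, th, pow_add]

theorem mem_ovoid_iff {p : Projectivization F (Fin 4 → F)} :
    p ∈ suzukiOvoid F m ↔ ∃ o, pt m o = p := by
  constructor
  · rintro ⟨v, hv, rfl, rfl | ⟨x, y, rfl⟩⟩
    · exact ⟨none, rfl⟩
    · refine ⟨some (x, y), ?_⟩
      simp only [pt]
      congr 1
      rw [vv, fo_def]
  · rintro ⟨o, rfl⟩
    cases o with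
    | none => exact ⟨![1, 0, 0, 0], by simp, rfl, Or.inl rfl⟩
    | some p => exact ⟨vv m p.1 p.2, vv_ne_zero _ _, rfl, Or.inr ⟨p.1, p.2, by rw [vv, fo_def]⟩⟩

theorem pt_zero [Fintype F] (hS : SzField F m) : pt m (some ((0 : F), 0)) = suzukiPointZero F := by
  simp only [pt, suzukiPointZero]
  congr 1
  rw [vv, fo_zero hS]

theorem pt_injective : Function.Injective (pt (F := F) m) := by
  intro o o' h
  rcases o with _ | ⟨x, y⟩ <;> rcases o' with _ | ⟨x', y'⟩ <;>
    simp only [pt, suzukiPointInfinity, Projectivization.mk_eq_mk_iff'] at h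
  · rfl
  · obtain ⟨a, ha⟩ := h
    have := congrFun ha 3
    simp [vv] at this
    subst this
    simpa [vv] using congrFun ha 0
  · obtain ⟨a, ha⟩ := h
    simpa [vv] using congrFun ha 3
  · obtain ⟨a, ha⟩ := h
    have := congrFun ha 3
    simp [vv] at this
    subst this
    have h1 := congrFun ha 1
    have h2 := congrFun ha 2
    simp [vv] at h1 h2
    rw [h1, h2]

theorem smul_mk (g : Matrix.SpecialLinearGroup (Fin 4) F) {v : Fin 4 → F} (hv : v ≠ 0)
    {w : Fin 4 → F} (hw : w ≠ 0) {c : F} (h : g.1 *ᵥ v = c • w) :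
    g • Projectivization.mk F v hv = Projectivization.mk F w hw := by
  rw [Projectivization.smul_mk]
  exact (Projectivization.mk_eq_mk_iff' F _ _ _ _).2 ⟨c, h.symm⟩

variable (m) in
/-- The unipotent matrices. -/
def tMat (a b : F) : Matrix (Fin 4) (Fin 4) F :=
  !![1, a, b + th m a * a, fo m a b; 0, 1, th m a, b; 0, 0, 1, a; 0, 0, 0, 1]

variable (m) in
/-- The torus matrices. -/
def dMat (z : F) : Matrix (Fin 4) (Fin 4) F := diagonal ![z, th m z / z, z / th m z, z⁻¹]

/-- The matrix exchanging the two base points. -/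
def wMat : Matrix (Fin 4) (Fin 4) F := suzukiForm F

theorem det_tMat (a b : F) : (tMat m a b).det = 1 := by
  rw [Matrix.det_of_upperTriangular (by
    intro i j h
    fin_cases i <;> fin_cases j <;> simp [tMat] at h ⊢)]
  simp [tMat, Fin.prod_univ_four]

theorem det_dMat (z : Fˣ) : (dMat m (z : F)).det = 1 := by
  have := z.ne_zero
  have := th_ne_zero (m := m) z.ne_zero
  simp [dMat, Matrix.det_diagonal, Fin.prod_univ_four]
  field_simp

theorem det_wMat : (wMat : Matrix (Fin 4) (Fin 4) F).det = 1 := by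
  simp [wMat, suzukiForm, Matrix.det_succ_row_zero, Fin.sum_univ_succ, Fin.succAbove]
  norm_num

variable (m) in
/-- The unipotent elements. -/
def tEl (a b : F) : Matrix.SpecialLinearGroup (Fin 4) F := ⟨tMat m a b, det_tMat a b⟩

variable (m) in
/-- The torus elements. -/
def dEl (z : Fˣ) : Matrix.SpecialLinearGroup (Fin 4) F := ⟨dMat m (z : F), det_dMat z⟩

/-- The exchanging element. -/
def wEl : Matrix.SpecialLinearGroup (Fin 4) F := ⟨wMat, det_wMat⟩

/-- The scale of the torus element on the first parameter. -/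
def par (m : ℕ) (z : F) : F := z ^ 2 / th m z

section

variable [Fintype F] (hS : SzField F m)
include hS

theorem th_par (z : Fˣ) : th m (par m (z : F)) * par m (z : F) = th m (z : F) := by
  have := z.ne_zero
  have := th_ne_zero (m := m) z.ne_zero
  rw [par, th_div, th_th hS, th_pow]
  field_simp

theorem par_eq_one {z : Fˣ} (h : par m (z : F) = 1) : z = 1 := by
  have h1 := th_par hS z
  rw [h, th_one, one_mul] at h1
  exact Units.ext (th_inj hS (h1.symm.trans th_one.symm))

theorem tMat_vv (a b x y : F) :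
    tMat m a b *ᵥ vv m x y = vv m (x + a) (y + th m a * x + b) := by
  ext i
  fin_cases i <;>
    simp [tMat, vv, Matrix.mulVec, dotProduct, Fin.sum_univ_four, fo_add hS] <;> ring

omit [Fintype F] hS in
theorem tEl_inf (a b : F) : tEl m a b • suzukiPointInfinity F = suzukiPointInfinity F :=
  smul_mk _ _ _ (c := 1) (by
    ext i; fin_cases i <;> simp [tEl, tMat, Matrix.mulVec, dotProduct, Fin.sum_univ_four])

theorem tEl_pt (a b x y : F) :
    tEl m a b • pt m (some (x, y)) = pt m (some (x + a, y + th m a * x + b)) :=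
  smul_mk _ _ _ (c := 1) (by rw [one_smul]; exact tMat_vv hS a b x y)

omit [Fintype F] hS in
theorem dEl_inf (z : Fˣ) : dEl m z • suzukiPointInfinity F = suzukiPointInfinity F :=
  smul_mk _ _ _ (c := (z : F)) (by
    ext i; fin_cases i <;> simp [dEl, dMat, Matrix.mulVec_diagonal])

theorem dEl_pt (z : Fˣ) (x y : F) :
    dEl m z • pt m (some (x, y)) = pt m (some (par m (z : F) * x, th m (z : F) * y)) := by
  refine smul_mk _ _ _ (c := (z : F)⁻¹) ?_
  have hz := z.ne_zero
  have hz' := th_ne_zero (m := m) z.ne_zero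
  have hf : fo m (par m (z : F) * x) (th m (z : F) * y) = (z : F) ^ 2 * fo m x y := by
    simp only [fo, par, th_mul, th_th hS, th_div, th_pow]
    field_simp
  ext i
  fin_cases i <;> simp [dEl, dMat, vv, Matrix.mulVec_diagonal, hf] <;> (try simp only [par]) <;> field_simp

omit [Fintype F] hS in
theorem wEl_inf : (wEl : Matrix.SpecialLinearGroup (Fin 4) F) • suzukiPointInfinity F =
    suzukiPointZero F :=
  smul_mk _ _ _ (c := 1) (by
    ext i; fin_cases i <;>
      simp [wEl, wMat, suzukiForm, Matrix.mulVec, dotProduct, Fin.sum_univ_four])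

omit [Fintype F] hS in
theorem wEl_zero : (wEl : Matrix.SpecialLinearGroup (Fin 4) F) • suzukiPointZero F =
    suzukiPointInfinity F :=
  smul_mk _ _ _ (c := 1) (by
    ext i; fin_cases i <;>
      simp [wEl, wMat, suzukiForm, Matrix.mulVec, dotProduct, Fin.sum_univ_four])

theorem wEl_pt {x y : F} (h : fo m x y ≠ 0) :
    (wEl : Matrix.SpecialLinearGroup (Fin 4) F) • pt m (some (x, y)) = pt m (some (y / fo m x y, x / fo m x y)) := by
  refine smul_mk _ _ _ (c := fo m x y) ?_
  ext i
  fin_cases i <;>
    simp [wEl, wMat, suzukiForm, vv, Matrix.mulVec, dotProduct, Fin.sum_univ_four,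
      fo_inv hS h] <;> field_simp

theorem mem_Sz_of_perm {g : Matrix.SpecialLinearGroup (Fin 4) F}
    (h : ∀ o : Option (F × F), ∃ o', g • pt m o = pt m o') : g ∈ Cfsg.Sz F m := by
  rw [MulAction.mem_stabilizer_set_iff_subset_smul_set (Set.toFinite _)]
  rw [Set.subset_smul_set_iff]
  intro p hp
  obtain ⟨q, hq, rfl⟩ := Set.mem_smul_set.1 hp
  obtain ⟨o, rfl⟩ := mem_ovoid_iff.1 hq
  choose F' hF' using h
  have hinj : Function.Injective F' := fun a b e =>
    pt_injective (m := m) (MulAction.injective g (show g • pt m a = g • pt m b by rw [hF', hF', e]))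
  obtain ⟨o₀, ho₀⟩ := Finite.surjective_of_injective hinj o
  exact mem_ovoid_iff.2 ⟨o₀, by rw [← inv_smul_smul g (pt m o₀), hF', ho₀]⟩

theorem tEl_mem (a b : F) : tEl m a b ∈ Cfsg.Sz F m := mem_Sz_of_perm hS fun o => by
  rcases o with _ | ⟨x, y⟩
  · exact ⟨none, tEl_inf a b⟩
  · exact ⟨_, tEl_pt hS a b x y⟩

theorem dEl_mem (z : Fˣ) : dEl m z ∈ Cfsg.Sz F m := mem_Sz_of_perm hS fun o => by
  rcases o with _ | ⟨x, y⟩
  · exact ⟨none, dEl_inf z⟩
  · exact ⟨_, dEl_pt hS z x y⟩

theorem wEl_mem : (wEl : Matrix.SpecialLinearGroup (Fin 4) F) ∈ Cfsg.Sz F m :=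
  mem_Sz_of_perm hS fun o => by
  rcases o with _ | ⟨x, y⟩
  · exact ⟨some (0, 0), (wEl_inf).trans (pt_zero hS).symm⟩
  · by_cases h : fo m x y = 0
    · obtain ⟨rfl, rfl⟩ := fo_eq_zero hS h
      exact ⟨none, by rw [pt_zero hS]; exact wEl_zero⟩
    · exact ⟨_, wEl_pt hS h⟩

end

end Cfsg.Agent.Suz
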