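import Cfsg.Agent.Lib.Lie.Sz.SylowLie

/-! The smallest degree of a non-trivial complex representation of the Suzuki group. -/

set_option autoImplicit false

namespace Cfsg.Agent.Suz

open Matrix

variable {F : Type*} [Field F] {m : ℕ} [Fintype F] (hS : SzField F m)

/-- The absolute trace as an element of the field. -/
def trF (m : ℕ) (y : F) : F := ∑ i ∈ Finset.range (2 * m + 1), y ^ (2 ^ i)

section
include hS

theorem trF_add (x y : F) : trF m (x + y) = trF m x + trF m y := by
  haveI := charP hS
  haveI : Fact (Nat.Prime 2) := ⟨Nat.prime_two⟩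
  simp only [trF, add_pow_char_pow, Finset.sum_add_distrib]

theorem trF_sq (y : F) : trF m (y ^ 2) = trF m y := by
  have hq : y ^ (2 ^ (2 * m + 1)) = y := by rw [← hS.card, FiniteField.pow_card]
  simp only [trF, ← pow_mul, ← pow_succ']
  rw [Finset.sum_range_succ, Finset.sum_range_succ', hq, pow_zero, pow_one]

theorem trF_mem (y : F) : trF m y = 0 ∨ trF m y = 1 := by
  haveI := charP hS
  haveI : Fact (Nat.Prime 2) := ⟨Nat.prime_two⟩
  have h : trF m y ^ 2 = trF m y := by
    conv_rhs => rw [← trF_sq hS]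
    simp only [trF]
    rw [← frobenius_def, map_sum]
    refine Finset.sum_congr rfl fun i _ => ?_
    rw [frobenius_def, ← pow_mul, ← pow_mul, mul_comm]
  have h' : trF m y * (trF m y - 1) = 0 := by linear_combination h
  rcases mul_eq_zero.1 h' with e | e
  · exact Or.inl e
  · exact Or.inr (sub_eq_zero.1 e)

open Classical in
/-- The canonical additive character. -/
noncomputable def psi : AddChar F ℂ where
  toFun y := if trF m y = 0 then 1 else -1
  map_zero_eq_one' := by simp [trF]
  map_add_eq_mul' x y := by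
    rw [trF_add hS]
    rcases trF_mem hS x with hx | hx <;> rcases trF_mem hS y with hy | hy <;>
      simp [hx, hy, show (1 : F) + 1 = 0 by linear_combination two hS]

theorem psi_sq (y : F) : psi hS (y ^ 2) = psi hS y := by
  simp only [psi, AddChar.coe_mk]
  rw [trF_sq hS]

theorem psi_two_pow (y : F) (k : ℕ) : psi hS (y ^ (2 ^ k)) = psi hS y := by
  induction k with
  | zero => simp
  | succ k ih => rw [pow_succ, pow_mul, psi_sq, ih]

theorem psi_th (y : F) : psi hS (th m y) = psi hS y := psi_two_pow hS y (m + 1)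

theorem psi_mul_self (y : F) : psi hS y * psi hS y = 1 := by
  rw [← AddChar.map_add_eq_mul, show y + y = 0 by linear_combination y * two hS,
    AddChar.map_zero_eq_one]

theorem psi_ne_one : psi hS ≠ 1 := by
  classical
  intro h
  have hall : ∀ y : F, trF m y = 0 := fun y => by
    by_contra hy
    have h1 := DFunLike.congr_fun h y
    change (if trF m y = 0 then (1 : ℂ) else -1) = 1 at h1
    rw [if_neg hy] at h1
    norm_num at h1
  set p : Polynomial F := ∑ i ∈ Finset.range (2 * m + 1), Polynomial.X ^ (2 ^ i) with hp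
  have hp0 : p = 0 := by
    refine Polynomial.eq_zero_of_natDegree_lt_card_of_eval_eq_zero p (f := id)
      Function.injective_id (fun y => ?_) ?_
    · rw [hp, Polynomial.eval_finset_sum]
      simpa [trF] using hall y
    · refine lt_of_le_of_lt (Polynomial.natDegree_sum_le_of_forall_le _ _ fun i hi => ?_)
        (show 2 ^ (2 * m) < Fintype.card F by
          rw [hS.card]; exact Nat.pow_lt_pow_right (by omega) (by omega))
      rw [Polynomial.natDegree_X_pow]
      exact Nat.pow_le_pow_right (by omega) (by simp only [Finset.mem_range] at hi; omega)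
  have hc := congrArg (fun q : Polynomial F => q.coeff 1) hp0
  simp only [hp, Polynomial.finsetSum_coeff, Polynomial.coeff_X_pow, Polynomial.coeff_zero] at hc
  rw [Finset.sum_eq_single 0] at hc
  · simp at hc
  · intro i _ hi
    rw [if_neg]
    intro h
    have := Nat.one_lt_two_pow hi
    omega
  · simp

variable {V : Type*} [AddCommGroup V] [Module ℂ V] [FiniteDimensional ℂ V]
  (ρ : ↥(Cfsg.Sz F m) →* Module.End ℂ V)

/-- The projection to an eigenspace of the centre of the radical. -/
noncomputable def proj (c : F) : Module.End ℂ V :=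
  (Fintype.card F : ℂ)⁻¹ • ∑ b : F, psi hS (c * b) • ρ (uS hS 0 b)

theorem rho_mul_proj (a c : F) :
    ρ (uS hS 0 a) * proj hS ρ c = psi hS (c * a) • proj hS ρ c := by
  classical
  rw [proj, mul_smul_comm, smul_comm (psi hS (c * a) : ℂ) ((Fintype.card F : ℂ)⁻¹)]
  congr 1
  rw [Finset.mul_sum, Finset.smul_sum]
  refine Fintype.sum_equiv (Equiv.addLeft a) _ _ fun b => ?_
  simp only [Equiv.coe_addLeft]
  rw [mul_smul_comm, ← map_mul, uS_mul, th_zero, zero_mul, add_zero, add_zero, smul_smul, mul_add,
    AddChar.map_add_eq_mul, ← mul_assoc, psi_mul_self, one_mul]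

theorem proj_comm (c : F) (p r : F) : ρ (uS hS p r) * proj hS ρ c = proj hS ρ c * ρ (uS hS p r) := by
  rw [proj, mul_smul_comm, smul_mul_assoc, Finset.mul_sum, Finset.sum_mul]
  congr 1
  refine Finset.sum_congr rfl fun b _ => ?_
  rw [mul_smul_comm, smul_mul_assoc, ← map_mul, ← map_mul, uS_mul, uS_mul]
  congr 2
  rw [th_zero]
  congr 1 <;> ring

theorem proj_idem (c : F) : proj hS ρ c * proj hS ρ c = proj hS ρ c := by
  conv_lhs => lhs; rw [proj]
  rw [smul_mul_assoc, Finset.sum_mul]
  have h : ∀ b : F, (psi hS (c * b) • ρ (uS hS 0 b)) * proj hS ρ c = proj hS ρ c := fun b => by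
    rw [smul_mul_assoc, rho_mul_proj, smul_smul, psi_mul_self, one_smul]
  rw [Finset.sum_congr rfl fun b _ => h b, Finset.sum_const, Finset.card_univ, ← Nat.cast_smul_eq_nsmul ℂ,
    smul_smul, inv_mul_cancel₀ (Nat.cast_ne_zero.2 Fintype.card_ne_zero), one_smul]

theorem sum_proj : ∑ c : F, proj hS ρ c = 1 := by
  classical
  have hprim : (psi hS).IsPrimitive := AddChar.IsPrimitive.of_ne_one (psi_ne_one hS)
  simp only [proj, ← Finset.smul_sum]
  rw [Finset.sum_comm]
  simp only [← Finset.sum_smul]
  have hsum : ∀ b : F, ∑ c : F, psi hS (c * b) = if b = 0 then (Fintype.card F : ℂ) else 0 :=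
    fun b => by
      have := AddChar.sum_mulShift b hprim
      rw [this]; split_ifs <;> simp
  simp only [hsum, ite_smul, zero_smul, Finset.sum_ite_eq', Finset.mem_univ, if_true]
  rw [uS_zero, map_one, smul_smul, inv_mul_cancel₀ (Nat.cast_ne_zero.2 Fintype.card_ne_zero), one_smul]

theorem proj_conj (z : Fˣ) (c : F) :
    ρ (hTor hS z) * proj hS ρ (c * th m (z : F)) * ρ (hTor hS z)⁻¹ = proj hS ρ c := by
  have hz := th_ne_zero (m := m) z.ne_zero
  rw [proj, mul_smul_comm, smul_mul_assoc, Finset.mul_sum, Finset.sum_mul, proj]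
  congr 1
  refine Fintype.sum_equiv (Equiv.mulLeft₀ _ hz) _ _ fun b => ?_
  rw [mul_smul_comm, smul_mul_assoc, ← map_mul, ← map_mul, hTor_conj, mul_zero]
  simp [mul_assoc]

/-- The multiplicity of a central character. -/
noncomputable def mult (c : F) : ℕ := Module.finrank ℂ (LinearMap.range (proj hS ρ c))

theorem trace_proj (c : F) : LinearMap.trace ℂ V (proj hS ρ c) = (mult hS ρ c : ℂ) := by
  refine LinearMap.IsProj.trace ⟨fun x => LinearMap.mem_range_self _ x, ?_⟩
  rintro x ⟨y, rfl⟩
  exact DFunLike.congr_fun (proj_idem hS ρ c) y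

theorem mult_eq {c : F} (hc : c ≠ 0) : mult hS ρ c = mult hS ρ 1 := by
  obtain ⟨z, hz⟩ := exists_th_unit hS (m := m) c⁻¹ (inv_ne_zero hc)
  have h := proj_conj hS ρ z c
  rw [hz, mul_inv_cancel₀ hc] at h
  have h2 : LinearMap.trace ℂ V (proj hS ρ c) = LinearMap.trace ℂ V (proj hS ρ 1) := by
    rw [← h, LinearMap.trace_mul_comm, ← mul_assoc, ← map_mul, inv_mul_cancel, map_one, one_mul]
  rw [trace_proj, trace_proj] at h2
  exact_mod_cast h2

theorem sum_mult : ∑ c : F, mult hS ρ c = Module.finrank ℂ V := by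
  have h := congrArg (LinearMap.trace ℂ V) (sum_proj hS ρ)
  rw [map_sum, LinearMap.trace_one, Finset.sum_congr rfl fun c _ => trace_proj hS ρ c] at h
  exact_mod_cast h

theorem finrank_ge (hd : mult hS ρ 1 ≠ 0) : 2 ^ m ≤ mult hS ρ 1 := by
  classical
  set P := proj hS ρ 1 with hP
  -- the radical of the commutator form
  let β : F → F → ℂ := fun x e => psi hS (th m x * e + th m e * x)
  let R : AddSubgroup F :=
    { carrier := {x | ∀ e, β x e = 1}
      zero_mem' := fun e => by simp [β, th_zero]
      add_mem' := fun {x y} hx hy e => by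
        have : β (x + y) e = β x e * β y e := by
          simp only [β, th_add hS, ← AddChar.map_add_eq_mul]
          congr 1; ring
        rw [this, hx e, hy e, one_mul]
      neg_mem' := fun {x} hx e => by rw [neg_eq hS]; exact hx e }
  have hR : Nat.card R ≤ 2 := by
    have hsub : ∀ x ∈ R, x = 0 ∨ x = 1 := by
      intro x hx
      obtain ⟨s, hs⟩ : ∃ s : F, s ^ 2 = th m x :=
        Finite.surjective_of_injective (fun a b h => sq_inj hS h) (th m x)
      have hlin : ∀ e, psi hS ((th m x + s) * e) = 1 := by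
        intro e
        have h : β x e = psi hS (th m x * e) * psi hS (th m e * x) :=
          AddChar.map_add_eq_mul (psi hS) _ _
        rw [hx e, ← psi_th hS (th m e * x), th_mul, th_th hS, mul_comm (e ^ 2), ← hs, ← mul_pow,
          psi_sq, ← AddChar.map_add_eq_mul, ← add_mul, hs] at h
        exact h.symm
      have hxs : th m x + s = 0 := by
        by_contra hne
        refine psi_ne_one hS (DFunLike.ext _ _ fun y => ?_)
        have := hlin (y / (th m x + s))
        rw [mul_div_cancel₀ _ hne] at this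
        simpa using this
      have h2 : th m x * (th m x - 1) = 0 := by
        have : s = th m x := by linear_combination hxs - th m x * two hS
        rw [this] at hs
        linear_combination hs
      rcases mul_eq_zero.1 h2 with e | e
      · exact Or.inl (th_eq_zero.1 e)
      · exact Or.inr (th_inj hS (m := m) (by rw [th_one]; exact sub_eq_zero.1 e))
    have hle : Nat.card R ≤ ({0, 1} : Finset F).card := by
      rw [Nat.card_eq_fintype_card, Fintype.card_subtype]
      exact Finset.card_le_card fun x hx => by simpa using hsub x (Finset.mem_filter.1 hx).2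
    exact hle.trans Finset.card_le_two
  let W := LinearMap.range P
  let Q := F ⧸ R
  let T : Q → Module.End ℂ W := fun qc =>
    (P.rangeRestrict).comp ((ρ (uS hS qc.out 0)).comp W.subtype)
  have hfix : ∀ x, P (P x) = P x := fun x => DFunLike.congr_fun (proj_idem hS ρ 1) x
  have key : ∀ a a' : F, a + a' ∉ R → LinearMap.trace ℂ V (ρ ((uS hS a 0)⁻¹ * uS hS a' 0) * P) = 0 := by
    intro a a' hne
    obtain ⟨e, he⟩ : ∃ e, β (a + a') e ≠ 1 := by
      by_contra hcn; push Not at hcn; exact hne hcn
    set u := (uS hS a 0)⁻¹ * uS hS a' 0 with hu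
    obtain ⟨r, hr⟩ : ∃ r, u = uS hS (a + a') r := ⟨_, by rw [hu, uS_inv, uS_mul]⟩
    have hval : β (a + a') e = -1 := by
      rcases mul_self_eq_one_iff.1 (psi_mul_self hS (th m (a + a') * e + th m e * (a + a'))) with h | h
      · exact absurd h he
      · exact h
    have hcom : uS hS e 0 * u * (uS hS e 0)⁻¹ = u * uS hS 0 (th m (a + a') * e + th m e * (a + a')) := by
      rw [hr, uS_inv, uS_mul, uS_mul, uS_mul]
      congr 1
      · linear_combination e * two hS
      · simp only [th_add hS]
        linear_combination (th m e * e) * two hS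
    have hL : LinearMap.trace ℂ V (ρ (uS hS e 0 * u * (uS hS e 0)⁻¹) * P) =
        LinearMap.trace ℂ V (ρ u * P) := by
      rw [map_mul ρ, map_mul ρ, mul_assoc (ρ (uS hS e 0) * ρ u), uS_inv, proj_comm, ← mul_assoc,
        LinearMap.trace_mul_comm, ← mul_assoc, ← mul_assoc, ← map_mul ρ, ← map_mul ρ, ← uS_inv,
        inv_mul_cancel, one_mul]
    rw [hcom, map_mul ρ, mul_assoc, hP, rho_mul_proj, one_mul, mul_smul_comm, map_smul,
      show psi hS (th m (a + a') * e + th m e * (a + a')) = -1 from hval] at hL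
    simp only [neg_smul, one_smul] at hL
    linear_combination (-1 / 2 : ℂ) * hL
  have hli : LinearIndependent ℂ T := by
    rw [Fintype.linearIndependent_iff]
    intro g hg q0
    have hY : ∑ qc, g qc • (ρ (uS hS (qc : Q).out 0) * P) = 0 := by
      refine LinearMap.ext fun v => ?_
      have h1 := congrArg Subtype.val (DFunLike.congr_fun hg ⟨P v, LinearMap.mem_range_self _ _⟩)
      simp only [LinearMap.coe_sum, Finset.sum_apply, LinearMap.smul_apply, LinearMap.zero_apply,
        Submodule.coe_sum, Submodule.coe_smul, Submodule.coe_zero, T] at h1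
      simp only [LinearMap.coe_sum, Finset.sum_apply, LinearMap.smul_apply, LinearMap.zero_apply]
      rw [← h1]
      refine Finset.sum_congr rfl fun qc _ => ?_
      show g qc • (ρ (uS hS qc.out 0) * P) v = g qc • P (ρ (uS hS qc.out 0) (P v))
      rw [← Module.End.mul_apply, hP, proj_comm]
      show g qc • _ = g qc • proj hS ρ 1 (ρ (uS hS qc.out 0) (proj hS ρ 1 v))
      rw [← Module.End.mul_apply (proj hS ρ 1) (ρ (uS hS qc.out 0)), ← proj_comm, Module.End.mul_apply,
        Module.End.mul_apply, hfix v]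
    have h2 := congrArg (fun X => LinearMap.trace ℂ V (ρ ((uS hS q0.out 0)⁻¹) * X)) hY
    simp only [Finset.mul_sum, mul_smul_comm, map_sum, map_smul, mul_zero, map_zero, ← mul_assoc,
      ← map_mul] at h2
    rw [Finset.sum_eq_single q0] at h2
    · rw [inv_mul_cancel, map_one, one_mul, trace_proj, smul_eq_mul] at h2
      exact (mul_eq_zero.1 h2).resolve_right (Nat.cast_ne_zero.2 hd)
    · intro qc _ hne
      rw [key q0.out qc.out fun hmem => hne ?_, smul_zero]
      have : ((q0.out : F) : Q) = ((qc.out : F) : Q) := QuotientAddGroup.eq.2 (by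
        rwa [neg_eq hS])
      simpa using this.symm
    · simp
  have hcard := hli.fintype_card_le_finrank
  rw [Module.finrank_linearMap] at hcard
  have hq : Fintype.card F ≤ 2 * (mult hS ρ 1 * mult hS ρ 1) := by
    rw [← Nat.card_eq_fintype_card, AddSubgroup.card_eq_card_quotient_mul_card_addSubgroup R,
      Nat.card_eq_fintype_card (α := Q), mul_comm]
    exact Nat.mul_le_mul hR hcard
  rw [hS.card, pow_succ, pow_mul', mul_comm] at hq
  by_contra hlt
  push Not at hlt
  nlinarith

/-- The bound. -/
theorem min_degree (hρ : ∃ g, ρ g ≠ 1) :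
    2 ^ m * (2 ^ (2 * m + 1) - 1) ≤ Module.finrank ℂ V := by
  classical
  have hd : mult hS ρ 1 ≠ 0 := by
    intro h0
    have hz : ∀ c : F, c ≠ 0 → proj hS ρ c = 0 := by
      intro c hc
      have h := mult_eq hS ρ hc
      rw [h0] at h
      rw [← LinearMap.range_eq_bot, ← Submodule.finrank_eq_zero]
      exact h
    have h1 : proj hS ρ 0 = 1 := by
      rw [← sum_proj hS ρ, Finset.sum_eq_single 0 (fun c _ hc => hz c hc) (by simp)]
    have hker : ∀ a, ρ (uS hS 0 a) = 1 := fun a => by
      have := rho_mul_proj hS ρ a 0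
      rwa [h1, mul_one, zero_mul, AddChar.map_zero_eq_one, one_smul] at this
    obtain ⟨g, hg⟩ := hρ
    haveI := isSimple hS
    rcases Subgroup.Normal.eq_bot_or_eq_top (H := ρ.ker) (MonoidHom.normal_ker ρ) with e | e
    · have hm : uS hS 0 1 ∈ ρ.ker := hker 1
      rw [e, Subgroup.mem_bot] at hm
      exact uS_ne_one hS (by simp) hm
    · exact hg (MonoidHom.mem_ker.1 (e ▸ Subgroup.mem_top g))
  calc 2 ^ m * (2 ^ (2 * m + 1) - 1) ≤ mult hS ρ 1 * (Fintype.card F - 1) := by
        rw [hS.card]; exact Nat.mul_le_mul_right _ (finrank_ge hS ρ hd)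
    _ = ∑ c ∈ Finset.univ.erase (0 : F), mult hS ρ c := by
        rw [Finset.sum_congr rfl fun c hc => mult_eq hS ρ (Finset.ne_of_mem_erase hc),
          Finset.sum_const, Finset.card_erase_of_mem (Finset.mem_univ _), Finset.card_univ,
          smul_eq_mul, mul_comm]
    _ ≤ ∑ c : F, mult hS ρ c := Finset.sum_le_sum_of_subset (Finset.erase_subset _ _)
    _ = _ := sum_mult hS ρ

theorem lie_min_degree (k : ℕ)
    (ρ' : Representation ℂ (Cfsg.Lie.Sz F (2 ^ (m + 1))) (Fin k → ℂ)) (hirr : ρ'.IsIrreducible)
    (hk : 2 ≤ k) : 2 ^ m * (2 ^ (2 * m + 1) - 1) ≤ k := by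
  have h := min_degree hS ((ρ' : ↥(Cfsg.Lie.Sz F (2 ^ (m + 1))) →* Module.End ℂ (Fin k → ℂ)).comp
    (szEquiv hS).toMonoidHom) ?_
  · simpa using h
  by_contra hcon
  push Not at hcon
  have htriv : ∀ g v, ρ' g v = v := fun g v => by
    obtain ⟨g', rfl⟩ := (szEquiv hS).surjective g
    exact DFunLike.congr_fun (hcon g') v
  haveI := hirr
  let e0 : Fin k → ℂ := Pi.single (⟨0, by omega⟩ : Fin k) 1
  let W : Subrepresentation ρ' := ⟨ℂ ∙ e0, fun g v hv => by rw [htriv]; exact hv⟩
  rcases eq_bot_or_eq_top W with h | h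
  · have h' := congrArg Subrepresentation.toSubmodule h
    have : (Pi.single (⟨0, by omega⟩ : Fin k) (1 : ℂ) : Fin k → ℂ) = 0 :=
      Submodule.span_singleton_eq_bot.1 h'
    simpa using congrFun this ⟨0, by omega⟩
  · have h' := congrArg Subrepresentation.toSubmodule h
    have hfr : Module.finrank ℂ (ℂ ∙ e0) = k := by
      rw [show (ℂ ∙ e0) = ⊤ from h']; simp
    rw [finrank_span_singleton (show e0 ≠ 0 by simp [e0])] at hfr
    omega

end

end Cfsg.Agent.Suz
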